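import Cfsg.Statements.S3741
import Cfsg.Agent.Lib.FGS.Basic

set_option autoImplicit false
open Cfsg

namespace Cfsg.Agent.S3741

theorem relIndex_centralizer_le {G : Type*} [Group G] [Finite G] (X : Subgroup G) (t : G) (C : Subgroup G)
    (hC : ∀ x ∈ X, x * t * x⁻¹ * t⁻¹ ∈ C) :
    (X ⊓ Subgroup.centralizer ({t} : Set G)).relIndex X ≤ Nat.card C := by
  classical
  set K := (X ⊓ Subgroup.centralizer ({t} : Set G)).subgroupOf X with hK
  let g : X ⧸ K → C := fun q => ⟨(q.out : G) * t * (q.out : G)⁻¹ * t⁻¹, hC _ q.out.2⟩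
  have hg : Function.Injective g := by
    intro q₁ q₂ h
    have h1 : (q₁.out : G) * t * (q₁.out : G)⁻¹ * t⁻¹ = (q₂.out : G) * t * (q₂.out : G)⁻¹ * t⁻¹ :=
      congrArg Subtype.val h
    have h2 : (q₁.out : G) * t * (q₁.out : G)⁻¹ = (q₂.out : G) * t * (q₂.out : G)⁻¹ :=
      mul_right_cancel h1
    have h3 : q₁.out⁻¹ * q₂.out ∈ K := by
      refine Subgroup.mem_subgroupOf.mpr (Subgroup.mem_inf.mpr ⟨(q₁.out⁻¹ * q₂.out).2, ?_⟩)
      rw [Subgroup.mem_centralizer_singleton_iff]
      simp only [Subgroup.coe_mul, Subgroup.coe_inv]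
      calc (q₁.out : G)⁻¹ * q₂.out * t = (q₁.out : G)⁻¹ * (q₂.out * t * (q₂.out : G)⁻¹) * q₂.out := by group
        _ = (q₁.out : G)⁻¹ * (q₁.out * t * (q₁.out : G)⁻¹) * q₂.out := by rw [h2]
        _ = t * ((q₁.out : G)⁻¹ * q₂.out) := by group
    have h4 := (QuotientGroup.eq (s := K)).mpr h3
    rwa [QuotientGroup.out_eq', QuotientGroup.out_eq'] at h4
  exact Nat.card_le_card_of_injective g hg

theorem aux {G : Type*} [Group G] [Finite G] {p : ℕ} [Fact p.Prime] (hG : IsPGroup p G) (A B : Subgroup G)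
    (hcard : Nat.card ↥⁅A, B⁆ ≤ p) :
    (A ⊓ Subgroup.centralizer (B : Set G)).relIndex A ≤ (B ⊓ Subgroup.centralizer (A : Set G)).relIndex B := by
  classical
  have hpp : p.Prime := Fact.out
  set D := B ⊓ Subgroup.centralizer (A : Set G) with hD
  have hQD : D ≤ B ∧ D ≤ D ∧ (A ⊓ Subgroup.centralizer (D : Set G)).relIndex A ≤ D.relIndex D := by
    refine ⟨inf_le_left, le_refl _, ?_⟩
    have h1 : A ≤ A ⊓ Subgroup.centralizer (D : Set G) := by
      apply le_inf le_rfl
      intro a ha
      rw [Subgroup.mem_centralizer_iff]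
      intro d hd
      exact (Subgroup.mem_centralizer_iff.mp (Subgroup.mem_inf.mp hd).2 a ha).symm
    rw [Subgroup.relIndex_eq_one.mpr h1, Subgroup.relIndex_self]
  obtain ⟨T, -, hT⟩ := Finite.exists_le_maximal
    (p := fun T : Subgroup G => T ≤ B ∧ D ≤ T ∧ (A ⊓ Subgroup.centralizer (T : Set G)).relIndex A ≤ D.relIndex T)
    (a := D) hQD
  obtain ⟨hTB, hDT, hTle⟩ := hT.prop
  have hTeq : T = B := by
    apply le_antisymm hTB
    intro t ht
    by_contra htT
    set T' := T ⊔ Subgroup.zpowers t with hT'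
    have hTT' : T ≤ T' := le_sup_left
    have htT' : t ∈ T' := Subgroup.mem_sup_right (Subgroup.mem_zpowers t)
    have hT'B : T' ≤ B := sup_le hTB (Subgroup.zpowers_le.mpr ht)
    set X := A ⊓ Subgroup.centralizer (T : Set G) with hX
    set X' := A ⊓ Subgroup.centralizer (T' : Set G) with hX'
    have hX'X : X' ≤ X := by
      apply le_inf inf_le_left
      exact inf_le_right.trans (Subgroup.centralizer_le hTT')
    have hXA : X ≤ A := inf_le_left
    have hX'eq : X' = X ⊓ Subgroup.centralizer ({t} : Set G) := by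
      apply le_antisymm
      · apply le_inf hX'X
        intro x hx
        rw [Subgroup.mem_centralizer_singleton_iff]
        exact (Subgroup.mem_centralizer_iff.mp (Subgroup.mem_inf.mp hx).2 t htT').symm
      · intro x hx
        obtain ⟨hx1, hx2⟩ := Subgroup.mem_inf.mp hx
        obtain ⟨hx3, hx4⟩ := Subgroup.mem_inf.mp hx1
        refine Subgroup.mem_inf.mpr ⟨hx3, ?_⟩
        have hle : T' ≤ Subgroup.centralizer ({x} : Set G) := by
          apply sup_le
          · intro y hy
            rw [Subgroup.mem_centralizer_singleton_iff]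
            exact (Subgroup.mem_centralizer_iff.mp hx4 y hy)
          · rw [Subgroup.zpowers_le, Subgroup.mem_centralizer_singleton_iff]
            exact (Subgroup.mem_centralizer_singleton_iff.mp hx2).symm
        rw [Subgroup.mem_centralizer_iff]
        intro y hy
        exact Subgroup.mem_centralizer_singleton_iff.mp (hle hy)
    have hindex : X'.relIndex X ≤ p := by
      rw [hX'eq]
      refine (relIndex_centralizer_le X t ⁅A, B⁆ ?_).trans hcard
      intro x hx
      exact Subgroup.commutator_mem_commutator (hXA hx) ht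
    have hTge : p ≤ T.relIndex T' := by
      obtain ⟨n, hn⟩ := (hG.to_subgroup T').index (T.subgroupOf T')
      have h0 : n ≠ 0 := by
        rintro rfl
        rw [pow_zero] at hn
        have h1 : T.relIndex T' = 1 := hn
        rw [Subgroup.relIndex_eq_one] at h1
        exact htT (h1 htT')
      have h1 : T.relIndex T' = p ^ n := hn
      rw [h1]
      exact Nat.le_self_pow h0 p
    have hnew : T' ≤ B ∧ D ≤ T' ∧ (A ⊓ Subgroup.centralizer (T' : Set G)).relIndex A ≤ D.relIndex T' := by
      refine ⟨hT'B, hDT.trans hTT', ?_⟩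
      rw [← Subgroup.relIndex_mul_relIndex X' X A hX'X hXA, ← Subgroup.relIndex_mul_relIndex D T T' hDT hTT', mul_comm]
      calc X.relIndex A * X'.relIndex X ≤ D.relIndex T * p := Nat.mul_le_mul hTle hindex
        _ ≤ D.relIndex T * T.relIndex T' := Nat.mul_le_mul_left _ hTge
    have := hT.le_of_ge hnew hTT'
    exact htT (this htT')
  rw [hTeq] at hTle
  exact hTle


/-- Let A and B be subgroups of a finite p-group with [A, B] ≤ A ∩ B and [A, B] of order at most p. Then |A : C_A(B)| = |B : C_B(A)|. -/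
theorem result {G : Type*} [Group G] [Finite G] {p : ℕ} [Fact p.Prime] (hG : IsPGroup p G) (A B : Subgroup G) (hAB : ⁅A, B⁆ ≤ A ⊓ B) (hcard : Nat.card ↥⁅A, B⁆ ≤ p) : (A ⊓ Subgroup.centralizer (B : Set G)).relIndex A = (B ⊓ Subgroup.centralizer (A : Set G)).relIndex B := by
  apply le_antisymm
  · exact aux hG A B hcard
  · apply aux hG B A
    rw [Subgroup.commutator_comm]
    exact hcard

end Cfsg.Agent.S3741
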