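import Cfsg.Statements.S5091
import Cfsg.Agent.Lib.MX.Emb

set_option autoImplicit false
open Cfsg

namespace Cfsg.Agent.S5091

/-- Model Theorem, uniqueness: two models of a constrained saturated fusion system over a finite p-group S are isomorphic by an isomorphism compatible with the two embeddings of S. -/
theorem result {Ω : Type*} [Group Ω] {S : Subgroup Ω} [Finite S] (p : ℕ) [Fact p.Prime] (hS : IsPGroup p S) (F : Cfsg.FusionSystem S) (hF : F.IsConstrained p) {G₁ G₂ : Type*} [Group G₁] [Group G₂] (ι₁ : S →* G₁) (ι₂ : S →* G₂) (h₁ : F.IsModel p G₁ ι₁) (h₂ : F.IsModel p G₂ ι₂) : ∃ φ : G₁ ≃* G₂, ∀ x : S, φ (ι₁ x) = ι₂ x := by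
  classical
  have h₁' := h₁
  have h₂' := h₂
  obtain ⟨hfin₁, hreal₁, ⟨T₁, hT₁⟩, hC₁⟩ := h₁'
  obtain ⟨hfin₂, hreal₂, ⟨T₂, hT₂⟩, hC₂⟩ := h₂'
  have hJ₁r : pCore p G₁ ≤ ι₁.range := hT₁ ▸ CfsgLib.PLocal.pCore_le_sylow T₁
  have hJ₂r : pCore p G₂ ≤ ι₂.range := hT₂ ▸ CfsgLib.PLocal.pCore_le_sylow T₂
  have hle₁ : CfsgLib.Fusion.preIota ι₁ (pCore p G₁) ≤ CfsgLib.Fusion.preIota ι₂ (pCore p G₂) :=
    CfsgLib.Fusion.le_of_isNormal hS F (CfsgLib.Fusion.model_core_centric h₂) (CfsgLib.Fusion.model_core_radical hS h₂)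
      (CfsgLib.Fusion.isNormal_of_realized hreal₁ _ CfsgLib.PLocal.pCore_normal' hJ₁r)
  have hle₂ : CfsgLib.Fusion.preIota ι₂ (pCore p G₂) ≤ CfsgLib.Fusion.preIota ι₁ (pCore p G₁) :=
    CfsgLib.Fusion.le_of_isNormal hS F (CfsgLib.Fusion.model_core_centric h₁) (CfsgLib.Fusion.model_core_radical hS h₁)
      (CfsgLib.Fusion.isNormal_of_realized hreal₂ _ CfsgLib.PLocal.pCore_normal' hJ₂r)
  obtain ⟨θ₁, hθ₁, hθ₁e⟩ := CfsgLib.MX.embed_of_core_eq h₁ h₂ (le_antisymm hle₁ hle₂)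
  obtain ⟨θ₂, hθ₂, -⟩ := CfsgLib.MX.embed_of_core_eq h₂ h₁ (le_antisymm hle₂ hle₁)
  have hc : Nat.card G₁ = Nat.card G₂ :=
    le_antisymm (Nat.card_le_card_of_injective _ hθ₁) (Nat.card_le_card_of_injective _ hθ₂)
  have hb : Function.Bijective θ₁ := (Nat.bijective_iff_injective_and_card θ₁).mpr ⟨hθ₁, hc⟩
  exact ⟨MulEquiv.ofBijective θ₁ hb, fun x => hθ₁e x⟩

end Cfsg.Agent.S5091
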