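import Cfsg.Statements.S0985
import Cfsg.Agent.Lib.H9.Count

set_option autoImplicit false
open Cfsg

namespace Cfsg.Agent.S0985

/-- If the number of Sylow p-subgroups of a finite group is not congruent to 1 modulo p^k, then there are two distinct Sylow p-subgroups P and R such that the index of P ∩ R in P is at most p^(k-1). -/
theorem result {G : Type*} [Group G] [Finite G] (p k : ℕ) [Fact p.Prime] (h : ¬ Nat.card (Sylow p G) ≡ 1 [MOD p ^ k]) : ∃ P R : Sylow p G, P ≠ R ∧ ((R : Subgroup G).subgroupOf (P : Subgroup G)).index ≤ p ^ (k - 1) := by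
  classical
  by_contra hcon
  push Not at hcon
  apply h
  let P : Sylow p G := default
  have hp := (Fact.out : p.Prime)
  refine CfsgLib.H9.card_modEq_one_of_orbits (H := ↥(P : Subgroup G)) P ?_ _ ?_
  · rintro ⟨u, hu⟩
    rw [Subgroup.mk_smul, Sylow.smul_eq_iff_mem_normalizer]
    exact Subgroup.le_normalizer hu
  · intro R hR
    have hlt := hcon P R hR.symm
    -- stabiliser
    have hstab : MulAction.stabilizer (↥(P : Subgroup G)) R = (R : Subgroup G).subgroupOf (P : Subgroup G) := by
      ext ⟨u, hu⟩
      rw [MulAction.mem_stabilizer_iff, Subgroup.mem_subgroupOf, Subgroup.mk_smul, Sylow.smul_eq_iff_mem_normalizer]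
      have hPg : IsPGroup p (P : Subgroup G) := P.isPGroup'
      have := hPg.inf_normalizer_sylow R
      constructor
      · intro hn
        have h2 : u ∈ (P : Subgroup G) ⊓ Subgroup.normalizer (R : Set G) := ⟨hu, hn⟩
        rw [this] at h2
        exact h2.2
      · intro hn
        exact Subgroup.le_normalizer hn
    have hcard : Nat.card (MulAction.orbit (↥(P : Subgroup G)) R) = ((R : Subgroup G).subgroupOf (P : Subgroup G)).index := by
      rw [← hstab, MulAction.index_stabilizer, Nat.card_coe_set_eq]
    rw [hcard]
    obtain ⟨n, hn⟩ := (P.isPGroup').index ((R : Subgroup G).subgroupOf (P : Subgroup G))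
    rw [hn] at hlt ⊢
    have := (Nat.pow_lt_pow_iff_right hp.one_lt).1 hlt
    exact pow_dvd_pow p (by omega)

end Cfsg.Agent.S0985
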