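import Cfsg.Statements.S0494
import Cfsg.Agent.S0985
import Cfsg.Agent.S0991
import Cfsg.Agent.Lib.H9.SimpleTools
import Cfsg.Agent.Lib.Char.Burnside

set_option autoImplicit false
open Cfsg

namespace Cfsg.Agent.S0494

/-- A simple group of order 60 is isomorphic to the alternating group of degree 5. -/
theorem result {G : Type*} [Group G] [Finite G] [IsSimpleGroup G]
    (h : Nat.card G = 60) : Nonempty (G ≃* alternatingGroup (Fin 5)) := by

  classical
  haveI hf2 : Fact (Nat.Prime 2) := ⟨Nat.prime_two⟩
  have hnc : ¬ IsMulCommutative G := by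
    intro hc
    have hpr := CfsgLib.Char.prime_card_of_simple_comm (G := G) (fun a b => hc.is_comm.comm a b)
    rw [h] at hpr
    norm_num at hpr
  -- a subgroup of index 5 exists
  have hsub : ∃ H : Subgroup G, H.index = 5 := by
    have hcofactor := CfsgLib.H9.card_sylow_dvd_cofactor (G := G) (p := 2) (k := 2) (m := 15)
      (by rw [h]; norm_num) (by norm_num)
    obtain ⟨hd, hm⟩ := hcofactor
    have hne : Nat.card (Sylow 2 G) ≠ 1 := CfsgLib.H9.card_sylow_ne_one (by rw [h]; norm_num) (by
      intro k hk
      rw [h] at hk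
      rcases Nat.lt_or_ge k 6 with h6 | h6
      · interval_cases k <;> omega
      · have : (2:ℕ) ^ 6 ≤ 2 ^ k := Nat.pow_le_pow_right (by norm_num) h6
        omega)
    obtain ⟨P⟩ : Nonempty (Sylow 2 G) := inferInstance
    have hPcard : Nat.card (P : Subgroup G) = 2 ^ 2 :=
      CfsgLib.H9.card_sylow_of_factor (p := 2) (k := 2) (m := 15) (by rw [h]; norm_num) (by norm_num) P
    have hidx : ∀ H : Subgroup G, H ≠ ⊤ → H.index ≠ 3 := by
      intro H hH h3
      have := CfsgLib.H9.two_mul_card_dvd_factorial hnc H hH
      rw [h3, h] at this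
      norm_num [Nat.factorial] at this
    have hNindex : ∀ Q : Sylow 2 G, (Subgroup.normalizer ((Q : Subgroup G) : Set G)).index = Nat.card (Sylow 2 G) :=
      fun Q => (Sylow.card_eq_index_normalizer Q).symm
    have hcases : Nat.card (Sylow 2 G) = 3 ∨ Nat.card (Sylow 2 G) = 5 ∨ Nat.card (Sylow 2 G) = 15 := by
      have : Nat.card (Sylow 2 G) ≤ 15 := Nat.le_of_dvd (by norm_num) hd
      generalize Nat.card (Sylow 2 G) = n at *
      interval_cases n <;> simp_all
    rcases hcases with h3 | h5 | h15
    · exfalso
      apply hidx (Subgroup.normalizer ((P : Subgroup G) : Set G))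
      · intro htop
        have := hNindex P
        rw [htop, Subgroup.index_top] at this
        omega
      · rw [hNindex P, h3]
    · exact ⟨_, (hNindex P).trans h5⟩
    · -- two Sylow subgroups meet nontrivially
      obtain ⟨A, B, hAB, hle⟩ := Cfsg.Agent.S0985.result (G := G) 2 2 (by
        rw [h15]; decide)
      have hAcard : Nat.card (A : Subgroup G) = 4 := by
        have := CfsgLib.H9.card_sylow_of_factor (p := 2) (k := 2) (m := 15) (G := G) (by rw [h]; norm_num) (by norm_num) A
        simpa using this
      have hBcard : Nat.card (B : Subgroup G) = 4 := by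
        have := CfsgLib.H9.card_sylow_of_factor (p := 2) (k := 2) (m := 15) (G := G) (by rw [h]; norm_num) (by norm_num) B
        simpa using this
      have hcomm : ∀ Q : Subgroup G, Nat.card Q = 4 → IsMulCommutative Q := by
        intro Q hQ
        have h1 : Nat.card Q = 2 ^ 2 := by rw [hQ]; norm_num
        exact IsPGroup.isMulCommutative_of_card_eq_prime_sq (p := 2) (G := ↥Q) h1
      obtain ⟨D, hD⟩ : ∃ D, D = (A : Subgroup G) ⊓ B := ⟨_, rfl⟩
      have hDA : D ≤ A := by rw [hD]; exact inf_le_left
      have hDB : D ≤ B := by rw [hD]; exact inf_le_right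
      have hDne : D ≠ ⊥ := by
        intro hbot
        have h1 : (B : Subgroup G).subgroupOf (A : Subgroup G) = ⊥ := by
          rw [eq_bot_iff]
          rintro ⟨x, hxA⟩ hx
          have hxD : x ∈ D := by
            rw [hD]
            exact Subgroup.mem_inf.2 ⟨hxA, by simpa [Subgroup.mem_subgroupOf] using hx⟩
          rw [hbot] at hxD
          have : x = 1 := by simpa using hxD
          rw [Subgroup.mem_bot]
          exact Subtype.ext this
        rw [h1, Subgroup.index_bot, hAcard] at hle
        norm_num at hle
      obtain ⟨N, hN⟩ : ∃ N, N = Subgroup.normalizer (D : Set G) := ⟨_, rfl⟩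
      have hAN : (A : Subgroup G) ≤ N := by
        rw [hN]; exact CfsgLib.H9.le_normalizer_of_comm (hcomm _ hAcard) hDA
      have hBN : (B : Subgroup G) ≤ N := by
        rw [hN]; exact CfsgLib.H9.le_normalizer_of_comm (hcomm _ hBcard) hDB
      obtain ⟨m, hm1, hm2⟩ := CfsgLib.H9.card_of_two_sylow N A B hAN hBN hAB
      rw [hAcard] at hm1
      have hNdvd : Nat.card N ∣ 60 := by rw [← h]; exact Subgroup.card_subgroup_dvd_card N
      have hmdvd : m ∣ 15 := by
        rw [hm1] at hNdvd
        exact Nat.dvd_of_mul_dvd_mul_left (by norm_num : 0 < 4) (by simpa using hNdvd)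
      have hNtop : N ≠ ⊤ := by
        intro htop
        have hDn : D.Normal := by
          rw [← Subgroup.normalizer_eq_top_iff, ← hN, htop]
        rcases hDn.eq_bot_or_eq_top with h1 | h1
        · exact hDne h1
        · have h2 : Nat.card D ≤ Nat.card (A : Subgroup G) := Subgroup.card_le_of_le hDA
          rw [h1, Subgroup.card_top, h, hAcard] at h2
          omega
      have hNi : Nat.card N * N.index = 60 := by rw [← h]; exact Subgroup.card_mul_index N
      have hmle : m ≤ 15 := Nat.le_of_dvd (by norm_num) hmdvd
      rw [hm1] at hNi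
      interval_cases m <;> first | omega | skip
      · exact ⟨N, by omega⟩
      · exact absurd (by omega) (hidx N hNtop)
      · exfalso
        apply hNtop
        apply Subgroup.eq_top_of_le_card
        rw [hm1, h]
  obtain ⟨H, hH⟩ := hsub
  have hHne : H ≠ ⊤ := by
    rintro rfl
    simp at hH
  obtain ⟨f, hf⟩ := Cfsg.Agent.S0991.result hnc H hHne
  generalize H.index = n at f hf hH
  subst hH
  have hcard : Nat.card (alternatingGroup (Fin 5)) = 60 := by
    have h1 := two_mul_nat_card_alternatingGroup (α := Fin 5)
    rw [Nat.card_perm, Nat.card_fin, show Nat.factorial 5 = 120 from rfl] at h1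
    omega
  exact ⟨MulEquiv.ofBijective f ((Nat.bijective_iff_injective_and_card f).2 ⟨hf, by rw [h, hcard]⟩)⟩

end Cfsg.Agent.S0494
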