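import Cfsg.Statements.S1073
import Cfsg.Agent.Lib.Tw.SimpleT
import Cfsg.Agent.Lib.Tw.PerfG2
import Cfsg.Agent.Lib.Tw.CoreT

set_option autoImplicit false
open Cfsg

namespace Cfsg.Agent.S1073

open CfsgLib.Chev Cfsg.Lie

set_option synthInstance.maxHeartbeats 400000
set_option synthInstance.maxSize 1024


/-- ²G₂(3^(2m+1)) is simple for `m ≥ 1`. -/
theorem result {K : Type*} [Field K] [Fintype K] {m : ℕ} (hm : 1 ≤ m) (hK : Fintype.card K = 3 ^ (2 * m + 1)) :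
    IsSimpleGroup ↥(Cfsg.Lie.twistedG2 K (3 ^ m)) ∧ ¬ IsMulCommutative ↥(Cfsg.Lie.twistedG2 K (3 ^ m)) := by
  classical
  haveI : CharP K 3 := charP_of_card Nat.prime_three hK
  obtain ⟨φ, hφ, hφ2⟩ := exists_theta Nat.prime_three hK
  have hperf : ∀ x : K, ∃ y : K, y ^ 3 = x := fun x => ⟨φ (φ x), hφ2 x⟩
  obtain ⟨Dt, e', hJ⟩ := g2_td hperf φ hφ2 hφ
  refine Dt.simple_of TG2.extra TG2.braid e' (fun _ => g2Dig [0, 1, 0, 1, 0, 1]) (fun j r hr => g2_τ hperf φ Dt hJ j r hr) ?_ (g2_perfect hperf φ hφ2 hφ rfl hm hK) (g2_core hperf φ hφ2 hφ)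
  intro P hP i j
  rw [Subsingleton.elim i j]

end Cfsg.Agent.S1073
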