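import Cfsg.Statements.S0648
import Cfsg.Agent.Lib.OOL.Repl

set_option autoImplicit false
open Cfsg
open scoped commutatorElement

namespace Cfsg.Agent.S0648

/-- If A acts on B centralizing [B, B], then [B, A] has derived subgroup central in B, and for abelian A and b ∈ B with [[b, A], A, A] = 1 the derived subgroup of the subgroup [b, A] generated by the commutators of b with A has exponent dividing 2. -/
theorem result {G : Type*} [Group G] [Finite G] (A B : Subgroup G) (hAB : A ≤ Subgroup.normalizer (B : Set G)) (hc : ⁅⁅B, B⁆, A⁆ = ⊥) : ⁅⁅B, A⁆, ⁅B, A⁆⁆ ≤ B ⊓ Subgroup.centralizer (B : Set G) ∧ (IsMulCommutative A → ∀ b ∈ B, ⁅⁅(Subgroup.closure {g : G | ∃ a ∈ A, g = b⁻¹ * a * b * a⁻¹}), A⁆, A⁆ = ⊥ → ∀ w ∈ ⁅(Subgroup.closure {g : G | ∃ a ∈ A, g = b⁻¹ * a * b * a⁻¹}), (Subgroup.closure {g : G | ∃ a ∈ A, g = b⁻¹ * a * b * a⁻¹})⁆, w ^ 2 = 1) := by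
  classical
  refine ⟨CfsgLib.OOL.comm_comm_central A B hAB hc, ?_⟩
  intro hAab b hb hK w hw
  have hAc : ∀ a ∈ A, ∀ e ∈ A, a * e = e * a := fun x hx y hy =>
    congrArg Subtype.val (hAab.is_comm.comm ⟨x, hx⟩ ⟨y, hy⟩)
  have hsame : Subgroup.closure {g : G | ∃ a ∈ A, g = b⁻¹ * a * b * a⁻¹} =
      Subgroup.closure {g : G | ∃ a ∈ A, g = ⁅a, b⁻¹⁆} := by
    apply le_antisymm
    · rw [Subgroup.closure_le]
      rintro _ ⟨a, ha, rfl⟩
      have e : b⁻¹ * a * b * a⁻¹ = (⁅a, b⁻¹⁆)⁻¹ := by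
        simp only [commutatorElement_def]; group
      rw [e]
      exact inv_mem (Subgroup.subset_closure ⟨a, ha, rfl⟩)
    · rw [Subgroup.closure_le]
      rintro _ ⟨a, ha, rfl⟩
      have e : ⁅a, b⁻¹⁆ = (b⁻¹ * a * b * a⁻¹)⁻¹ := by
        simp only [commutatorElement_def]; group
      rw [e]
      exact inv_mem (Subgroup.subset_closure ⟨a, ha, rfl⟩)
  rw [hsame] at hK hw
  exact CfsgLib.OOL.comm_sq_all A B hAB hc hAc (inv_mem hb) hK w hw

end Cfsg.Agent.S0648
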