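import Cfsg.Statements.S0654
import Cfsg.Agent.Lib.OOL.ZJ2

set_option autoImplicit false
open Cfsg

namespace Cfsg.Agent.S0654

/-- The ZJ-Theorem for the elementary-abelian Thompson subgroup: for an odd prime p, a finite group G with C_G(O_p(G)) ≤ O_p(G) acting p-stably on its normal p-subgroups, and a Sylow p-subgroup S of G, the subgroup generated by the elements of order dividing p in Z(J_e(S)) is characteristic in G. -/
theorem result {G : Type*} [Group G] [Finite G] {p : ℕ} [Fact p.Prime] (hp : p ≠ 2) (hc : Subgroup.centralizer (Cfsg.pCore p G : Set G) ≤ Cfsg.pCore p G) (hst : ∀ (P : Subgroup G) [P.Normal], IsPGroup p P → Cfsg.IsPStableOn p P) (S : Sylow p G) : ((Cfsg.omegaCenterThompson p ↥(S : Subgroup G)).map (S : Subgroup G).subtype).Characteristic := by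
  have hchar := CfsgLib.OOL.char_of_normal_of_map (p := p) (centerThompsonOf p) CfsgLib.OOL.centerThompsonOf_map S (CfsgLib.OOL.zj_elem hp S hc hst)
  rw [CfsgLib.OOL.omegaCenterThompson_map, Subgroup.characteristic_iff_map_eq]
  intro φ
  rw [← CfsgLib.OOL.omegaOne_map_equiv, (Subgroup.characteristic_iff_map_eq.mp hchar) φ]

end Cfsg.Agent.S0654
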