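import Cfsg.Statements.S0692
import Cfsg.Agent.Lib.H9.RegTable

set_option autoImplicit false
set_option maxRecDepth 100000
open Cfsg

namespace Cfsg.Agent.S0692

/-- Table of the regular group. -/
def T : ℕ := 0x1c01bc077020019000c024016402c031017005201d003403901900dc04402000b4058014008801a008005c02501901c4064008000400a00d01b80500280194066030016805e010013c07102001100380250164043015005400502c008c01802501a402301d00680150140008031009005c04f021013006502901d805c01401400700300114019015000803d02d00b0024025018402f02d004804502100f0007024000c01202500e4008019018c042031007c05b02d01240510100118063025009000f0310138030011002801700d00d002202c003c03b020001007601c01cc0690190030074018017403c028014804e014011c04a011011805d00d01c000202d008402a01d0158011029001c01c01d00c402e021001006802500b8073029016005a015005000901900f802701c00f403a02d0064036020009c04802101e0010024004401b015014c05603100980490150140062009000406d030015005402d018007501800f801603100ec0330290194029021005803701d012c003028001c00e019012000402501c803f02d008c055025013406001d002404702c00fc06b00c00d0014021003802802900e001f01101b4035029007807201501a806f02d006c061024018406c01d01bc00601d00ac041028010004c01800d401302800a8026030007c01e005002c03401c0024053011004c02001001b405f00c018806a028015c021021010804002501dc04b02900a003201c00ac04d0180080078014005400d000000000100c01b800b019017c046029004002d02500e802b0210190067019008001d01d012805902101d0057011009403e004002c06e0000000000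

/-- Entry of the table. -/
def ent (x y : ZMod 11) : ℕ := (T >>> (40 * (x.val * 11 + y.val))) % 2 ^ 40

/-- Second column. -/
def G2 (x y : ZMod 11) : ZMod 11 × ZMod 11 :=
  (((ent x y % 2 ^ 14 / 11 : ℕ) : ZMod 11), ((ent x y % 2 ^ 14 % 11 : ℕ) : ZMod 11))

/-- Parent vector. -/
def par (x y : ZMod 11) : ZMod 11 × ZMod 11 :=
  ((((ent x y >>> 14) % 2 ^ 14 / 11 : ℕ) : ZMod 11), (((ent x y >>> 14) % 2 ^ 14 % 11 : ℕ) : ZMod 11))

/-- Index of generator. -/
def gi (x y : ZMod 11) : ℕ := (ent x y >>> 28) % 4

/-- BFS rank. -/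
def rk (x y : ZMod 11) : ℕ := ent x y >>> 30

theorem ok_one : G2 1 0 = (0, 1) := by decide +kernel

theorem ok_A : ∀ x y : ZMod 11, G2 ((0) * x + (-1) * y) ((1) * x + (0) * y) =
    ((0) * (G2 x y).1 + (-1) * (G2 x y).2, (1) * (G2 x y).1 + (0) * (G2 x y).2) := by
  decide +kernel

theorem ok_B : ∀ x y : ZMod 11, G2 ((2) * x + (4) * y) ((1) * x + (-3) * y) =
    ((2) * (G2 x y).1 + (4) * (G2 x y).2, (1) * (G2 x y).1 + (-3) * (G2 x y).2) := by
  decide +kernel

theorem ok_par : ∀ x y : ZMod 11, (x, y) ≠ (0, 0) → (x, y) ≠ (1, 0) →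
    rk (par x y).1 (par x y).2 < rk x y ∧ par x y ≠ (0, 0) ∧ ((gi x y = 0 ∧ (0) * (par x y).1 + (-1) * (par x y).2 = x ∧ (1) * (par x y).1 + (0) * (par x y).2 = y) ∨ (gi x y = 1 ∧ (2) * (par x y).1 + (4) * (par x y).2 = x ∧ (1) * (par x y).1 + (-3) * (par x y).2 = y)) := by
  decide +kernel

/-- An exceptional sharply doubly transitive group of degree 11^2: the listed matrices generate a subgroup of GL(2,11) of order 120 acting regularly on the non-zero vectors. -/
theorem result (A : Matrix.GeneralLinearGroup (Fin 2) (ZMod 11)) (B : Matrix.GeneralLinearGroup (Fin 2) (ZMod 11)) (hA : (A : Matrix (Fin 2) (Fin 2) (ZMod 11)) = !![0, -1; 1, 0]) (hB : (B : Matrix (Fin 2) (Fin 2) (ZMod 11)) = !![2, 4; 1, -3]) : Nat.card (Subgroup.closure ({A, B} : Set (Matrix.GeneralLinearGroup (Fin 2) (ZMod 11)))) = 120 ∧ ∀ v w : Fin 2 → ZMod 11, v ≠ 0 → w ≠ 0 → ∃! h : Subgroup.closure ({A, B} : Set (Matrix.GeneralLinearGroup (Fin 2) (ZMod 11))), Matrix.mulVec ((h : Matrix.GeneralLinearGroup (Fin 2) (ZMod 11)) : Matrix (Fin 2) (Fin 2) (ZMod 11)) v = w :=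 by
  haveI : Fact (Nat.Prime 11) := ⟨by norm_num⟩
  let genF : ZMod 11 → ZMod 11 → Matrix.GeneralLinearGroup (Fin 2) (ZMod 11) :=
    fun x y => if gi x y = 0 then A else (B)
  have hmain := CfsgLib.H9.RegTable.regular_of_table (q := 11) (S := ({A, B} : Set (Matrix.GeneralLinearGroup (Fin 2) (ZMod 11)))) (G2 := G2) ok_one
    (by
      intro g hg x y
      simp only [Set.mem_insert_iff, Set.mem_singleton_iff] at hg
      rcases hg with rfl | rfl
      · rw [hA]
        exact ok_A x y
      · rw [hB]
        exact ok_B x y)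
    (CfsgLib.H9.RegTable.trans_of_rank rk par genF
      (by
        intro x y _ _
        simp only [genF]
        repeat' split_ifs
        all_goals simp)
      (by
        intro x y h0 h1'
        obtain ⟨h1, h2, h3⟩ := ok_par x y h0 h1'
        rcases h3 with ⟨hi, e1, e2⟩ | ⟨hi, e1, e2⟩
        · have hgen' : genF x y = A := by
            simp [genF, hi]
          rw [hgen', hA]
          exact ⟨h1, h2, e1, e2⟩
        · have hgen' : genF x y = B := by
            simp [genF, hi]
          rw [hgen', hB]
          exact ⟨h1, h2, e1, e2⟩))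
  refine ⟨?_, hmain.2⟩
  rw [hmain.1]
  norm_num

end Cfsg.Agent.S0692
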