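import Cfsg.Statements.S0994
import Cfsg.Agent.Lib.H9.SimpleTools
import Mathlib.Tactic

set_option autoImplicit false
open Cfsg

namespace Cfsg.Agent.S0994

/-- No finite simple group has order 1188 = 2^2 * 3^3 * 11. -/
theorem result {G : Type*} [Group G] [Finite G] [IsSimpleGroup G] : Nat.card G ≠ 1188 := by
  intro h
  have hG : ¬ IsMulCommutative G := CfsgLib.H9.not_isMulCommutative_of_not_prime (by rw [h]; norm_num)
  haveI : Fact (Nat.Prime 11) := ⟨by norm_num⟩
  have h1 : Nat.card G = 11 ^ 1 * 108 := by rw [h]; norm_num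
  have hnd : ¬ 11 ∣ 108 := by norm_num
  let P : Sylow 11 G := default
  have hP := CfsgLib.H9.card_sylow_of_factor h1 hnd P
  rw [pow_one] at hP
  obtain ⟨hd, hm⟩ := CfsgLib.H9.card_sylow_dvd_cofactor h1 hnd
  have hne : Nat.card (Sylow 11 G) ≠ 1 := CfsgLib.H9.card_sylow_ne_one (by rw [h]; norm_num) (by
    intro k hk
    rw [h] at hk
    have h2 : 2 ∣ 11 ^ k := by rw [← hk]; norm_num
    have := Nat.Prime.dvd_of_dvd_pow Nat.prime_two h2
    omega)
  have hmul := CfsgLib.H9.card_normalizer_mul_card_sylow P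
  have hle := Nat.le_of_dvd (by norm_num) hd
  generalize hn : Nat.card (Sylow 11 G) = n at *
  have hn12 : n = 12 := by
    interval_cases n <;> omega
  subst hn12
  have hN : Nat.card (Subgroup.normalizer ((P : Subgroup G) : Set G)) = 99 := by omega
  exact CfsgLib.H9.false_of_coprime hG P hP (by rw [hN]; norm_num)

end Cfsg.Agent.S0994
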