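import Cfsg.Statements.S1249
import Cfsg.Agent.Lib.H3.StrongEmb

set_option autoImplicit false
open Cfsg

namespace Cfsg.Agent.S1249

/-- Let P and Q be Sylow p-subgroups of the finite group G both containing the subgroup A. If A is strongly closed in P, then A is strongly closed in Q. -/
theorem result {G : Type*} [Group G] [Finite G] {p : ℕ} [Fact p.Prime] (P Q : Sylow p G) (A : Subgroup G) (hAQ : A ≤ Q) (hA : Cfsg.IsStronglyClosed A (P : Subgroup G)) : Cfsg.IsStronglyClosed A (Q : Subgroup G) := by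
  obtain ⟨hAP, hA2⟩ := hA
  obtain ⟨h, hh⟩ := MulAction.exists_smul_eq G P Q
  -- `Q = h P h⁻¹`
  have hmemQ : ∀ x, x ∈ (Q : Subgroup G) → h⁻¹ * x * h ∈ (P : Subgroup G) := by
    intro x hx
    rw [← hh, Sylow.coe_subgroup_smul, Subgroup.mem_pointwise_smul_iff_inv_smul_mem] at hx
    simpa [mul_assoc] using hx
  have h1 : ∀ a ∈ A, h⁻¹ * a * h ∈ A := by
    intro a ha
    have h2 := hmemQ a (hAQ ha)
    have h3 := hA2 a ha h⁻¹ (by simpa using h2)
    simpa using h3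
  have h4 : A.map (MulAut.conj h⁻¹).toMonoidHom ≤ A := by
    rintro _ ⟨a, ha, rfl⟩
    simpa using h1 a ha
  have h5 : A.map (MulAut.conj h⁻¹).toMonoidHom = A := by
    apply Subgroup.eq_of_le_of_card_ge h4
    rw [Subgroup.card_map_of_injective (MulAut.conj h⁻¹).injective]
  refine ⟨hAQ, ?_⟩
  intro x hx g hg
  have h6 := hmemQ _ hg
  have h7 : h⁻¹ * (g * x * g⁻¹) * h ∈ A := by
    have := hA2 x hx (h⁻¹ * g) (by
      have e : h⁻¹ * g * x * (h⁻¹ * g)⁻¹ = h⁻¹ * (g * x * g⁻¹) * h := by group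
      rw [e]; exact h6)
    have e : h⁻¹ * g * x * (h⁻¹ * g)⁻¹ = h⁻¹ * (g * x * g⁻¹) * h := by group
    rwa [e] at this
  rw [← h5, CfsgLib.SE.mem_map_conj] at h7
  have e : h⁻¹⁻¹ * (h⁻¹ * (g * x * g⁻¹) * h) * h⁻¹ = g * x * g⁻¹ := by group
  rwa [e] at h7

end Cfsg.Agent.S1249
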