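import Cfsg.Statements.S1250
import Cfsg.Agent.Lib.H3.ConjTools
import Cfsg.Agent.Lib.Lead.SylowConj

set_option autoImplicit false
open Cfsg

namespace Cfsg.Agent.S1250

/-- Let S be a Sylow p-subgroup of the finite group G, A ≤ S strongly closed in S, and N a normal subgroup. Then the image of A in G ⧸ N is strongly closed in the image of S (which is a Sylow p-subgroup of G ⧸ N). -/
theorem result {G : Type*} [Group G] [Finite G] {p : ℕ} [Fact p.Prime] (S : Sylow p G) (A : Subgroup G) (hA : Cfsg.IsStronglyClosed A (S : Subgroup G)) (N : Subgroup G) [N.Normal] : Cfsg.IsStronglyClosed (A.map (QuotientGroup.mk' N)) ((S : Subgroup G).map (QuotientGroup.mk' N)) := by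
  obtain ⟨hAS, hA2⟩ := hA
  refine ⟨Subgroup.map_mono hAS, ?_⟩
  rintro _ ⟨x, hx, rfl⟩ g hg
  induction g using QuotientGroup.induction_on with
  | H g =>
  -- `y = g x g⁻¹`
  set y := g * x * g⁻¹ with hy
  have hyq : (QuotientGroup.mk' N) y = (g : G ⧸ N) * QuotientGroup.mk' N x * (g : G ⧸ N)⁻¹ := by
    rw [hy]; simp
  rw [← hyq] at hg ⊢
  obtain ⟨s, hs, hsy⟩ := hg
  have hyH : y ∈ (S : Subgroup G) ⊔ N := by
    have h1 : s⁻¹ * y ∈ N := by
      have := (QuotientGroup.eq (s := N) (a := s) (b := y)).1 hsy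
      exact this
    have h2 : y = s * (s⁻¹ * y) := by group
    rw [h2]
    exact Subgroup.mul_mem_sup hs h1
  -- y has p-power order
  have hxp : IsPGroup p (Subgroup.zpowers y) := by
    obtain ⟨k, hk⟩ := CfsgLib.CT.pow_eq_one_of_mem_pgroup S.isPGroup' (hAS hx)
    apply CfsgLib.CT.isPGroup_zpowers_of_pow (k := k)
    rw [hy, conj_pow, hk]; group
  obtain ⟨c, hc, hcm⟩ := CfsgLib.Lead.exists_conj_into_sylow S ((S : Subgroup G) ⊔ N) le_sup_left
    (Subgroup.zpowers y) (Subgroup.zpowers_le.2 hyH) hxp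
  have hcy := hcm y (Subgroup.mem_zpowers y)
  obtain ⟨s₂, hs₂, n₂, hn₂, he⟩ := Subgroup.mem_sup_of_normal_right.1 (((S : Subgroup G) ⊔ N).inv_mem hc)
  -- `z = n₂ y n₂⁻¹ ∈ S`
  have hz : n₂ * y * n₂⁻¹ ∈ (S : Subgroup G) := by
    have e : n₂ * y * n₂⁻¹ = s₂⁻¹ * (c⁻¹ * y * c) * s₂ := by
      have hc' : c = (s₂ * n₂)⁻¹ := by rw [he, inv_inv]
      rw [hc']; group
    rw [e]
    exact (S : Subgroup G).mul_mem ((S : Subgroup G).mul_mem ((S : Subgroup G).inv_mem hs₂) hcy) hs₂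
  have hz2 : n₂ * y * n₂⁻¹ ∈ A := by
    have e : n₂ * y * n₂⁻¹ = (n₂ * g) * x * (n₂ * g)⁻¹ := by rw [hy]; group
    rw [e] at hz ⊢
    exact hA2 x hx _ hz
  refine ⟨n₂ * y * n₂⁻¹, hz2, ?_⟩
  have hn1 : (n₂ : G ⧸ N) = 1 := (QuotientGroup.eq_one_iff n₂).2 hn₂
  simp [hn1]

end Cfsg.Agent.S1250
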