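import Cfsg.Statements.S1907
import Cfsg.Agent.Lib.H3.PComp3
import Cfsg.Agent.Lib.H3.CT1
import Cfsg.Agent.Lib.PLocal.ThompsonIn
import Cfsg.Agent.Lib.Solv.Coprime

set_option autoImplicit false
open Cfsg

namespace Cfsg.Agent.S1907

/-- Let P be a Sylow p-subgroup of a finite group G, H = P ∩ O_{p',p}(G), N = N_G(H) and D = O_{p'}(G). (a) If y is an element of p-power order of N and d ∈ D with d⁻¹ y d ∈ N, then d = d₁ d₂ with d₁ ∈ C_D(y) and d₂ ∈ C_D(H). (b) Two elements of P that are conjugate in G are conjugate in N. -/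
theorem result {G : Type*} [Group G] [Finite G] {p : ℕ} [Fact p.Prime] (P : Sylow p G) :
    (∀ y ∈ Subgroup.normalizer (((P : Subgroup G) ⊓ Cfsg.pPrimePCore p G : Subgroup G) : Set G), (∃ k : ℕ, orderOf y = p ^ k) →
      ∀ d ∈ Cfsg.pPrimeCore p G, d⁻¹ * y * d ∈ Subgroup.normalizer (((P : Subgroup G) ⊓ Cfsg.pPrimePCore p G : Subgroup G) : Set G) →
        ∃ d₁ ∈ Cfsg.pPrimeCore p G ⊓ Subgroup.centralizer ({y} : Set G),
          ∃ d₂ ∈ Cfsg.pPrimeCore p G ⊓ Subgroup.centralizer (((P : Subgroup G) ⊓ Cfsg.pPrimePCore p G : Subgroup G) : Set G), d = d₁ * d₂) ∧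
    ∀ x y : G, x ∈ (P : Subgroup G) → y ∈ (P : Subgroup G) → IsConj x y →
      ∃ n ∈ Subgroup.normalizer (((P : Subgroup G) ⊓ Cfsg.pPrimePCore p G : Subgroup G) : Set G), n * x * n⁻¹ = y := by
  classical
  set U := Cfsg.pPrimePCore p G with hU
  set D := Cfsg.pPrimeCore p G with hD
  haveI hDn : D.Normal := CfsgLib.Solv.pPrimeCore_normal' p
  have hDc : (Nat.card D).Coprime p := CfsgLib.Solv.pPrimeCore_coprime p
  have hUn : U.Normal := by
    rw [hU]
    unfold Cfsg.pPrimePCore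
    exact Subgroup.Normal.comap (CfsgLib.Solv.pCore_normal' p) _
  set H := (P : Subgroup G) ⊓ U with hH
  set N := Subgroup.normalizer (H : Set G) with hN
  have hHp : IsPGroup p H := P.isPGroup'.to_le inf_le_left
  have hDH : D ⊓ H = ⊥ := CfsgLib.Comp.inf_bot_of_coprime hDc hHp
  -- `N_D(H)` centralizes `H`
  have hND : ∀ d ∈ D, d ∈ N → d ∈ Subgroup.centralizer (H : Set G) := by
    intro d hdD hdN
    rw [Subgroup.mem_centralizer_iff]
    intro h hh
    have h1 : d * h * d⁻¹ * h⁻¹ ∈ H :=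
      H.mul_mem (CfsgLib.CT.conj_mem_of_mem_normalizer hdN hh) (H.inv_mem hh)
    have h2 : d * h * d⁻¹ * h⁻¹ ∈ D := by
      have h3 : h * d⁻¹ * h⁻¹ ∈ D := hDn.conj_mem _ (D.inv_mem hdD) h
      have h4 : d * h * d⁻¹ * h⁻¹ = d * (h * d⁻¹ * h⁻¹) := by group
      rw [h4]
      exact D.mul_mem hdD h3
    have h3 : d * h * d⁻¹ * h⁻¹ ∈ D ⊓ H := Subgroup.mem_inf.2 ⟨h2, h1⟩
    rw [hDH, Subgroup.mem_bot] at h3
    have h4 : d * h * d⁻¹ = h := by
      rwa [mul_inv_eq_one] at h3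
    rw [mul_inv_eq_iff_eq_mul] at h4
    exact h4.symm
  have hpa : ∀ y ∈ N, (∃ k : ℕ, orderOf y = p ^ k) → ∀ d ∈ D, d⁻¹ * y * d ∈ N →
      ∃ d₁ ∈ D ⊓ Subgroup.centralizer ({y} : Set G),
        ∃ d₂ ∈ D ⊓ Subgroup.centralizer (H : Set G), d = d₁ * d₂ := by
    rintro y hyN ⟨k, hk⟩ d hdD hdy
    set C := D ⊓ Subgroup.centralizer (H : Set G) with hC
    have hyC : y ∈ Subgroup.normalizer (C : Set G) := by
      apply CfsgLib.CT.mem_normalizer_of_conj_le
      intro a ha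
      refine Subgroup.mem_inf.2 ⟨hDn.conj_mem a ha.1 y, ?_⟩
      rw [Subgroup.mem_centralizer_iff]
      intro h hh
      have hh' : y⁻¹ * h * y ∈ H := by
        have := CfsgLib.CT.conj_mem_of_mem_normalizer (Subgroup.inv_mem _ hyN) hh
        simpa using this
      have h1 := Subgroup.mem_centralizer_iff.1 ha.2 _ hh'
      calc h * (y * a * y⁻¹) = y * ((y⁻¹ * h * y) * a) * y⁻¹ := by group
        _ = y * (a * (y⁻¹ * h * y)) * y⁻¹ := by rw [h1]
        _ = _ := by group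
    -- the basic commutator
    have hc : d⁻¹ * y * d * y⁻¹ ∈ C := by
      have h1 : y⁻¹ * (d⁻¹ * y * d) ∈ D := by
        have h2 : y⁻¹ * d⁻¹ * y ∈ D := by
          have := hDn.conj_mem _ (D.inv_mem hdD) y⁻¹
          simpa using this
        have h3 : y⁻¹ * (d⁻¹ * y * d) = (y⁻¹ * d⁻¹ * y) * d := by group
        rw [h3]
        exact D.mul_mem h2 hdD
      have h2 : y⁻¹ * (d⁻¹ * y * d) ∈ N := N.mul_mem (N.inv_mem hyN) hdy
      have h3 : y⁻¹ * (d⁻¹ * y * d) ∈ C := Subgroup.mem_inf.2 ⟨h1, hND _ h1 h2⟩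
      have h4 := CfsgLib.CT.conj_mem_of_mem_normalizer hyC h3
      have h5 : y * (y⁻¹ * (d⁻¹ * y * d)) * y⁻¹ = d⁻¹ * y * d * y⁻¹ := by group
      rwa [h5] at h4
    have hpow : ∀ n : ℕ, d⁻¹ * y ^ n * d * (y ^ n)⁻¹ ∈ C ∧ y ^ n ∈ Subgroup.normalizer (C : Set G) := by
      intro n
      induction n with
      | zero => simp [C.one_mem, Subgroup.one_mem]
      | succ n ih =>
        refine ⟨?_, Subgroup.pow_mem _ hyC _⟩
        have h1 := CfsgLib.CT.conj_mem_of_mem_normalizer ih.2 hc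
        have h2 : d⁻¹ * y ^ (n + 1) * d * (y ^ (n + 1))⁻¹ =
            (d⁻¹ * y ^ n * d * (y ^ n)⁻¹) * (y ^ n * (d⁻¹ * y * d * y⁻¹) * (y ^ n)⁻¹) := by
          rw [pow_succ]; group
        rw [h2]
        exact C.mul_mem ih.1 h1
    have hzp : IsPGroup p (Subgroup.zpowers y) :=
      CfsgLib.CT.isPGroup_zpowers_of_pow (k := k) (by rw [← hk]; exact pow_orderOf_eq_one y)
    have hAK : Subgroup.zpowers y ≤ Subgroup.normalizer (D : Set G) := by
      rw [Subgroup.normalizer_eq_top D]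
      exact le_top
    have hcop : (Nat.card (Subgroup.zpowers y)).Coprime (Nat.card D) := by
      rw [Nat.card_zpowers, hk]
      exact Nat.Coprime.pow_left _ hDc.symm
    have hsol : Group.IsSolvable (Subgroup.zpowers y) := by
      have := hzp.isNilpotent
      infer_instance
    have hAC : Subgroup.zpowers y ≤ Subgroup.normalizer (C : Set G) := by
      rw [Subgroup.zpowers_le]
      exact hyC
    obtain ⟨e, he, hde⟩ := CfsgLib.Solv.exists_fixed_in_coset (D := C) hAK hcop (Or.inl hsol)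
      inf_le_left hAC hdD (x := d) (by
        intro a ha
        obtain ⟨n, rfl⟩ := Submonoid.mem_powers_iff _ _ |>.1 (mem_powers_iff_mem_zpowers.2 ha)
        exact (hpow n).1)
    refine ⟨d * e, ?_, e⁻¹, C.inv_mem he, by group⟩
    refine Subgroup.mem_inf.2 ⟨hde.1, ?_⟩
    rw [Subgroup.mem_centralizer_iff]
    intro z hz
    rw [Set.mem_singleton_iff.1 hz]
    exact Subgroup.mem_centralizer_iff.1 hde.2 y (Subgroup.mem_zpowers y)
  refine ⟨hpa, ?_⟩
  have hUeq : U = H ⊔ D := by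
    obtain ⟨Q, hQ⟩ := CfsgLib.PLocal.exists_sylow_inf_normal P hUn
    have h1 := CfsgLib.Comp.sylow_image_eq hU Q
    rw [hQ] at h1
    have h2 : U = (H.map (QuotientGroup.mk' (Cfsg.pPrimeCore p G))).comap
        (QuotientGroup.mk' (Cfsg.pPrimeCore p G)) := by
      rw [hH, h1]
      rfl
    rw [Subgroup.comap_map_eq, QuotientGroup.ker_mk'] at h2
    exact h2
  have hPN : ∀ z ∈ (P : Subgroup G), z ∈ N := by
    intro z hz
    apply CfsgLib.CT.mem_normalizer_of_conj_le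
    intro a ha
    exact Subgroup.mem_inf.2 ⟨(P : Subgroup G).mul_mem ((P : Subgroup G).mul_mem hz ha.1)
      ((P : Subgroup G).inv_mem hz), hUn.conj_mem a ha.2 z⟩
  intro x y hxP hyP hcj
  obtain ⟨g, hg⟩ := isConj_iff.1 hcj
  have hgN : g ∈ Subgroup.normalizer ((H ⊔ D : Subgroup G) : Set G) := by
    rw [← hUeq, Subgroup.normalizer_eq_top U]
    trivial
  obtain ⟨o, ho, n, hn, rfl⟩ := CfsgLib.Comp.frattini_lift hHp hDc hgN
  set x₁ := n * x * n⁻¹ with hx₁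
  have hx₁N : x₁ ∈ N := N.mul_mem (N.mul_mem hn (hPN x hxP)) (N.inv_mem hn)
  have hy1 : o⁻¹ * y * o = x₁ := by
    rw [← hg, hx₁]
    group
  obtain ⟨k, hk⟩ := (IsPGroup.iff_orderOf.1 P.isPGroup') ⟨y, hyP⟩
  have hk' : orderOf y = p ^ k := by
    rw [← hk]
    exact (Subgroup.orderOf_mk y hyP).symm
  obtain ⟨d₁, hd₁, d₂, hd₂, hod⟩ := hpa y (hPN y hyP) ⟨k, hk'⟩ o ho (by rw [hy1]; exact hx₁N)
  have hd₂N : d₂ ∈ N := by
    apply CfsgLib.CT.mem_normalizer_of_conj_le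
    intro a ha
    have h1 := Subgroup.mem_centralizer_iff.1 hd₂.2 a ha
    rw [← h1]
    simpa using ha
  have hd₁y : d₁ * y = y * d₁ :=
    (Subgroup.mem_centralizer_iff.1 hd₁.2 y rfl).symm
  refine ⟨d₂ * n, N.mul_mem hd₂N hn, ?_⟩
  have h3 : d₂ * x₁ * d₂⁻¹ = y := by
    rw [← hy1, hod]
    calc d₂ * ((d₁ * d₂)⁻¹ * y * (d₁ * d₂)) * d₂⁻¹ = d₁⁻¹ * (y * d₁) := by group
      _ = d₁⁻¹ * (d₁ * y) := by rw [hd₁y]
      _ = y := by group
  rw [← h3, hx₁]
  group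

end Cfsg.Agent.S1907
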