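import Cfsg.Statements.S1921
import Cfsg.Agent.Lib.H3.Comp2
import Cfsg.Agent.Lib.H3.ConjTools

set_option autoImplicit false
open Cfsg

namespace Cfsg.Agent.S1921

/-- Let a be an involution of a finite group H and L a component of H with a L a⁻¹ ≠ L; put M = ⟨L, aLa⁻¹⟩ and let J be the subgroup generated by the elements x · a x a⁻¹ with x ∈ L (the diagonal). Then every element of M outside J·Z(M) generates M together with J. -/
theorem result {H : Type*} [Group H] [Finite H] (a : H) (ha : orderOf a = 2) (L : Subgroup H) (hL : Cfsg.IsComponent L)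
    (hLa : L.map (MulAut.conj a).toMonoidHom ≠ L) (x : H) (hxM : x ∈ L ⊔ L.map (MulAut.conj a).toMonoidHom)
    (hxJ : x ∉ Subgroup.closure {y : H | ∃ l ∈ L, y = l * (a * l * a⁻¹)} ⊔
      ((L ⊔ L.map (MulAut.conj a).toMonoidHom) ⊓ Subgroup.centralizer ((L ⊔ L.map (MulAut.conj a).toMonoidHom : Subgroup H) : Set H))) :
    Subgroup.closure {y : H | ∃ l ∈ L, y = l * (a * l * a⁻¹)} ⊔ Subgroup.zpowers x = L ⊔ L.map (MulAut.conj a).toMonoidHom := by
  classical
  set L' := L.map (MulAut.conj a).toMonoidHom with hL'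
  have hL'c : Cfsg.IsComponent L' := CfsgLib.Comp.component_conj hL a
  have hcomm : ∀ u ∈ L, ∀ v ∈ L', u * v = v * u :=
    CfsgLib.Comp.comm_bot_iff.1 (CfsgLib.Comp.components_commute hL hL'c (Ne.symm hLa))
  set J := Subgroup.closure {y : H | ∃ l ∈ L, y = l * (a * l * a⁻¹)} with hJ
  have hconj : ∀ l ∈ L, a * l * a⁻¹ ∈ L' := fun l hl => CfsgLib.CT.conj_mem_map hl
  have hy : ∀ l ∈ L, l * (a * l * a⁻¹) ∈ J := fun l hl => Subgroup.subset_closure ⟨l, hl, rfl⟩
  set Z := (L ⊔ L') ⊓ Subgroup.centralizer ((L ⊔ L' : Subgroup H) : Set H) with hZ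
  set K := J ⊔ Subgroup.zpowers x with hK
  have hJM : J ≤ L ⊔ L' := by
    refine (Subgroup.closure_le _).2 ?_
    rintro _ ⟨l, hl, rfl⟩
    exact Subgroup.mul_mem_sup hl (hconj l hl)
  obtain ⟨l₁, hl₁, l₂, hl₂, rfl⟩ := CfsgLib.Comp.mem_sup_of_commute hcomm hxM
  set w := (a * l₁ * a⁻¹)⁻¹ * l₂ with hw
  have hwL' : w ∈ L' := L'.mul_mem (L'.inv_mem (hconj l₁ hl₁)) hl₂
  have hyK : ∀ l ∈ L, l * (a * l * a⁻¹) ∈ K := fun l hl => (le_sup_left : J ≤ K) (hy l hl)
  have hxK : l₁ * l₂ ∈ K := (le_sup_right : Subgroup.zpowers (l₁ * l₂) ≤ K) (Subgroup.mem_zpowers _)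
  have hwK : w ∈ K := by
    have h1 : w = (l₁ * (a * l₁ * a⁻¹))⁻¹ * (l₁ * l₂) := by rw [hw]; group
    rw [h1]
    exact K.mul_mem (K.inv_mem (hyK l₁ hl₁)) hxK
  -- `w` is not central in `L'`
  have hwnc : ∃ m ∈ L', w * m ≠ m * w := by
    by_contra hno
    push Not at hno
    apply hxJ
    have hwZ : w ∈ Z := by
      refine Subgroup.mem_inf.2 ⟨(le_sup_right : L' ≤ L ⊔ L') hwL', ?_⟩
      rw [Subgroup.mem_centralizer_iff]
      have h1 : L ⊔ L' ≤ Subgroup.centralizer ({w} : Set H) := by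
        refine sup_le ?_ ?_
        · intro u hu
          exact Subgroup.mem_centralizer_singleton_iff.2 (hcomm u hu w hwL')
        · intro m hm
          exact Subgroup.mem_centralizer_singleton_iff.2 (hno m hm).symm
      intro m hm
      exact (Subgroup.mem_centralizer_singleton_iff.1 (h1 hm))
    have h1 : l₁ * l₂ = (l₁ * (a * l₁ * a⁻¹)) * w := by rw [hw]; group
    rw [h1]
    exact Subgroup.mul_mem_sup (hy l₁ hl₁) hwZ
  -- `K ∩ L'` is normal in `L'`
  have hn : ((K ⊓ L').subgroupOf L').Normal := by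
    refine ⟨fun n hn m => ?_⟩
    rw [Subgroup.mem_subgroupOf] at hn ⊢
    obtain ⟨hnK, hnL⟩ := Subgroup.mem_inf.1 hn
    refine Subgroup.mem_inf.2 ⟨?_, L'.mul_mem (L'.mul_mem m.2 hnL) (L'.inv_mem m.2)⟩
    obtain ⟨l, hl, hlm⟩ := m.2
    have hlm' : a * l * a⁻¹ = (m : H) := by
      simpa using hlm
    have h1 : (m : H) * (n : H) * (m : H)⁻¹ =
        (l * (a * l * a⁻¹)) * (n : H) * (l * (a * l * a⁻¹))⁻¹ := by
      rw [hlm']
      have h2 : l * (n : H) = (n : H) * l := hcomm l hl _ hnL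
      have h3 : l * (m : H) = (m : H) * l := hcomm l hl _ m.2
      have h4 : l * (n : H) * l⁻¹ = (n : H) := by rw [h2]; group
      calc (m : H) * (n : H) * (m : H)⁻¹ = (m : H) * (l * (n : H) * l⁻¹) * (m : H)⁻¹ := by rw [h4]
        _ = ((m : H) * l) * (n : H) * ((m : H) * l)⁻¹ := by group
        _ = (l * (m : H)) * (n : H) * (l * (m : H))⁻¹ := by rw [h3]
    rw [Subgroup.coe_mul, Subgroup.coe_mul, Subgroup.coe_inv, h1]
    exact K.mul_mem (K.mul_mem (hyK l hl) hnK) (K.inv_mem (hyK l hl))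
  have htop : L' ≤ K := by
    rcases CfsgLib.Comp.normal_eq_top_or_le_center hL'c.2 ((K ⊓ L').subgroupOf L') with h | h
    · rw [Subgroup.subgroupOf_eq_top] at h
      exact h.trans inf_le_left
    · exfalso
      obtain ⟨m, hm, hmw⟩ := hwnc
      have h1 : (⟨w, hwL'⟩ : L') ∈ (K ⊓ L').subgroupOf L' :=
        Subgroup.mem_subgroupOf.2 (Subgroup.mem_inf.2 ⟨hwK, hwL'⟩)
      have h2 := h h1
      rw [Subgroup.mem_center_iff] at h2
      have h3 := congrArg Subtype.val (h2 ⟨m, hm⟩)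
      exact hmw h3.symm
  have hLK : L ≤ K := by
    intro l hl
    have h1 : l = (l * (a * l * a⁻¹)) * (a * l * a⁻¹)⁻¹ := by group
    rw [h1]
    exact K.mul_mem (hyK l hl) (K.inv_mem (htop (hconj l hl)))
  apply le_antisymm
  · refine sup_le hJM ?_
    rw [Subgroup.zpowers_le]
    exact hxM
  · exact sup_le hLK htop

end Cfsg.Agent.S1921
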