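import Cfsg.Statements.S1922
import Cfsg.Agent.Lib.H3.Isolated
import Cfsg.Agent.Lib.H3.CT1

set_option autoImplicit false
open Cfsg

namespace Cfsg.Agent.S1922

/-- Let z be an involution of a finite group G and H a proper subgroup such that z lies in gHg⁻¹ exactly when g ∈ H. Then the following are equivalent: (1) for every conjugate t ≠ z of z commuting with z, the product zt lies in gHg⁻¹ exactly when g ∈ H; (2) z lies in the centre of some Sylow 2-subgroup of G, and for every conjugate t ≠ z of z commuting with z, the centralizer of zt is contained in H. -/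
theorem result {G : Type*} [Group G] [Finite G] (z : G) (hz : orderOf z = 2) (H : Subgroup G) (hH : H ≠ ⊤)
    (h0 : ∀ g : G, z ∈ H.map (MulAut.conj g).toMonoidHom ↔ g ∈ H) :
    (∀ t : G, IsConj z t → t ≠ z → t * z = z * t → ∀ g : G, z * t ∈ H.map (MulAut.conj g).toMonoidHom ↔ g ∈ H) ↔
      ((∃ P : Sylow 2 G, z ∈ (Subgroup.center ↥(P : Subgroup G)).map (P : Subgroup G).subtype) ∧
        ∀ t : G, IsConj z t → t ≠ z → t * z = z * t → Subgroup.centralizer ({z * t} : Set G) ≤ H) := by
  classical
  have hzz : z * z = 1 := by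
    have := pow_orderOf_eq_one z
    rwa [hz, pow_two] at this
  have h0' : ∀ g : G, g⁻¹ * z * g ∈ H ↔ g ∈ H := fun g => by
    rw [← h0 g, CfsgLib.CT.mem_map_conj']
  have hz1 : z ≠ 1 := by
    intro h
    rw [h, orderOf_one] at hz
    omega
  have hzH : z ∈ H := by
    have := (h0' 1).2 H.one_mem
    simpa using this
  have hCz : Subgroup.centralizer ({z} : Set G) ≤ H := by
    intro c hc
    rw [← h0' c]
    have h1 : z * c = c * z := (Subgroup.mem_centralizer_singleton_iff.1 hc).symm
    have h2 : c⁻¹ * z * c = z := by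
      rw [mul_assoc, h1]
      group
    rw [h2]
    exact hzH
  constructor
  · intro h1
    have hgood : ∀ t : G, IsConj z t → t ≠ z → t * z = z * t → CfsgLib.Isol.Good H (z * t) 1 := by
      intro t ht hne hc c
      have := h1 t ht hne hc c
      rw [CfsgLib.CT.mem_map_conj'] at this
      simpa using this
    have hidx := CfsgLib.Isol.central_of_good hzz hz1 hH h0' hgood
    refine ⟨?_, ?_⟩
    · set C := Subgroup.centralizer ({z} : Set G) with hC
      let R₀ : Sylow 2 C := default
      have hRs := CfsgLib.Solv.isSylowIn_of_sylow R₀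
      set R : Subgroup G := (R₀ : Subgroup C).map C.subtype with hR
      have hRidx : ¬ 2 ∣ R.index := by
        have h2 : R.relIndex C * C.index = R.index := Subgroup.relIndex_mul_index hRs.1
        rw [← h2]
        intro h3
        rcases (Nat.prime_two.dvd_mul).1 h3 with h4 | h4
        · exact hRs.2.2 h4
        · exact hidx h4
      have hzR : z ∈ R := by
        have hzp : IsPGroup 2 (Subgroup.zpowers (⟨z, by
            rw [hC, Subgroup.mem_centralizer_singleton_iff]⟩ : C)) :=
          CfsgLib.CT.isPGroup_zpowers_of_pow (k := 1) (Subtype.ext (by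
            change z ^ 2 ^ 1 = 1
            rw [pow_one, ← hz, pow_orderOf_eq_one]))
        have hzn : (Subgroup.zpowers (⟨z, by
            rw [hC, Subgroup.mem_centralizer_singleton_iff]⟩ : C)).Normal := by
          have hcent : Subgroup.zpowers (⟨z, by
              rw [hC, Subgroup.mem_centralizer_singleton_iff]⟩ : C) ≤ Subgroup.center C := by
            rw [Subgroup.zpowers_le, Subgroup.mem_center_iff]
            rintro ⟨c, hc⟩
            apply Subtype.ext
            exact (Subgroup.mem_centralizer_singleton_iff.1 hc)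
          refine ⟨fun n hn c => ?_⟩
          have h3 := hcent hn
          rw [Subgroup.mem_center_iff] at h3
          rw [h3 c, mul_inv_cancel_right]
          exact hn
        exact ⟨_, CfsgLib.CT1.le_of_normal_sylow' R₀ hzn hzp (Subgroup.mem_zpowers _), rfl⟩
      let P : Sylow 2 G := hRs.2.1.toSylow hRidx
      have hPR : (P : Subgroup G) = R := IsPGroup.toSylow_coe _ _
      refine ⟨P, ⟨⟨z, ?_⟩, ?_, rfl⟩⟩
      · rw [hPR]; exact hzR
      · change _ ∈ Subgroup.center _
        rw [Subgroup.mem_center_iff]
        rintro ⟨y, hy⟩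
        apply Subtype.ext
        rw [hPR] at hy
        exact (Subgroup.mem_centralizer_singleton_iff.1 (hRs.1 hy))
    · intro t ht hne hc g hg
      have h2 : g⁻¹ * (z * t) * g = z * t := by
        have h3 : g * (z * t) = (z * t) * g := (Subgroup.mem_centralizer_singleton_iff.1 hg)
        rw [mul_assoc, ← h3]
        group
      have h4 := hgood t ht hne hc
      have h5 : z * t ∈ H := by simpa using (h4 1).2 (by simp [H.one_mem])
      have h6 := (h4 g).1 (by rw [h2]; exact h5)
      simpa using h6
  · rintro ⟨⟨P, hzP⟩, hC⟩ t ht hne hc g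
    rw [CfsgLib.CT.mem_map_conj']
    have htt : t * t = 1 := by
      obtain ⟨a, rfl⟩ := isConj_iff.1 ht
      calc a * z * a⁻¹ * (a * z * a⁻¹) = a * (z * z) * a⁻¹ := by group
        _ = 1 := by rw [hzz]; group
    have hgz : ∀ g : G, CfsgLib.Isol.Good H (g * z * g⁻¹) g := CfsgLib.Isol.good_conj_z h0'
    have htH : t ∈ H := by
      obtain ⟨a, rfl⟩ := isConj_iff.1 ht
      have h1 := (hgz a).fix (x := z) hc
      have h2 := (h0' a).1 h1
      exact H.mul_mem (H.mul_mem h2 hzH) (H.inv_mem h2)
    have huH : z * t ∈ H := H.mul_mem hzH htH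
    constructor
    · intro hv
      have hcP : (P : Subgroup G) ≤ Subgroup.centralizer ({z} : Set G) := by
        intro y hy
        obtain ⟨⟨w, hw⟩, hwc, hwz⟩ := hzP
        have hwz' : w = z := hwz
        have hwc' : (⟨w, hw⟩ : (P : Subgroup G)) ∈ Subgroup.center (P : Subgroup G) := hwc
        rw [Subgroup.mem_center_iff] at hwc'
        have h3 : y * w = w * y := congrArg Subtype.val (hwc' ⟨y, hy⟩)
        rw [hwz'] at h3
        exact (Subgroup.mem_centralizer_singleton_iff.2 h3)
      have hPH : (P : Subgroup G) ≤ H := hcP.trans hCz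
      have hPs : CfsgLib.Solv.IsSylowIn 2 (P : Subgroup G) H := by
        refine ⟨hPH, P.isPGroup', ?_⟩
        intro h2
        apply P.not_dvd_index
        exact h2.trans ⟨H.index, (Subgroup.relIndex_mul_index hPH).symm⟩
      set v := g⁻¹ * (z * t) * g with hvdef
      have hvv : v ^ 2 ^ 1 = 1 := by
        rw [pow_one, pow_two, hvdef]
        have h1 : z * t * (z * t) = 1 := by
          calc z * t * (z * t) = z * (t * z) * t := by group
            _ = z * (z * t) * t := by rw [hc]
            _ = (z * z) * (t * t) := by group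
            _ = 1 := by rw [hzz, htt, one_mul]
        calc g⁻¹ * (z * t) * g * (g⁻¹ * (z * t) * g) = g⁻¹ * (z * t * (z * t)) * g := by group
          _ = 1 := by rw [h1]; group
      have hzv : IsPGroup 2 (Subgroup.zpowers v) := CfsgLib.CT.isPGroup_zpowers_of_pow (k := 1) hvv
      obtain ⟨y, hyH, hyv⟩ := CfsgLib.CT1.IsSylowIn_exists_conj_into hPs
        (by rw [Subgroup.zpowers_le]; exact hv) hzv
      have hyvP : y * v * y⁻¹ ∈ (P : Subgroup G) := hyv ⟨v, Subgroup.mem_zpowers v, rfl⟩
      have hzc : y * v * y⁻¹ * z = z * (y * v * y⁻¹) :=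
        (Subgroup.mem_centralizer_singleton_iff.1 (hcP hyvP))
      set b := g * y⁻¹ with hb
      have hu : z * t = b * (y * v * y⁻¹) * b⁻¹ := by
        rw [hb, hvdef]; group
      have hz₂ : b * z * b⁻¹ ∈ Subgroup.centralizer ({z * t} : Set G) := by
        rw [Subgroup.mem_centralizer_singleton_iff, hu]
        calc b * z * b⁻¹ * (b * (y * v * y⁻¹) * b⁻¹) = b * (z * (y * v * y⁻¹)) * b⁻¹ := by group
          _ = b * ((y * v * y⁻¹) * z) * b⁻¹ := by rw [hzc]
          _ = _ := by group
      have h3 := hC t ht hne hc hz₂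
      have h4 := (h0' b⁻¹).1 (by simpa using h3)
      have hbH : b ∈ H := by simpa using H.inv_mem h4
      have : g = b * y := by rw [hb]; group
      rw [this]
      exact H.mul_mem hbH hyH
    · intro hg
      exact H.mul_mem (H.mul_mem (H.inv_mem hg) huH) hg

end Cfsg.Agent.S1922
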