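import Cfsg.Statements.S1944
import Cfsg.Agent.Lib.H3.Trace
import Cfsg.Agent.S1907

set_option autoImplicit false
open Cfsg

namespace Cfsg.Agent.S1944

/-- Let S be a Sylow p-subgroup of the finite group G and suppose that the centre Z(S) lies in O_{p',p}(G). The elements of S each of which is its only G-conjugate in S form a subgroup W of Z(S); W is then a direct factor of Z(S): there is a subgroup K of Z(S) with W ∩ K = 1 and WK = Z(S). -/
theorem result {G : Type*} [Group G] [Finite G] {p : ℕ} [Fact p.Prime] (S : Sylow p G)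
    (hZ : ((S : Subgroup G) ⊓ Subgroup.centralizer ((S : Subgroup G) : Set G)) ≤ Cfsg.pPrimePCore p G) :
    ∃ W K : Subgroup G, (∀ x : G, x ∈ W ↔ (x ∈ (S : Subgroup G) ∧ ∀ g : G, g * x * g⁻¹ ∈ (S : Subgroup G) → g * x * g⁻¹ = x)) ∧
      K ≤ ((S : Subgroup G) ⊓ Subgroup.centralizer ((S : Subgroup G) : Set G)) ∧ W ⊓ K = ⊥ ∧ W ⊔ K = ((S : Subgroup G) ⊓ Subgroup.centralizer ((S : Subgroup G) : Set G)) := by
  classical
  set U := Cfsg.pPrimePCore p G with hU
  have hUn : U.Normal := by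
    rw [hU]
    unfold Cfsg.pPrimePCore
    exact Subgroup.Normal.comap (CfsgLib.Solv.pCore_normal' p) _
  set H := (S : Subgroup G) ⊓ U with hH
  set N := Subgroup.normalizer (H : Set G) with hN
  have hSN : (S : Subgroup G) ≤ N := by
    intro z hz
    apply CfsgLib.CT.mem_normalizer_of_conj_le
    intro a ha
    exact Subgroup.mem_inf.2 ⟨(S : Subgroup G).mul_mem ((S : Subgroup G).mul_mem hz ha.1)
      ((S : Subgroup G).inv_mem hz), hUn.conj_mem a ha.2 z⟩
  set M := H ⊓ Subgroup.centralizer (H : Set G) with hM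
  have hMN : N ≤ Subgroup.normalizer (M : Set G) := by
    intro n hn
    apply CfsgLib.CT.mem_normalizer_of_conj_le
    intro a ha
    refine Subgroup.mem_inf.2 ⟨CfsgLib.CT.conj_mem_of_mem_normalizer hn ha.1, ?_⟩
    rw [Subgroup.mem_centralizer_iff]
    intro h hh
    have hh' : n⁻¹ * h * n ∈ H := by
      have := CfsgLib.CT.conj_mem_of_mem_normalizer (Subgroup.inv_mem _ hn) hh
      simpa using this
    have h1 := Subgroup.mem_centralizer_iff.1 ha.2 _ hh'
    calc h * (n * a * n⁻¹) = n * ((n⁻¹ * h * n) * a) * n⁻¹ := by group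
      _ = n * (a * (n⁻¹ * h * n)) * n⁻¹ := by rw [h1]
      _ = _ := by group
  have hMS : M ≤ (S : Subgroup G) := inf_le_left.trans inf_le_left
  have hMp : IsPGroup p M := S.isPGroup'.to_le hMS
  haveI hMc : IsMulCommutative M := by
    refine ⟨⟨fun a b => Subtype.ext ?_⟩⟩
    exact Subgroup.mem_centralizer_iff.1 b.2.2 a a.2.1
  letI : CommGroup M :=
    { (inferInstance : Group M) with mul_comm := hMc.is_comm.comm }
  let ρ : N →* MulAut M := (Subgroup.normalizerMonoidHom M).comp (Subgroup.inclusion hMN)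
  have hρ : ∀ (n : N) (z : M), ((ρ n z : M) : G) = (n : G) * z * (n : G)⁻¹ := fun n z => rfl
  let T : Subgroup N := (S : Subgroup G).subgroupOf N
  have hTcop : T.index.Coprime (Nat.card M) := by
    obtain ⟨k, hk⟩ := IsPGroup.iff_card.1 hMp
    rw [hk]
    apply Nat.Coprime.pow_right
    have h1 : T.index ∣ (S : Subgroup G).index := by
      have := Subgroup.relIndex_mul_index hSN
      exact ⟨N.index, this.symm⟩
    refine Nat.Coprime.coprime_dvd_left h1 ?_
    exact ((Nat.Prime.coprime_iff_not_dvd Fact.out).2 S.not_dvd_index).symm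
  obtain ⟨K', hK'le, hK'inf, hK'sup⟩ := CfsgLib.Trace.split ρ T hTcop
  refine ⟨(CfsgLib.Trace.fixedBy ρ ⊤).map M.subtype, K'.map M.subtype, ?_, ?_, ?_, ?_⟩
  · intro x
    constructor
    · rintro ⟨z, hz, rfl⟩
      refine ⟨hMS z.2, ?_⟩
      intro g hg
      obtain ⟨n, hn, hnx⟩ := (Cfsg.Agent.S1907.result S).2 (z : G) (g * z * g⁻¹) (hMS z.2) hg
        (isConj_iff.2 ⟨g, rfl⟩)
      have h1 : ρ ⟨n, hn⟩ z = z := hz ⟨n, hn⟩ trivial
      have h2 := congrArg Subtype.val h1
      rw [hρ] at h2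
      change n * (z : G) * n⁻¹ = z at h2
      change g * (z : G) * g⁻¹ = z
      rw [← hnx, h2]
    · rintro ⟨hxS, hx⟩
      have hxZ : x ∈ (S : Subgroup G) ⊓ Subgroup.centralizer ((S : Subgroup G) : Set G) := by
        refine Subgroup.mem_inf.2 ⟨hxS, ?_⟩
        rw [Subgroup.mem_centralizer_iff]
        intro s hs
        have h1 := hx s ((S : Subgroup G).mul_mem ((S : Subgroup G).mul_mem hs hxS)
          ((S : Subgroup G).inv_mem hs))
        rw [mul_inv_eq_iff_eq_mul] at h1
        exact h1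
      have hxM : x ∈ M := by
        refine Subgroup.mem_inf.2 ⟨Subgroup.mem_inf.2 ⟨hxS, hZ hxZ⟩, ?_⟩
        rw [Subgroup.mem_centralizer_iff]
        intro h hh
        exact Subgroup.mem_centralizer_iff.1 hxZ.2 h hh.1
      refine ⟨⟨x, hxM⟩, ?_, rfl⟩
      intro n _
      apply Subtype.ext
      rw [hρ]
      have h1 : (n : G) * x * (n : G)⁻¹ ∈ M := CfsgLib.CT.conj_mem_of_mem_normalizer (hMN n.2) hxM
      exact hx n (hMS h1)
  · rintro _ ⟨k, hk, rfl⟩
    have hk' := hK'le hk
    refine Subgroup.mem_inf.2 ⟨hMS k.2, ?_⟩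
    rw [Subgroup.mem_centralizer_iff]
    intro s hs
    have h1 : ρ ⟨s, hSN hs⟩ k = k := hk' _ (Subgroup.mem_subgroupOf.2 hs)
    have h2 := congrArg Subtype.val h1
    rw [hρ] at h2
    change s * (k : G) * s⁻¹ = k at h2
    rw [mul_inv_eq_iff_eq_mul] at h2
    exact h2
  · rw [← Subgroup.map_inf _ _ _ M.subtype_injective, hK'inf, Subgroup.map_bot]
  · rw [← Subgroup.map_sup, hK'sup]
    ext x
    constructor
    · rintro ⟨k, hk, rfl⟩
      refine Subgroup.mem_inf.2 ⟨hMS k.2, ?_⟩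
      rw [Subgroup.mem_centralizer_iff]
      intro s hs
      have h1 : ρ ⟨s, hSN hs⟩ k = k := hk _ (Subgroup.mem_subgroupOf.2 hs)
      have h2 := congrArg Subtype.val h1
      rw [hρ] at h2
      change s * (k : G) * s⁻¹ = k at h2
      rw [mul_inv_eq_iff_eq_mul] at h2
      exact h2
    · intro hxZ
      have hxM : x ∈ M := by
        refine Subgroup.mem_inf.2 ⟨Subgroup.mem_inf.2 ⟨hxZ.1, hZ hxZ⟩, ?_⟩
        rw [Subgroup.mem_centralizer_iff]
        intro h hh
        exact Subgroup.mem_centralizer_iff.1 hxZ.2 h hh.1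
      refine ⟨⟨x, hxM⟩, ?_, rfl⟩
      intro t ht
      apply Subtype.ext
      rw [hρ]
      have h1 := Subgroup.mem_centralizer_iff.1 hxZ.2 (t : G) (Subgroup.mem_subgroupOf.1 ht)
      change (t : G) * x * (t : G)⁻¹ = x
      rw [h1]
      group

end Cfsg.Agent.S1944
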