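import Cfsg.Statements.S1952
import Cfsg.Agent.Lib.OOL.TC.TC2
import Cfsg.Agent.Lib.H3.ConjTools
-- import your own Cfsg.Agent.* helpers here

set_option autoImplicit false
open Cfsg

namespace Cfsg.Agent.S1952

open Subgroup Cfsg
open scoped commutatorElement

lemma list_prod_eq {Γ : Type*} [Group Γ] (y x : Γ) (n : ℕ) :
    ((List.range n).map (fun i => (y ^ i)⁻¹ * x * y ^ i)).prod = CfsgLib.TCt.nmL y x n := by
  induction n with
  | zero => simp [CfsgLib.TCt.nmL]
  | succ n ih =>
    rw [List.range_succ, List.map_append, List.prod_append, ih]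
    simp [CfsgLib.TCt.nmL]

lemma nil_not_le {Γ : Type*} [Group Γ] (hnil : Group.IsNilpotent Γ) (B : Subgroup Γ) (hB : B ≠ ⊥) (y : Γ) :
    ¬ B ≤ ⁅B, zpowers y⁆ := by
  intro hle
  obtain ⟨n, hn⟩ := Subgroup.nilpotent_iff_lowerCentralSeries.1 hnil
  have h : ∀ k, B ≤ (⊤ : Subgroup Γ).lowerCentralSeries k := by
    intro k
    induction k with
    | zero => exact le_top
    | succ k ih =>
      exact hle.trans (Subgroup.commutator_mono ih le_top)
  apply hB
  have := h n
  rw [hn] at this
  exact le_bot_iff.1 this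

lemma card_step {Γ : Type*} [Group Γ] [Finite Γ] {p : ℕ} [Fact p.Prime] (hΓ : IsPGroup p Γ)
    {B C : Subgroup Γ} (hCB : C < B) : p * Nat.card C ≤ Nat.card B := by
  have hpp : p.Prime := Fact.out
  obtain ⟨a, ha⟩ := IsPGroup.iff_card.1 (hΓ.to_subgroup B)
  obtain ⟨b, hb⟩ := IsPGroup.iff_card.1 (hΓ.to_subgroup C)
  have h1 : Nat.card C ∣ Nat.card B := Subgroup.card_dvd_of_le hCB.le
  have hne : Nat.card C ≠ Nat.card B := by
    intro h
    exact hCB.ne (Subgroup.eq_of_le_of_card_ge hCB.le h.ge)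
  rw [ha, hb] at h1 hne ⊢
  have hba : b ≤ a := (Nat.pow_dvd_pow_iff_le_right hpp.one_lt).1 h1
  have hlt : b < a := lt_of_le_of_ne hba (fun h => hne (by rw [h]))
  calc p * p ^ b = p ^ (b + 1) := by rw [pow_succ, mul_comm]
    _ ≤ p ^ a := Nat.pow_le_pow_right hpp.pos hlt

lemma iter_conj {Γ : Type*} [Group Γ] [Finite Γ] (B : Subgroup Γ) (y : Γ) (hB : ∀ b ∈ B, y * b * y⁻¹ ∈ B) :
    ∀ j, ∀ a ∈ iterCommutator B (zpowers y) j, y * a * y⁻¹ ∈ iterCommutator B (zpowers y) j := by
  intro j
  induction j with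
  | zero => exact hB
  | succ j ih =>
    intro a ha
    have hle : iterCommutator B (zpowers y) (j + 1) ≤
        (iterCommutator B (zpowers y) (j + 1)).comap (MulAut.conj y).toMonoidHom := by
      change ⁅iterCommutator B (zpowers y) j, zpowers y⁆ ≤ _
      rw [Subgroup.commutator_le]
      intro r hr s hs
      change y * ⁅r, s⁆ * y⁻¹ ∈ ⁅iterCommutator B (zpowers y) j, zpowers y⁆
      have hs' : y * s * y⁻¹ = s := by
        obtain ⟨k, rfl⟩ := Subgroup.mem_zpowers_iff.1 hs
        have : Commute y (y ^ k) := (Commute.refl y).zpow_right k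
        rw [this.eq]; group
      have h1 := Subgroup.commutator_mem_commutator (ih r hr) (hs' ▸ hs)
      have e : y * ⁅r, s⁆ * y⁻¹ = ⁅y * r * y⁻¹, y * s * y⁻¹⁆ := by
        simp only [commutatorElement_def]; group
      rw [e]
      exact Subgroup.commutator_mem_commutator (ih r hr) (by rw [hs']; exact hs)
    exact hle ha

lemma iter_le {Γ : Type*} [Group Γ] [Finite Γ] (B : Subgroup Γ) (y : Γ) (hB : ∀ b ∈ B, y * b * y⁻¹ ∈ B) (j : ℕ) :
    iterCommutator B (zpowers y) (j + 1) ≤ iterCommutator B (zpowers y) j := by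
  change ⁅iterCommutator B (zpowers y) j, zpowers y⁆ ≤ _
  have hn : y ∈ normalizer ((iterCommutator B (zpowers y) j : Subgroup Γ) : Set Γ) :=
    CfsgLib.CT.mem_normalizer_of_conj_le (iter_conj B y hB j)
  have hz : zpowers y ≤ normalizer ((iterCommutator B (zpowers y) j : Subgroup Γ) : Set Γ) :=
    (Subgroup.zpowers_le).2 hn
  rw [Subgroup.commutator_le]
  intro r hr s hs
  rw [commutatorElement_def]
  have h1 := (Subgroup.mem_normalizer_iff.1 (hz hs) r⁻¹).1 (inv_mem hr)
  have e : r * s * r⁻¹ * s⁻¹ = r * (s * r⁻¹ * s⁻¹) := by group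
  rw [e]
  exact mul_mem hr h1

lemma iter_card {Γ : Type*} [Group Γ] [Finite Γ] {p : ℕ} [Fact p.Prime] (hΓ : IsPGroup p Γ) (B : Subgroup Γ) (y : Γ)
    (hB : ∀ b ∈ B, y * b * y⁻¹ ∈ B) : ∀ j, iterCommutator B (zpowers y) j ≠ ⊥ →
      p ^ j * Nat.card (iterCommutator B (zpowers y) j) ≤ Nat.card B := by
  have hnil : Group.IsNilpotent Γ := hΓ.isNilpotent
  intro j
  induction j with
  | zero => intro _; simp [iterCommutator]
  | succ j ih =>
    intro hne
    have hle := iter_le B y hB j
    have hne' : iterCommutator B (zpowers y) j ≠ ⊥ := by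
      intro h
      rw [h] at hle
      exact hne (le_bot_iff.1 hle)
    have hlt : iterCommutator B (zpowers y) (j + 1) < iterCommutator B (zpowers y) j := by
      exact lt_of_le_of_ne hle fun h => nil_not_le hnil _ hne' y (le_of_eq h.symm)
    have h1 := card_step hΓ hlt
    calc p ^ (j + 1) * Nat.card (iterCommutator B (zpowers y) (j + 1))
        = p ^ j * (p * Nat.card (iterCommutator B (zpowers y) (j + 1))) := by rw [pow_succ]; ring
      _ ≤ p ^ j * Nat.card (iterCommutator B (zpowers y) j) := Nat.mul_le_mul_left _ h1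
      _ ≤ _ := ih hne'

lemma exists_char_aux {A : Type*} [CommGroup A] {p : ℕ} [Fact p.Prime] [Module (ZMod p) (Additive A)] (z : A) (hz : z ≠ 1) :
    ∃ f : A →* Multiplicative (ZMod p), f z ≠ 1 ∧ Function.Surjective f := by
  have hz1 : Additive.ofMul z ≠ 0 := by
    intro h
    exact hz (Additive.ofMul.injective h)
  obtain ⟨φ, hφ⟩ : ∃ φ : Additive A →ₗ[ZMod p] ZMod p, φ (Additive.ofMul z) ≠ 0 := by
    by_contra hcon
    push Not at hcon
    exact hz1 ((Module.forall_dual_apply_eq_zero_iff (ZMod p) _).1 hcon)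
  let f : A →* Multiplicative (ZMod p) :=
    { toFun := fun a => Multiplicative.ofAdd (φ (Additive.ofMul a))
      map_one' := by
        change Multiplicative.ofAdd (φ 0) = 1
        rw [map_zero]; rfl
      map_mul' := by
        intro a b
        change Multiplicative.ofAdd (φ (Additive.ofMul a + Additive.ofMul b)) = _
        rw [map_add]; rfl }
  have hfz : f z ≠ 1 := by
    intro h
    exact hφ (Multiplicative.ofAdd.injective h)
  refine ⟨f, hfz, ?_⟩
  intro c
  refine ⟨z ^ ((Multiplicative.toAdd c / φ (Additive.ofMul z)).val), ?_⟩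
  set w := Multiplicative.toAdd c / φ (Additive.ofMul z) with hw
  change Multiplicative.ofAdd (φ (Additive.ofMul (z ^ w.val))) = c
  rw [ofMul_pow, map_nsmul]
  have h1 : w.val • φ (Additive.ofMul z) = w * φ (Additive.ofMul z) := by
    rw [nsmul_eq_mul, ZMod.natCast_zmod_val]
  rw [h1, hw, div_mul_cancel₀ _ hφ]
  rfl

lemma exists_char {A : Type*} [CommGroup A] {p : ℕ} [Fact p.Prime] (hexp : ∀ a : A, a ^ p = 1) (z : A) (hz : z ≠ 1) :
    ∃ f : A →* Multiplicative (ZMod p), f z ≠ 1 ∧ Function.Surjective f :=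
  @exists_char_aux A _ p _ (AddCommGroup.zmodModule (fun a => by
    apply Additive.toMul.injective
    exact hexp _)) z hz

/-- Let P be a finite p-group with a normal elementary abelian subgroup A of index p, and let x ∈ A and y ∈ P with y outside A. If the product of the p conjugates y^(-i) x y^i (i = 0, …, p−1) is not the identity, then the wreath product Z_p ≀ Z_p, realised as a Sylow p-subgroup of the symmetric group of degree p², is a homomorphic image of P. -/
theorem result {P : Type*} [Group P] [Finite P] {p : ℕ} [Fact p.Prime] (hP : IsPGroup p P) (A : Subgroup P) [A.Normal]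
    (hA : Cfsg.IsElementaryAbelian p A) (hidx : A.index = p) (x y : P) (hx : x ∈ A) (hy : y ∉ A)
    (hprod : ((List.range p).map (fun i => (y ^ i)⁻¹ * x * y ^ i)).prod ≠ 1) :
    ∃ (Q : Sylow p (Equiv.Perm (Fin (p ^ 2)))) (f : P →* ↥(Q : Subgroup (Equiv.Perm (Fin (p ^ 2))))), Function.Surjective f := by
  classical
  have hpp : p.Prime := Fact.out
  rw [list_prod_eq] at hprod
  set z := CfsgLib.TCt.nmL y x p with hz
  have hAc : ∀ a ∈ A, ∀ b ∈ A, a * b = b * a := by
    intro a ha b hb
    exact congrArg Subtype.val (hA.1.is_comm.comm (⟨a, ha⟩ : A) ⟨b, hb⟩)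
  have hAe : ∀ a ∈ A, a ^ p = 1 := hA.2
  have hnm : ∀ n, CfsgLib.TCt.nmL y x n ∈ A := by
    intro n
    induction n with
    | zero => exact A.one_mem
    | succ n ih =>
      refine A.mul_mem ih ?_
      have := (inferInstance : A.Normal).conj_mem x hx (y ^ n)⁻¹
      simpa using this
  have hzA : z ∈ A := hnm p
  letI iA : CommGroup A := CfsgLib.SCl.abOf A hAc
  have hz1 : (⟨z, hzA⟩ : A) ≠ 1 := by
    intro h
    exact hprod (congrArg Subtype.val h)
  obtain ⟨f, hφ, hfsurj⟩ := exists_char (p := p) (A := A) (fun a => Subtype.ext (hAe _ a.2)) _ hz1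
  let L : Subgroup P := f.ker.map A.subtype
  have hLA : L ≤ A := Subgroup.map_subtype_le _
  have hzL : z ∉ L := by
    rintro ⟨a, ha, hae⟩
    have h1 : a = ⟨z, hzA⟩ := Subtype.ext hae
    rw [h1] at ha
    exact hφ ha
  have hLi : L.index = p ^ 2 := by
    rw [Subgroup.index_map_subtype, hidx, Subgroup.index_ker, MonoidHom.range_eq_top_of_surjective f hfsurj]
    have : Nat.card (⊤ : Subgroup (Multiplicative (ZMod p))) = p := by
      rw [Subgroup.card_top, Nat.card_eq_fintype_card, Fintype.card_multiplicative, ZMod.card]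
    rw [this, pow_two]
  let K : Subgroup P := L.normalCore
  haveI hKn : K.Normal := Subgroup.normalCore_normal L
  have hKL : K ≤ L := Subgroup.normalCore_le L
  -- the quotient
  let π : P →* P ⧸ K := QuotientGroup.mk' K
  have hπ : Function.Surjective π := QuotientGroup.mk'_surjective K
  have hΓ : IsPGroup p (P ⧸ K) := hP.of_surjective π hπ
  let B : Subgroup (P ⧸ K) := A.map π
  haveI hBn : B.Normal := Subgroup.Normal.map inferInstance π hπ
  have hBc : ∀ a ∈ B, ∀ b ∈ B, a * b = b * a := by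
    rintro _ ⟨a, ha, rfl⟩ _ ⟨b, hb, rfl⟩
    rw [← map_mul, ← map_mul, hAc a ha b hb]
  have hBe : ∀ a ∈ B, a ^ p = 1 := by
    rintro _ ⟨a, ha, rfl⟩
    rw [← map_pow, hAe a ha, map_one]
  have hit : iterCommutator B (zpowers (π y)) (p - 1) ≠ ⊥ := by
    intro hbot
    have h1 := CfsgLib.TCt.engel_norm (p := p) B (π y) hBc hBe (le_of_eq hbot) p dvd_rfl (π x) ⟨x, hx, rfl⟩
    rw [← CfsgLib.TCt.nmL_map] at h1
    have h2 : z ∈ K := by
      rw [← QuotientGroup.ker_mk' K]
      exact h1
    exact hzL (hKL h2)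
  have hcard1 := iter_card hΓ B (π y) (fun b hb => hBn.conj_mem b hb _) (p - 1) hit
  have hcard2 : p ≤ Nat.card (iterCommutator B (zpowers (π y)) (p - 1)) := by
    haveI : Nontrivial (iterCommutator B (zpowers (π y)) (p - 1)) :=
      (Subgroup.nontrivial_iff_ne_bot _).2 hit
    obtain ⟨a, ha⟩ := IsPGroup.iff_card.1 (hΓ.to_subgroup (iterCommutator B (zpowers (π y)) (p - 1)))
    rw [ha]
    have h3 : 1 < Nat.card (iterCommutator B (zpowers (π y)) (p - 1)) := Finite.one_lt_card
    rw [ha] at h3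
    have ha0 : a ≠ 0 := by
      rintro rfl
      simp at h3
    calc p = p ^ 1 := (pow_one p).symm
      _ ≤ p ^ a := Nat.pow_le_pow_right hpp.pos (Nat.one_le_iff_ne_zero.2 ha0)
  have hcardB : p ^ p ≤ Nat.card B := by
    calc p ^ p = p ^ (p - 1) * p := by
          rw [← pow_succ, Nat.sub_add_cancel hpp.one_le]
      _ ≤ p ^ (p - 1) * Nat.card (iterCommutator B (zpowers (π y)) (p - 1)) := Nat.mul_le_mul_left _ hcard2
      _ ≤ _ := hcard1
  have hBi : B.index = p := by
    have h1 : π.ker = K := QuotientGroup.ker_mk' K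
    rw [Subgroup.index_map, h1, sup_eq_left.2 (hKL.trans hLA), hidx, MonoidHom.range_eq_top_of_surjective π hπ,
      Subgroup.index_top, mul_one]
  have hcardG : p ^ (p + 1) ≤ K.index := by
    have h1 : Nat.card B * B.index = Nat.card (P ⧸ K) := Subgroup.card_mul_index B
    have h2 : K.index = Nat.card (P ⧸ K) := rfl
    rw [h2, ← h1, hBi, pow_succ]
    exact Nat.mul_le_mul_right _ hcardB
  -- the action
  have hcq : Nat.card (P ⧸ L) = p ^ 2 := hLi
  let e : (P ⧸ L) ≃ Fin (p ^ 2) := Finite.equivFinOfCardEq hcq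
  let F : P →* Equiv.Perm (Fin (p ^ 2)) :=
    (Equiv.permCongrHom e).toMonoidHom.comp (MulAction.toPermHom P (P ⧸ L))
  have hFker : F.ker = K := by
    have h1 : K = (MulAction.toPermHom P (P ⧸ L)).ker := Subgroup.normalCore_eq_ker L
    rw [h1]
    ext a
    simp only [MonoidHom.mem_ker, F, MonoidHom.comp_apply]
    exact (Equiv.permCongrHom e).map_eq_one_iff
  have hFcard : Nat.card F.range = K.index := by
    rw [← Subgroup.index_ker, hFker]
  have hFp : IsPGroup p F.range := hP.of_surjective F.rangeRestrict F.rangeRestrict_surjective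
  obtain ⟨k, hk⟩ := IsPGroup.iff_card.1 hFp
  have hkge : p + 1 ≤ k := by
    have h1 : p ^ (p + 1) ≤ p ^ k := by
      rw [← hk, hFcard]
      exact hcardG
    exact (Nat.pow_le_pow_iff_right hpp.one_lt).1 h1
  have hfact : (Nat.card (Equiv.Perm (Fin (p ^ 2)))).factorization p = p + 1 := by
    rw [Nat.card_eq_fintype_card, Fintype.card_perm, Fintype.card_fin]
    have hlog : Nat.log p (p ^ 2) < 3 := by
      rw [Nat.log_pow hpp.one_lt]
      omega
    rw [Nat.factorization_factorial hpp hlog]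
    have hI : Finset.Ico 1 3 = {1, 2} := by decide
    rw [hI, Finset.sum_pair (by omega), pow_one, Nat.div_self (pow_pos hpp.pos 2), pow_two, Nat.mul_div_cancel _ hpp.pos]
  have hkle : k ≤ p + 1 := by
    have h1 : Nat.card F.range ∣ Nat.card (Equiv.Perm (Fin (p ^ 2))) := Subgroup.card_subgroup_dvd_card _
    rw [hk] at h1
    have h2 := (hpp.pow_dvd_iff_le_factorization (Nat.card_pos.ne')).1 h1
    rwa [hfact] at h2
  have hk' : k = p + 1 := le_antisymm hkle hkge
  have hSyl : Nat.card F.range = p ^ (Nat.card (Equiv.Perm (Fin (p ^ 2)))).factorization p := by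
    rw [hk, hfact, hk']
  exact ⟨Sylow.ofCard F.range hSyl, F.rangeRestrict, F.rangeRestrict_surjective⟩

end Cfsg.Agent.S1952
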