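import Cfsg.Statements.S2416
import Cfsg.Agent.Lib.Chev.Gen
import Cfsg.Agent.Lib.Chev.AllL

set_option autoImplicit false
open scoped MatrixGroups
open Cfsg

namespace Cfsg.Agent.S2416

/-- A Chevalley group of type G₂, B₂, D₄, F₄, E₆, E₇ or E₈ over a finite field lies in (indeed equals) the subgroup generated by its monomial subgroup `N` and a single fundamental root subgroup `X_p`, where `p` is a short fundamental root if there are two root lengths (any fundamental root otherwise), provided the characteristic is not 2 for types B₂, F₄ and not 3 for type G₂ (and the field has more than two elements for B₂, G₂). -/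
theorem result {K : Type*} [Field K] [Finite K] (D : Cfsg.Lie.ChevalleyDatum) (hD : D ∈ [Cfsg.Lie.chevG2, Cfsg.Lie.chevB2, Cfsg.Lie.chevD4, Cfsg.Lie.chevF4, Cfsg.Lie.chevE6, Cfsg.Lie.chevE7, Cfsg.Lie.chevE8])
    (hK : D ∈ [Cfsg.Lie.chevB2, Cfsg.Lie.chevG2] → ∃ x : K, x ≠ 0 ∧ x ≠ 1)
    (h2 : D ∈ [Cfsg.Lie.chevB2, Cfsg.Lie.chevF4] → ringChar K ≠ 2) (h3 : D = Cfsg.Lie.chevG2 → ringChar K ≠ 3)
    (i : ℕ) (hi : i < D.rank) (hshort : D.isLong (D.simple i) = false) :
    D.group K ≤ D.monomialSubgroup K ⊔ D.rootSubgroup K (D.simple i) := by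
  simp only [List.mem_cons, List.not_mem_nil, or_false] at hD
  rcases hD with rfl | rfl | rfl | rfl | rfl | rfl | rfl
  · have hi' : i < 2 := hi
    interval_cases i
    · exact CfsgLib.Chev.TG2.good.gen2' (p := 7) (b := 2) (b' := 0) (L := [0, 1, 0]) (L1 := [0, 1, 0]) (L2 := [1, 0]) (s1 := 2) (s2 := 3) (c := 3) (by decide +kernel) (by decide +kernel) (by decide +kernel) (by decide +kernel) (by decide +kernel) (by decide +kernel) (by decide +kernel) (by decide +kernel) (by decide +kernel) (by decide +kernel) (by decide +kernel) (by decide +kernel) (CfsgLib.Chev.int_cast_ne_zero_of_ringChar (by norm_num) (h3 rfl)) (by decide +kernel)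
    · exact absurd hshort (by decide +kernel)
  · have hi' : i < 2 := hi
    interval_cases i
    · exact CfsgLib.Chev.TB2.good.gen2' (p := 5) (b := 1) (b' := 0) (L := [1, 0]) (L1 := [1, 0]) (L2 := [0]) (s1 := 1) (s2 := 2) (c := 2) (by decide +kernel) (by decide +kernel) (by decide +kernel) (by decide +kernel) (by decide +kernel) (by decide +kernel) (by decide +kernel) (by decide +kernel) (by decide +kernel) (by decide +kernel) (by decide +kernel) (by decide +kernel) (CfsgLib.Chev.int_cast_ne_zero_of_ringChar (by norm_num) (h2 (by simp))) (by decide +kernel)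
    · exact absurd hshort (by decide +kernel)
  · have hi' : i < 4 := hi
    interval_cases i
    · exact CfsgLib.Chev.TD4.good.gen1' (p := 18) (b := 0) (L := [1, 3, 2, 1, 0]) (by decide +kernel) (by decide +kernel) (by decide +kernel) (by decide +kernel)
    · exact CfsgLib.Chev.TD4.good.gen1' (p := 14) (b := 0) (L := [1, 3, 2, 0, 1]) (by decide +kernel) (by decide +kernel) (by decide +kernel) (by decide +kernel)
    · exact CfsgLib.Chev.TD4.good.gen1' (p := 13) (b := 0) (L := [1, 3, 0, 1, 2]) (by decide +kernel) (by decide +kernel) (by decide +kernel) (by decide +kernel)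
    · exact CfsgLib.Chev.TD4.good.gen1' (p := 12) (b := 0) (L := [1, 2, 0, 1, 3]) (by decide +kernel) (by decide +kernel) (by decide +kernel) (by decide +kernel)
  · have hi' : i < 4 := hi
    interval_cases i
    · exact CfsgLib.Chev.TF4.good.gen2' (p := 33) (b := 3) (b' := 0) (L := [0, 1, 2, 3, 1, 2, 1, 0]) (L1 := [0, 1, 2, 3, 1, 2, 1, 0]) (L2 := [3, 2, 0, 1, 0]) (s1 := 3) (s2 := 18) (c := 2) (by decide +kernel) (by decide +kernel) (by decide +kernel) (by decide +kernel) (by decide +kernel) (by decide +kernel) (by decide +kernel) (by decide +kernel) (by decide +kernel) (by decide +kernel) (by decide +kernel) (by decide +kernel) (CfsgLib.Chev.int_cast_ne_zero_of_ringChar (by norm_num) (h2 (by simp))) (by decide +kernel)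
    · exact CfsgLib.Chev.TF4.good.gen2' (p := 27) (b := 3) (b' := 0) (L := [0, 1, 2, 3, 1, 2, 0, 1]) (L1 := [0, 1, 2, 3, 1, 2, 0, 1]) (L2 := [3, 2, 1]) (s1 := 3) (s2 := 18) (c := 2) (by decide +kernel) (by decide +kernel) (by decide +kernel) (by decide +kernel) (by decide +kernel) (by decide +kernel) (by decide +kernel) (by decide +kernel) (by decide +kernel) (by decide +kernel) (by decide +kernel) (by decide +kernel) (CfsgLib.Chev.int_cast_ne_zero_of_ringChar (by norm_num) (h2 (by simp))) (by decide +kernel)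
    · exact absurd hshort (by decide +kernel)
    · exact absurd hshort (by decide +kernel)
  · have hi' : i < 6 := hi
    interval_cases i
    · exact CfsgLib.Chev.TE6.good.gen1' (p := 56) (b := 0) (L := [1, 3, 4, 5, 2, 3, 4, 1, 3, 2, 0]) (by decide +kernel) (by decide +kernel) (by decide +kernel) (by decide +kernel)
    · exact CfsgLib.Chev.TE6.good.gen1' (p := 46) (b := 0) (L := [1, 3, 4, 5, 2, 3, 4, 0, 2, 3, 1]) (by decide +kernel) (by decide +kernel) (by decide +kernel) (by decide +kernel)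
    · exact CfsgLib.Chev.TE6.good.gen1' (p := 42) (b := 0) (L := [1, 3, 4, 5, 2, 3, 4, 1, 3, 0, 2]) (by decide +kernel) (by decide +kernel) (by decide +kernel) (by decide +kernel)
    · exact CfsgLib.Chev.TE6.good.gen1' (p := 39) (b := 0) (L := [1, 3, 4, 5, 2, 3, 4, 0, 2, 1, 3]) (by decide +kernel) (by decide +kernel) (by decide +kernel) (by decide +kernel)
    · exact CfsgLib.Chev.TE6.good.gen1' (p := 37) (b := 0) (L := [1, 3, 4, 5, 2, 3, 0, 2, 1, 3, 4]) (by decide +kernel) (by decide +kernel) (by decide +kernel) (by decide +kernel)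
    · exact CfsgLib.Chev.TE6.good.gen1' (p := 36) (b := 0) (L := [1, 3, 4, 2, 3, 0, 2, 1, 3, 4, 5]) (by decide +kernel) (by decide +kernel) (by decide +kernel) (by decide +kernel)
  · have hi' : i < 7 := hi
    interval_cases i
    · exact CfsgLib.Chev.TE7.good.gen1' (p := 93) (b := 0) (L := [0, 2, 3, 4, 5, 6, 1, 3, 4, 5, 2, 3, 4, 1, 3, 2, 0]) (by decide +kernel) (by decide +kernel) (by decide +kernel) (by decide +kernel)
    · exact CfsgLib.Chev.TE7.good.gen1' (p := 78) (b := 0) (L := [0, 2, 3, 4, 5, 6, 1, 3, 4, 5, 2, 3, 4, 0, 2, 3, 1]) (by decide +kernel) (by decide +kernel) (by decide +kernel) (by decide +kernel)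
    · exact CfsgLib.Chev.TE7.good.gen1' (p := 73) (b := 0) (L := [0, 2, 3, 4, 5, 6, 1, 3, 4, 5, 2, 3, 4, 1, 3, 0, 2]) (by decide +kernel) (by decide +kernel) (by decide +kernel) (by decide +kernel)
    · exact CfsgLib.Chev.TE7.good.gen1' (p := 69) (b := 0) (L := [0, 2, 3, 4, 5, 6, 1, 3, 4, 5, 2, 3, 4, 0, 2, 1, 3]) (by decide +kernel) (by decide +kernel) (by decide +kernel) (by decide +kernel)
    · exact CfsgLib.Chev.TE7.good.gen1' (p := 66) (b := 0) (L := [0, 2, 3, 4, 5, 6, 1, 3, 4, 5, 2, 3, 0, 2, 1, 3, 4]) (by decide +kernel) (by decide +kernel) (by decide +kernel) (by decide +kernel)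
    · exact CfsgLib.Chev.TE7.good.gen1' (p := 64) (b := 0) (L := [0, 2, 3, 4, 5, 6, 1, 3, 4, 2, 3, 0, 2, 1, 3, 4, 5]) (by decide +kernel) (by decide +kernel) (by decide +kernel) (by decide +kernel)
    · exact CfsgLib.Chev.TE7.good.gen1' (p := 63) (b := 0) (L := [0, 2, 3, 4, 5, 1, 3, 4, 2, 3, 0, 2, 1, 3, 4, 5, 6]) (by decide +kernel) (by decide +kernel) (by decide +kernel) (by decide +kernel)
  · have hi' : i < 8 := hi
    interval_cases i
    · exact CfsgLib.Chev.TE8.good.gen1' (p := 162) (b := 0) (L := [7, 6, 5, 4, 3, 2, 1, 3, 4, 5, 6, 7, 0, 2, 3, 4, 5, 6, 1, 3, 4, 5, 2, 3, 4, 1, 3, 2, 0]) (by decide +kernel) (by decide +kernel) (by decide +kernel) (by decide +kernel)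
    · exact CfsgLib.Chev.TE8.good.gen1' (p := 141) (b := 0) (L := [7, 6, 5, 4, 3, 2, 1, 3, 4, 5, 6, 7, 0, 2, 3, 4, 5, 6, 1, 3, 4, 5, 2, 3, 4, 0, 2, 3, 1]) (by decide +kernel) (by decide +kernel) (by decide +kernel) (by decide +kernel)
    · exact CfsgLib.Chev.TE8.good.gen1' (p := 135) (b := 0) (L := [7, 6, 5, 4, 3, 2, 1, 3, 4, 5, 6, 7, 0, 2, 3, 4, 5, 6, 1, 3, 4, 5, 2, 3, 4, 1, 3, 0, 2]) (by decide +kernel) (by decide +kernel) (by decide +kernel) (by decide +kernel)
    · exact CfsgLib.Chev.TE8.good.gen1' (p := 130) (b := 0) (L := [7, 6, 5, 4, 3, 2, 1, 3, 4, 5, 6, 7, 0, 2, 3, 4, 5, 6, 1, 3, 4, 5, 2, 3, 4, 0, 2, 1, 3]) (by decide +kernel) (by decide +kernel) (by decide +kernel) (by decide +kernel)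
    · exact CfsgLib.Chev.TE8.good.gen1' (p := 126) (b := 0) (L := [7, 6, 5, 4, 3, 2, 1, 3, 4, 5, 6, 7, 0, 2, 3, 4, 5, 6, 1, 3, 4, 5, 2, 3, 0, 2, 1, 3, 4]) (by decide +kernel) (by decide +kernel) (by decide +kernel) (by decide +kernel)
    · exact CfsgLib.Chev.TE8.good.gen1' (p := 123) (b := 0) (L := [7, 6, 5, 4, 3, 2, 1, 3, 4, 5, 6, 7, 0, 2, 3, 4, 5, 6, 1, 3, 4, 2, 3, 0, 2, 1, 3, 4, 5]) (by decide +kernel) (by decide +kernel) (by decide +kernel) (by decide +kernel)
    · exact CfsgLib.Chev.TE8.good.gen1' (p := 121) (b := 0) (L := [7, 6, 5, 4, 3, 2, 1, 3, 4, 5, 6, 7, 0, 2, 3, 4, 5, 1, 3, 4, 2, 3, 0, 2, 1, 3, 4, 5, 6]) (by decide +kernel) (by decide +kernel) (by decide +kernel) (by decide +kernel)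
    · exact CfsgLib.Chev.TE8.good.gen1' (p := 120) (b := 0) (L := [7, 6, 5, 4, 3, 2, 1, 3, 4, 5, 6, 0, 2, 3, 4, 5, 1, 3, 4, 2, 3, 0, 2, 1, 3, 4, 5, 6, 7]) (by decide +kernel) (by decide +kernel) (by decide +kernel) (by decide +kernel)

end Cfsg.Agent.S2416
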