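import Cfsg.Statements.S2807
import Cfsg.Agent.S2792
import Cfsg.Agent.S1952
-- import your own Cfsg.Agent.* helpers here

set_option autoImplicit false
open Cfsg

namespace Cfsg.Agent.S2807

open scoped commutatorElement

lemma list_norm {p : ℕ} [hpf : Fact p.Prime] {P : Type*} [Group P] (A : Subgroup P) [hAn : A.Normal]
    (hA : Cfsg.IsElementaryAbelian p A) (z b : P) (hb : b ∈ A) :
    ((List.range p).map (fun i => (z ^ i)⁻¹ * b * z ^ i)).prod =
      (fun y : P => y⁻¹ * z⁻¹ * y * z)^[p - 1] b := by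
  have hpp : p.Prime := hpf.out
  letI : CommGroup A := { (inferInstance : Group A) with
    mul_comm := fun a c => by
      haveI := hA.1
      exact mul_comm' a c }
  have hiter : ∀ j, (fun y : P => y⁻¹ * z⁻¹ * y * z)^[j] b ∈ A := by
    intro j
    induction j with
    | zero => exact hb
    | succ j ih =>
      rw [Function.iterate_succ_apply']
      have h1 : z⁻¹ * ((fun y : P => y⁻¹ * z⁻¹ * y * z)^[j] b) * z ∈ A := by
        have := hAn.conj_mem _ ih z⁻¹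
        simpa using this
      have h2 : ((fun y : P => y⁻¹ * z⁻¹ * y * z)^[j] b)⁻¹ * z⁻¹ * ((fun y : P => y⁻¹ * z⁻¹ * y * z)^[j] b) * z =
          ((fun y : P => y⁻¹ * z⁻¹ * y * z)^[j] b)⁻¹ * (z⁻¹ * ((fun y : P => y⁻¹ * z⁻¹ * y * z)^[j] b) * z) := by group
      show ((fun y : P => y⁻¹ * z⁻¹ * y * z)^[j] b)⁻¹ * z⁻¹ * ((fun y : P => y⁻¹ * z⁻¹ * y * z)^[j] b) * z ∈ A
      rw [h2]
      exact A.mul_mem (A.inv_mem ih) h1
  have hconj : ∀ i j, (z ^ i)⁻¹ * ((fun y : P => y⁻¹ * z⁻¹ * y * z)^[j] b) * z ^ i ∈ A := by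
    intro i j
    have := hAn.conj_mem _ (hiter j) (z ^ i)⁻¹
    simpa using this
  let F : ℕ → ℕ → A := fun j i => ⟨_, hconj i j⟩
  have hF : ∀ j i, F j (i + 1) = F j i * F (j + 1) i := by
    intro j i
    apply Subtype.ext
    show (z ^ (i + 1))⁻¹ * ((fun y : P => y⁻¹ * z⁻¹ * y * z)^[j] b) * z ^ (i + 1) =
      ((z ^ i)⁻¹ * ((fun y : P => y⁻¹ * z⁻¹ * y * z)^[j] b) * z ^ i) *
        ((z ^ i)⁻¹ * ((fun y : P => y⁻¹ * z⁻¹ * y * z)^[j + 1] b) * z ^ i)
    rw [Function.iterate_succ_apply', pow_succ']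
    group
  have hexp : ∀ a : A, a ^ p = 1 := fun a => Subtype.ext (hA.2 a a.2)
  have hP := CfsgLib.WY.seq_pascal hpp hexp F hF
  have hlist : ∀ n, ((List.range n).map (fun i => (z ^ i)⁻¹ * b * z ^ i)).prod =
      ((∏ i ∈ Finset.range n, F 0 i : A) : P) := by
    intro n
    induction n with
    | zero => simp
    | succ n ih =>
      rw [List.range_succ, List.map_append, List.prod_append, ih, Finset.prod_range_succ]
      simp only [List.map_cons, List.map_nil, List.prod_cons, List.prod_nil, mul_one]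
      rfl
  rw [hlist p, hP]
  show (z ^ 0)⁻¹ * ((fun y : P => y⁻¹ * z⁻¹ * y * z)^[p - 1] b) * z ^ 0 = _
  simp

theorem wreath_core {p : ℕ} [hpf : Fact p.Prime] {P : Type*} [Group P] [Finite P] (hP : IsPGroup p P)
    (A : Subgroup P) [hAn : A.Normal] (hA : Cfsg.IsElementaryAbelian p A) (hidx : A.index = p) (x z : P)
    (hc : (fun y : P => y⁻¹ * z⁻¹ * y * z)^[p - 1] x ≠ 1) :
    ∃ (Q : Sylow p (Equiv.Perm (Fin (p ^ 2)))) (f : P →* ↥(Q : Subgroup (Equiv.Perm (Fin (p ^ 2))))),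
      Function.Surjective f := by
  classical
  have hpp : p.Prime := hpf.out
  have hcomm : ∀ a ∈ A, ∀ c ∈ A, a * c = c * a := by
    intro a ha c hc'
    haveI := hA.1
    have := mul_comm' (⟨a, ha⟩ : A) ⟨c, hc'⟩
    exact congrArg Subtype.val this
  by_cases hz : z ∈ A
  · have hf1 : x⁻¹ * z⁻¹ * x * z ∈ A := by
      have h1 := hAn.conj_mem _ (A.inv_mem hz) x⁻¹
      have h2 : x⁻¹ * z⁻¹ * x⁻¹⁻¹ = x⁻¹ * z⁻¹ * x := by simp
      rw [h2] at h1
      exact A.mul_mem h1 hz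
    by_cases hp2 : p = 2
    · subst hp2
      have hc1 : x⁻¹ * z⁻¹ * x * z ≠ 1 := hc
      have hxA : x ∉ A := by
        intro hxA
        apply hc1
        have := hcomm x hxA z hz
        calc x⁻¹ * z⁻¹ * x * z = x⁻¹ * z⁻¹ * (x * z) := by group
          _ = x⁻¹ * z⁻¹ * (z * x) := by rw [this]
          _ = 1 := by group
      apply Cfsg.Agent.S1952.result hP A hA hidx z x hz hxA
      intro hprod
      apply hc1
      simp only [List.range_succ, List.range_zero, List.nil_append] at hprod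
      have hz2 : z⁻¹ = z := by
        have := hA.2 z hz
        rw [pow_two] at this
        exact inv_eq_of_mul_eq_one_left this
      have hconj : x⁻¹ * z * x ∈ A := by
        have h1 := hAn.conj_mem _ hz x⁻¹
        simpa using h1
      have hcm := hcomm _ hconj z hz
      rw [hz2]
      have h3 : z * (x⁻¹ * z * x) = 1 := by simpa using hprod
      calc x⁻¹ * z * x * z = (x⁻¹ * z * x) * z := by group
        _ = z * (x⁻¹ * z * x) := hcm
        _ = 1 := h3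
    · exfalso
      obtain ⟨q, hq⟩ : ∃ q, p - 1 = q + 2 := by
        have := hpp.two_le
        exact ⟨p - 3, by omega⟩
      apply hc
      rw [hq, Function.iterate_succ_apply, Function.iterate_succ_apply]
      have h1 : (x⁻¹ * z⁻¹ * x * z)⁻¹ * z⁻¹ * (x⁻¹ * z⁻¹ * x * z) * z = 1 := by
        have := hcomm _ hf1 z hz
        calc (x⁻¹ * z⁻¹ * x * z)⁻¹ * z⁻¹ * (x⁻¹ * z⁻¹ * x * z) * z
            = (x⁻¹ * z⁻¹ * x * z)⁻¹ * z⁻¹ * ((x⁻¹ * z⁻¹ * x * z) * z) := by group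
          _ = (x⁻¹ * z⁻¹ * x * z)⁻¹ * z⁻¹ * (z * (x⁻¹ * z⁻¹ * x * z)) := by rw [this]
          _ = 1 := by group
      show (fun y : P => y⁻¹ * z⁻¹ * y * z)^[q] ((x⁻¹ * z⁻¹ * x * z)⁻¹ * z⁻¹ * (x⁻¹ * z⁻¹ * x * z) * z) = 1
      rw [h1]
      have h2 : ∀ n, (fun y : P => y⁻¹ * z⁻¹ * y * z)^[n] 1 = 1 := by
        intro n
        induction n with
        | zero => rfl
        | succ n ih =>
          rw [Function.iterate_succ_apply', ih]
          simp
      exact h2 q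
  · -- `z` outside `A`
    have hcq : Nat.card (P ⧸ A) = p := by rw [← Subgroup.index_eq_card]; exact hidx
    have hzq : (z : P ⧸ A) ≠ 1 := fun h => hz ((QuotientGroup.eq_one_iff _).mp h)
    haveI : Fact (Nat.card (P ⧸ A)).Prime := ⟨by rw [hcq]; exact hpp⟩
    have h1 : (x : P ⧸ A) ∈ Submonoid.powers (z : P ⧸ A) := mem_powers_of_prime_card hcq hzq
    obtain ⟨k, hk⟩ := h1
    have hk' : ((z ^ k : P) : P ⧸ A) = (x : P ⧸ A) := by
      rw [QuotientGroup.mk_pow]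
      exact hk
    have hmem : (z ^ k)⁻¹ * x ∈ A := QuotientGroup.eq.mp hk'
    -- `x = z ^ k * b` with `b ∈ A`
    set b := (z ^ k)⁻¹ * x with hb
    have hxb : x = z ^ k * b := by rw [hb]; group
    have hfx : x⁻¹ * z⁻¹ * x * z = b⁻¹ * z⁻¹ * b * z := by
      rw [hxb]
      have e1 : (z ^ k * b)⁻¹ * z⁻¹ * (z ^ k * b) * z = b⁻¹ * ((z ^ k)⁻¹ * z⁻¹ * z ^ k) * b * z := by group
      have e2 : (z ^ k)⁻¹ * z⁻¹ * z ^ k = z⁻¹ := by
        have : z⁻¹ * z ^ k = z ^ k * z⁻¹ := (Commute.inv_left (Commute.pow_right (Commute.refl z) k)).eq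
        rw [mul_assoc, this, ← mul_assoc, inv_mul_cancel, one_mul]
      rw [e1, e2]
    apply Cfsg.Agent.S1952.result hP A hA hidx b z hmem hz
    rw [list_norm A hA z b hmem]
    obtain ⟨q, hq⟩ : ∃ q, p - 1 = q + 1 := ⟨p - 2, by have := hpp.two_le; omega⟩
    rw [hq, Function.iterate_succ_apply] at hc ⊢
    show (fun y : P => y⁻¹ * z⁻¹ * y * z)^[q] (b⁻¹ * z⁻¹ * b * z) ≠ 1
    rw [← hfx]
    exact hc

/-- Let S be a Sylow p-subgroup of the finite group G. If S ∩ G' ≠ S ∩ (N_G(S))' (derived subgroups), then the wreath product Z_p ≀ Z_p — realised as a Sylow p-subgroup of the symmetric group of degree p² — is a homomorphic image of S. -/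
theorem result {G : Type*} [Group G] [Finite G] {p : ℕ} [Fact p.Prime] (S : Sylow p G) (h : (S : Subgroup G) ⊓ commutator G ≠ (S : Subgroup G) ⊓ ⁅Subgroup.normalizer ((S : Subgroup G) : Set G), Subgroup.normalizer ((S : Subgroup G) : Set G)⁆) : ∃ (P : Sylow p (Equiv.Perm (Fin (p ^ 2)))) (f : ↥(S : Subgroup G) →* ↥(P : Subgroup (Equiv.Perm (Fin (p ^ 2))))), Function.Surjective f := by
  classical
  have hpp : p.Prime := Fact.out
  have hwc : Cfsg.IsWeaklyClosed (S : Subgroup G) (S : Subgroup G) := by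
    refine ⟨le_rfl, fun g hg => ?_⟩
    apply Subgroup.eq_of_le_of_card_ge hg
    have h1 : Nat.card ((S : Subgroup G).map (MulAut.conj g).toMonoidHom) = Nat.card (S : Subgroup G) :=
      Subgroup.card_map_of_injective (MulAut.conj g).injective
    rw [h1]
  obtain ⟨x, hx, z, hz, W₀, hW₀, hc1, hc2⟩ := Cfsg.Agent.S2792.result S (S : Subgroup G) hwc h
  have hSp : IsPGroup p ↥(S : Subgroup G) := S.isPGroup'
  obtain ⟨hW₀n, hW₀i⟩ := CfsgLib.Solv.coatom_of_pgroup hSp hW₀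
  have hW₀p : IsPGroup p ↥W₀ := hSp.to_subgroup W₀
  set F : Subgroup ↥(S : Subgroup G) := (frattini ↥W₀).map W₀.subtype with hF
  haveI := hW₀n
  haveI hFn : F.Normal := inferInstance
  have hFW : F ≤ W₀ := Subgroup.map_subtype_le _
  set A : Subgroup (↥(S : Subgroup G) ⧸ F) := W₀.map (QuotientGroup.mk' F) with hA
  haveI hAn : A.Normal := Subgroup.Normal.map hW₀n _ (QuotientGroup.mk'_surjective F)
  have hfr := CfsgLib.Solv.pgroup_commutator_pow_le_frattini hW₀p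
  have hFc : ∀ a c : ↥W₀, ((a : ↥(S : Subgroup G)) : ↥(S : Subgroup G) ⧸ F) * ((c : ↥(S : Subgroup G)) : ↥(S : Subgroup G) ⧸ F) =
      ((c : ↥(S : Subgroup G)) : ↥(S : Subgroup G) ⧸ F) * ((a : ↥(S : Subgroup G)) : ↥(S : Subgroup G) ⧸ F) := by
    intro a c
    rw [← QuotientGroup.mk_mul, ← QuotientGroup.mk_mul]
    apply QuotientGroup.eq.mpr
    have h1 : ⁅c⁻¹, a⁻¹⁆ ∈ frattini ↥W₀ := hfr.1 (by
      rw [_root_.commutator_def]
      exact Subgroup.commutator_mem_commutator (Subgroup.mem_top _) (Subgroup.mem_top _))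
    refine ⟨_, h1, ?_⟩
    simp [commutatorElement_def, mul_assoc]
  have hAe : Cfsg.IsElementaryAbelian p A := by
    constructor
    · refine ⟨⟨fun a c => ?_⟩⟩
      obtain ⟨a', ha', hae⟩ := a.2
      obtain ⟨c', hc', hce⟩ := c.2
      apply Subtype.ext
      show (a : ↥(S : Subgroup G) ⧸ F) * c = c * a
      rw [← hae, ← hce]
      exact hFc ⟨a', ha'⟩ ⟨c', hc'⟩
    · rintro _ ⟨a', ha', rfl⟩
      show ((a' : ↥(S : Subgroup G) ⧸ F)) ^ p = 1
      rw [← QuotientGroup.mk_pow, QuotientGroup.eq_one_iff]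
      exact ⟨_, hfr.2 ⟨a', ha'⟩, rfl⟩
  have hAi : A.index = p := by
    rw [hA, Subgroup.index_map_eq _ (QuotientGroup.mk'_surjective F) (by rw [QuotientGroup.ker_mk']; exact hFW)]
    exact hW₀i
  set x₀ : ↥(S : Subgroup G) := ⟨x, hx⟩ with hx₀
  set z₀ : ↥(S : Subgroup G) := ⟨z, hz⟩ with hz₀
  have hit : ∀ k, (((fun y : ↥(S : Subgroup G) => y⁻¹ * z₀⁻¹ * y * z₀)^[k] x₀ : ↥(S : Subgroup G)) : G) =
      (fun y : G => y⁻¹ * z⁻¹ * y * z)^[k] x := by
    intro k
    induction k with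
    | zero => rfl
    | succ k ih =>
      rw [Function.iterate_succ_apply', Function.iterate_succ_apply', ← ih]
      rfl
  have hit2 : ∀ k, (((fun y : ↥(S : Subgroup G) => y⁻¹ * z₀⁻¹ * y * z₀)^[k] x₀ : ↥(S : Subgroup G)) : ↥(S : Subgroup G) ⧸ F) =
      (fun y : ↥(S : Subgroup G) ⧸ F => y⁻¹ * (z₀ : ↥(S : Subgroup G) ⧸ F)⁻¹ * y * (z₀ : ↥(S : Subgroup G) ⧸ F))^[k] (x₀ : ↥(S : Subgroup G) ⧸ F) := by
    intro k
    induction k with
    | zero => rfl
    | succ k ih =>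
      rw [Function.iterate_succ_apply', Function.iterate_succ_apply', ← ih]
      rfl
  have hcbar : (fun y : ↥(S : Subgroup G) ⧸ F => y⁻¹ * (z₀ : ↥(S : Subgroup G) ⧸ F)⁻¹ * y * (z₀ : ↥(S : Subgroup G) ⧸ F))^[p - 1] (x₀ : ↥(S : Subgroup G) ⧸ F) ≠ 1 := by
    rw [← hit2]
    intro h1
    have h2 := (QuotientGroup.eq_one_iff _).mp h1
    apply hc2
    rw [← hit]
    exact ⟨_, h2, rfl⟩
  obtain ⟨Q, f, hf⟩ := wreath_core (hSp.to_quotient F) A hAe hAi _ _ hcbar
  exact ⟨Q, f.comp (QuotientGroup.mk' F), hf.comp (QuotientGroup.mk'_surjective F)⟩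

end Cfsg.Agent.S2807
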