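import Cfsg.Statements.S2873
import Cfsg.Agent.Lib.H3.DihAct2
import Cfsg.Agent.Lib.Solv.Core

set_option autoImplicit false
open Cfsg

namespace Cfsg.Agent.S2873

/-- Let G be a finite group and r an odd prime such that G ⧸ O₂(G) is dihedral of order 2r, and let R be a Sylow r-subgroup of G with C_{O₂(G)}(R) = 1. Then N_G(R) is dihedral of order 2r; for any involution a of N_G(R), every involution of G outside O₂(G) is conjugate to a; and |C_{O₂(G)}(a)|² = |O₂(G)|. -/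
theorem result {G : Type*} [Group G] [Finite G] {r : ℕ} [Fact r.Prime] (hr : r ≠ 2) [hN : (Cfsg.pCore 2 G).Normal] (hquot : Nonempty (G ⧸ Cfsg.pCore 2 G ≃* DihedralGroup r)) (R : Sylow r G) (hC : Cfsg.pCore 2 G ⊓ Subgroup.centralizer ((R : Subgroup G) : Set G) = ⊥) : Nonempty (↥(Subgroup.normalizer ((R : Subgroup G) : Set G)) ≃* DihedralGroup r) ∧ ∀ a : G, a ∈ Subgroup.normalizer ((R : Subgroup G) : Set G) → orderOf a = 2 → (∀ b : G, orderOf b = 2 → b ∉ Cfsg.pCore 2 G → ∃ g : G, g * a * g⁻¹ = b) ∧ Nat.card ↥(Cfsg.pCore 2 G ⊓ Subgroup.centralizer ({a} : Set G)) ^ 2 = Nat.card ↥(Cfsg.pCore 2 G) := by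
  classical
  haveI : Fact (Nat.Prime 2) := ⟨Nat.prime_two⟩
  obtain ⟨ι⟩ := hquot
  refine CfsgLib.DihAct.main2 (Cfsg.pCore 2 G) (CfsgLib.Solv.pCore_isPGroup 2) hr
    (ι.toMonoidHom.comp (QuotientGroup.mk' _))
    (ι.surjective.comp (QuotientGroup.mk'_surjective _)) ?_ R hC
  intro g
  constructor
  · intro h
    have h1 : ι (QuotientGroup.mk' (Cfsg.pCore 2 G) g) = 1 := h
    rw [map_eq_one_iff ι ι.injective] at h1
    exact (QuotientGroup.eq_one_iff g).mp h1
  · intro h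
    show ι (QuotientGroup.mk' (Cfsg.pCore 2 G) g) = 1
    rw [show QuotientGroup.mk' (Cfsg.pCore 2 G) g = 1 from (QuotientGroup.eq_one_iff g).mpr h, map_one]

end Cfsg.Agent.S2873
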