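import Cfsg.Statements.S2879
import Cfsg.Agent.Lib.H3.SL23Normal

set_option autoImplicit false
open Cfsg

namespace Cfsg.Agent.S2879

/-- Let G be a finite solvable group with O(G) = 1 whose Sylow 2-subgroup T is dihedral of order at least 8 or semidihedral, with G ≠ T and Z(T) normal in G. Then G has a normal subgroup isomorphic to SL₂(3). -/
theorem result {G : Type*} [Group G] [Finite G] (hsol : IsSolvable G) (hO : Cfsg.oddCore G = ⊥) (T : Sylow 2 G) (hT : (∃ n : ℕ, 4 ≤ n ∧ Nonempty (↥(T : Subgroup G) ≃* DihedralGroup n)) ∨ Cfsg.IsQuasiDihedral ↥(T : Subgroup G)) (hne : (T : Subgroup G) ≠ ⊤) (hZ : ((T : Subgroup G) ⊓ Subgroup.centralizer ((T : Subgroup G) : Set G)).Normal) : ∃ U : Subgroup G, U.Normal ∧ Nonempty (↥U ≃* Matrix.SpecialLinearGroup (Fin 2) (ZMod 3)) := by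
  classical
  haveI : Fact (Nat.Prime 2) := ⟨Nat.prime_two⟩
  rcases hT with ⟨n, hn, ⟨e⟩⟩ | ⟨n, hn, hcard, x, y, hx, hy, hxy⟩
  · haveI : NeZero n := ⟨by omega⟩
    have hcard : Nat.card ↥(T : Subgroup G) = 2 * n := by
      rw [Nat.card_congr e.toEquiv, DihedralGroup.nat_card]
    refine CfsgLib.SLNormal.main' hsol hO (T : Subgroup G) T.isPGroup' T.not_dvd_index
      ((e.symm (DihedralGroup.r 1) : ↥(T : Subgroup G)) : G) (e.symm (DihedralGroup.r 1)).2 ?_ (by omega) hne hZ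
    rw [hcard, Subgroup.orderOf_coe, MulEquiv.orderOf_eq, DihedralGroup.orderOf_r_one]
  · have h16 : 2 ^ 4 ≤ 2 ^ (n + 1) := Nat.pow_le_pow_right (by norm_num) (by omega)
    refine CfsgLib.SLNormal.main' hsol hO (T : Subgroup G) T.isPGroup' T.not_dvd_index
      (x : G) x.2 ?_ (by omega) hne hZ
    rw [hcard, Subgroup.orderOf_coe, hx, pow_succ]
    ring

end Cfsg.Agent.S2879
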