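import Cfsg.Statements.S3069
import Cfsg.Agent.S1971
import Cfsg.Agent.S1984
-- import your own Cfsg.Agent.* helpers here

set_option autoImplicit false
open Cfsg

namespace Cfsg.Agent.S3069

/-- Let p ≥ 7 be a prime and S a nontrivial Sylow p-subgroup of the finite group G. If N_G(S)/C_G(S) is a p-group (every element of N_G(S) of order prime to p centralizes S), then O^p(G) < G, i.e. G has a nontrivial p-factor group. -/
theorem result {G : Type*} [Group G] [Finite G] {p : ℕ} [Fact p.Prime]
    (hp : 7 ≤ p) (S : Sylow p G) (hS : (S : Subgroup G) ≠ ⊥)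
    (hN : ∀ g ∈ Subgroup.normalizer ((S : Subgroup G) : Set G), (orderOf g).Coprime p →
      g ∈ Subgroup.centralizer ((S : Subgroup G) : Set G)) :
    Cfsg.pResidual p G ≠ ⊤ := by
  have hpp : p.Prime := Fact.out
  obtain ⟨N, hNn, hNi⟩ := Cfsg.Agent.S1971.result Cfsg.kInfLower CfsgLib.KI.kInfLower_char
    (fun K R _ => Cfsg.Agent.S1984.result (G := ↥K ⧸ R.subgroupOf K) (by omega)) S hS hN
  intro htop
  have hle : Cfsg.pResidual p G ≤ N := by
    refine (Subgroup.closure_le _).2 ?_
    intro g hg
    apply CfsgLib.Trans.mem_of_coprime_index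
    rw [hNi]
    exact hg
  rw [htop] at hle
  have hNt : N = ⊤ := top_le_iff.1 hle
  rw [hNt, Subgroup.index_top] at hNi
  exact hpp.one_lt.ne hNi

end Cfsg.Agent.S3069
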