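import Cfsg.Statements.S3071
import Cfsg.Agent.Lib.MX.Gp3

set_option autoImplicit false
open Cfsg

namespace Cfsg.Agent.S3071

/-- Let p be an odd prime and S a Sylow p-subgroup of the finite group G such that, for every subgroup P with Z(S) ≤ P ≤ S, the normalizer N_G(P) has no section isomorphic to SL₂(p). Let J(S) be the subgroup generated by the abelian subgroups of S of largest order. Then two elements of S are conjugate in G if and only if they are conjugate in N_G(Z(J(S))). -/
theorem result {G : Type*} [Group G] [Finite G] {p : ℕ} [Fact p.Prime]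
    (hp : p ≠ 2) (S : Sylow p G)
    (hfree : ∀ P : Subgroup G, (S : Subgroup G) ⊓ Subgroup.centralizer ((S : Subgroup G) : Set G) ≤ P → P ≤ S →
      ¬ ∃ (H K : Subgroup G) (hK : (K.subgroupOf H).Normal), H ≤ Subgroup.normalizer (P : Set G) ∧
        Nonempty ((H ⧸ K.subgroupOf H) ≃* Matrix.SpecialLinearGroup (Fin 2) (ZMod p))) :
    ∀ x ∈ S, ∀ y ∈ S, (∃ g : G, g * x * g⁻¹ = y) ↔
      ∃ n ∈ Subgroup.normalizer (Cfsg.centerThompsonAOf (S : Subgroup G) : Set G), n * x * n⁻¹ = y := by
  classical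
  intro x hx y hy
  constructor
  · rintro ⟨g, he⟩
    have hfree' : (Cfsg.groupFusionSystem (S : Subgroup G)).IsSectionFree p ↥(Cfsg.qd p) := by
      refine CfsgLib.MX.sectionFree_of_local S fun Q hQn hQc hinv => ?_
      have hQS : Q ≤ (S : Subgroup G) := hQn.1
      have hZ : (S : Subgroup G) ⊓ Subgroup.centralizer ((S : Subgroup G) : Set G) ≤ Q := by
        intro z hz
        refine hQc.2 Q (CfsgLib.Fusion.isConj_refl _ hQS) ⟨hz.1, Subgroup.mem_centralizer_iff.mpr fun u hu => ?_⟩
        exact Subgroup.mem_centralizer_iff.mp hz.2 u (hQS hu)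
      refine hfree Q hZ hQS ?_
      obtain ⟨K, R, hn, he'⟩ := hinv
      have h1 : CfsgLib.OOL.SecX (↥(Cfsg.qd p)) ↥(Subgroup.normalizer (Q : Set G)) := CfsgLib.OOL.SecX.of_section K R hn he'
      have h2 := CfsgLib.OOL.SecX.trans CfsgLib.MX.secX_sl2_qd h1
      obtain ⟨K', L', hL', hle, he₂⟩ := CfsgLib.OOL.SecX.to_section _ h2
      exact ⟨K', L', hL', hle, he₂⟩
    have hn := CfsgLib.MX.isNormal_zj hp (S.isPGroup') _ (CfsgLib.Fusion.groupSys_isSaturated S) hfree'
    exact CfsgLib.MX.exists_normalizer_conj_of_normal hn hx hy he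
  · rintro ⟨n, -, he⟩
    exact ⟨n, he⟩

end Cfsg.Agent.S3071
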