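import Cfsg.Statements.S3554
import Mathlib

set_option autoImplicit false

namespace Cfsg.Agent.S3554

/-- Let G act faithfully and transitively on a finite set and suppose G has a non-trivial cyclic normal subgroup. Then some element of G of prime order fixes no point. -/
theorem result {G Ω : Type*} [Group G] [Finite G] [MulAction G Ω] [FaithfulSMul G Ω] [Finite Ω]
    (htrans : MulAction.IsPretransitive G Ω) (C : Subgroup G) (hC : C.Normal) (hC1 : C ≠ ⊥) (hcyc : IsCyclic ↥C) :
    ∃ g : G, (orderOf g).Prime ∧ ∀ ω : Ω, g • ω ≠ ω := by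
  classical
  obtain ⟨c, hc⟩ := hcyc.exists_generator
  have hcard : orderOf c = Nat.card C := orderOf_eq_card_of_forall_mem_zpowers hc
  have hcne : Nat.card C ≠ 1 := by
    intro h
    apply hC1
    exact Subgroup.eq_bot_of_card_eq C h
  obtain ⟨p, hp, m, hm⟩ := Nat.exists_prime_and_dvd hcne
  have hposC : 0 < Nat.card C := Nat.card_pos
  have hm0 : 0 < m := by
    rcases Nat.eq_zero_or_pos m with h | h
    · subst h; omega
    · exact h
  let z : C := c ^ m
  have hz : orderOf z = p := by
    have := orderOf_pow' c (n := m) hm0.ne'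
    rw [hcard, hm] at this
    have hg : Nat.gcd (p * m) m = m := Nat.gcd_eq_right (Dvd.intro_left p rfl)
    rw [hg, Nat.mul_div_cancel _ hm0] at this
    exact this
  have hz' : orderOf (z : G) = p := by
    rw [Subgroup.orderOf_coe]; exact hz
  refine ⟨z, by rw [hz']; exact hp, ?_⟩
  intro ω hω
  -- z fixes all points
  have hall : ∀ ω' : Ω, (z : G) • ω' = ω' := by
    intro ω'
    obtain ⟨g, rfl⟩ := htrans.exists_smul_eq ω ω'
    -- g⁻¹ z g is a power of z
    have hmemc : g⁻¹ * (c : G) * g ∈ C := by
      have := hC.conj_mem (c : G) c.2 g⁻¹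
      simpa using this
    obtain ⟨k, hk⟩ := hc ⟨_, hmemc⟩
    have hk' : (g⁻¹ * (c : G) * g) = (c : G) ^ k := by
      have := congrArg (Subtype.val) hk
      simpa using this.symm
    have h1 : g⁻¹ * (z : G) * g = (z : G) ^ k := by
      show g⁻¹ * ((c : G) ^ m) * g = ((c : G) ^ m) ^ k
      have : g⁻¹ * ((c : G) ^ m) * g = (g⁻¹ * (c : G) * g) ^ m := by
        have h := conj_pow (a := g⁻¹) (b := (c : G)) (i := m)
        simpa using h.symm
      rw [this, hk']
      have e : ∀ (a : G) (u : ℤ) (v : ℕ), (a ^ u) ^ v = (a ^ v) ^ u := by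
        intro a u v
        rw [← zpow_natCast (a ^ u) v, ← zpow_natCast a v, ← zpow_mul, ← zpow_mul, mul_comm]
      exact e _ _ _
    have h2 : (z : G) ^ k • ω = ω := by
      have : ∀ n : ℤ, (z : G) ^ n • ω = ω := by
        intro n
        have hmem : (z : G) ^ n ∈ MulAction.stabilizer G ω := Subgroup.zpow_mem _ (by simpa using hω) n
        simpa using hmem
      exact this k
    have h3 : (g⁻¹ * (z : G) * g) • ω = ω := by rw [h1]; exact h2
    -- k gives also an inverse: so we can conclude directly
    have h4 : (g⁻¹ * (z : G) * g) • ω = g⁻¹ • ((z : G) • (g • ω)) := by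
      simp [mul_smul]
    -- wrong direction: we need z fixes g • ω. Use the formula with the element
    rw [h4] at h3
    have := congrArg (fun x => g • x) h3
    simpa using this
  have : (z : G) = 1 := by
    apply FaithfulSMul.eq_of_smul_eq_smul (α := Ω)
    intro a
    simpa using hall a
  rw [this, orderOf_one] at hz'
  exact hp.one_lt.ne hz'

end Cfsg.Agent.S3554
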