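import Cfsg.Statements.S3807
import Cfsg.Agent.Lib.FGS.IdxP

set_option autoImplicit false
open Cfsg
open scoped commutatorElement

namespace Cfsg.Agent.S3807

theorem center_le_of_comm_index {S : Type*} [Group S] [Finite S] (p : ℕ) [Fact p.Prime]
    (hna : ¬ IsMulCommutative S) (B : Subgroup S) (hB : IsMulCommutative B) (hBi : B.index = p) :
    Subgroup.center S ≤ B := by
  have hBc : IsCoatom B := CfsgLib.FGS.isCoatom_of_index_p B hBi
  have hBcomm : ∀ a ∈ B, ∀ b ∈ B, a * b = b * a := fun a ha b hb =>
    congrArg Subtype.val (hB.is_comm.comm ⟨a, ha⟩ ⟨b, hb⟩)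
  intro z hz
  by_contra hzA
  apply hna
  have hlt : B < B ⊔ Subgroup.zpowers z :=
    lt_of_le_of_ne le_sup_left (fun h => hzA (h ▸ Subgroup.mem_sup_right (Subgroup.mem_zpowers z)))
  have htop := hBc.2 _ hlt
  have hcent : ∀ w ∈ Subgroup.zpowers z, ∀ t : S, t * w = w * t := by
    rintro _ ⟨k, rfl⟩ t
    exact ((show Commute t z from (Subgroup.mem_center_iff.mp hz t)).zpow_right k)
  haveI hzn : (Subgroup.zpowers z).Normal := ⟨fun w hw g => by
    have := hcent w hw g
    rw [this]
    have e : w * g * g⁻¹ = w := by group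
    rwa [e]⟩
  refine ⟨⟨fun y y' => ?_⟩⟩
  have hy : y ∈ B ⊔ Subgroup.zpowers z := htop ▸ Subgroup.mem_top y
  have hy' : y' ∈ B ⊔ Subgroup.zpowers z := htop ▸ Subgroup.mem_top y'
  obtain ⟨a, ha, w, hw, rfl⟩ := Subgroup.mem_sup_of_normal_right.mp hy
  obtain ⟨a', ha', w', hw', rfl⟩ := Subgroup.mem_sup_of_normal_right.mp hy'
  calc a * w * (a' * w') = a * (w * (a' * w')) := by group
    _ = a * ((a' * w') * w) := by rw [hcent w hw]
    _ = a * a' * w' * w := by group
    _ = a' * a * w' * w := by rw [hBcomm a ha a' ha']
    _ = a' * (a * w') * w := by group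
    _ = a' * (w' * a) * w := by rw [hcent w' hw']
    _ = _ := by group


/-- Let S be a non-abelian finite p-group with an abelian subgroup A of index p. Then [S : Z(S)] = p·#[S,S], and either [S,S] has order p, S/Z(S) is elementary abelian of order p², and S has exactly p + 1 abelian subgroups of index p; or [S,S] has order at least p² and A is the only abelian subgroup of index p in S. -/
theorem result {S : Type*} [Group S] [Finite S] (p : ℕ) [Fact p.Prime] (hS : IsPGroup p S) (hna : ¬ IsMulCommutative S)
    (A : Subgroup S) (hA : IsMulCommutative ↥A) (hAi : A.index = p) :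
    (Subgroup.center S).index = p * Nat.card (commutator S) ∧
      ((Nat.card (commutator S) = p ∧ Cfsg.IsElementaryAbelian p (⊤ : Subgroup (S ⧸ Subgroup.center S)) ∧
          Nat.card (S ⧸ Subgroup.center S) = p ^ 2 ∧
          Nat.card {B : Subgroup S // IsMulCommutative ↥B ∧ B.index = p} = p + 1) ∨
        (p ^ 2 ≤ Nat.card (commutator S) ∧ ∀ B : Subgroup S, IsMulCommutative ↥B → B.index = p → B = A)) := by
  classical
  have hpp : p.Prime := Fact.out
  have hidx := CfsgLib.FGS.index_center_eq hS hna A hA hAi
  refine ⟨hidx, ?_⟩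
  obtain ⟨i, hi⟩ := IsPGroup.iff_card.mp (hS.to_subgroup (commutator S))
  have hi0 : i ≠ 0 := by
    rintro rfl
    rw [pow_zero] at hi
    have h1 : commutator S = ⊥ := Subgroup.card_eq_one.mp hi
    apply hna
    refine ⟨⟨fun a b => ?_⟩⟩
    have h2 : ⁅a, b⁆ ∈ commutator S :=
      Subgroup.commutator_mem_commutator (Subgroup.mem_top a) (Subgroup.mem_top b)
    rw [h1] at h2
    exact commutatorElement_eq_one_iff_mul_comm.mp (Subgroup.mem_bot.mp h2)
  by_cases hi1 : i = 1
  · left
    have hS' : Nat.card (commutator S) = p := by rw [hi, hi1, pow_one]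
    have hZidx : (Subgroup.center S).index = p ^ 2 := by rw [hidx, hS']; ring
    have hEcard : Nat.card (S ⧸ Subgroup.center S) = p ^ 2 := by
      rw [← Subgroup.index_eq_card]; exact hZidx
    set π : S →* S ⧸ Subgroup.center S := QuotientGroup.mk' _ with hπ
    have hπs : Function.Surjective π := QuotientGroup.mk'_surjective _
    have hker : π.ker = Subgroup.center S := QuotientGroup.ker_mk' _
    have hEcomm : ∀ a b : S ⧸ Subgroup.center S, a * b = b * a :=
      fun a b => (IsPGroup.commGroupOfCardEqPrimeSq hEcard).mul_comm a b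
    have hEnc : ¬ IsCyclic (S ⧸ Subgroup.center S) := by
      intro hc
      apply hna
      refine ⟨⟨fun a b => ?_⟩⟩
      exact (π.isMulCommutative_of_isCyclic_of_ker_le_center hker.le).is_comm.comm a b
    have hexp : ∀ x : S ⧸ Subgroup.center S, x ^ p = 1 := by
      intro x
      have h1 : orderOf x ∣ p ^ 2 := by
        rw [← hEcard]; exact orderOf_dvd_natCard x
      obtain ⟨j, hj, hje⟩ := (Nat.dvd_prime_pow hpp).mp h1
      have hj' : j = 0 ∨ j = 1 ∨ j = 2 := by omega
      rcases hj' with rfl | rfl | rfl
      · rw [pow_zero] at hje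
        rw [orderOf_eq_one_iff.mp hje, one_pow]
      · rw [pow_one] at hje
        rw [← hje]
        exact pow_orderOf_eq_one x
      · exact absurd (isCyclic_of_orderOf_eq_card x (by rw [hje, hEcard])) hEnc
    refine ⟨hS', ⟨⟨⟨fun a b => ?_⟩⟩, fun a _ => hexp a⟩, hEcard, ?_⟩
    · apply Subtype.ext
      show (a : S ⧸ Subgroup.center S) * (b : S ⧸ Subgroup.center S) = (b : S ⧸ Subgroup.center S) * (a : S ⧸ Subgroup.center S)
      exact hEcomm _ _
    · rw [← CfsgLib.FGS.card_subgroups_order_p hEcard hexp]
      apply Nat.card_congr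
      -- the bijection
      have hfwd : ∀ B : Subgroup S, IsMulCommutative B → B.index = p → Nat.card (B.map π) = p := by
        intro B hB hBi
        have hZB := center_le_of_comm_index p hna B hB hBi
        have h1 : (B.map π).index = p := by
          rw [Subgroup.index_map_eq (f := π) (H := B) hπs (by rw [hker]; exact hZB), hBi]
        have h2 := (B.map π).card_mul_index
        rw [h1, hEcard] at h2
        have h3 : Nat.card (B.map π) * p = p * p := by rw [h2]; ring
        exact Nat.eq_of_mul_eq_mul_right hpp.pos h3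
      have hbwd : ∀ D : Subgroup (S ⧸ Subgroup.center S), Nat.card D = p →
          IsMulCommutative (D.comap π) ∧ (D.comap π).index = p := by
        intro D hD
        constructor
        · haveI hDc : IsCyclic D := isCyclic_of_prime_card hD
          obtain ⟨d, hd⟩ := IsCyclic.exists_generator (α := D)
          obtain ⟨b, hb⟩ := hπs (d : S ⧸ Subgroup.center S)
          have hform : ∀ x ∈ D.comap π, ∃ (k : ℤ), ∃ z ∈ Subgroup.center S, x = b ^ k * z := by
            intro x hx
            have h1 : π x ∈ D := hx
            obtain ⟨k, hk⟩ := hd ⟨π x, h1⟩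
            have h2 : (d : S ⧸ Subgroup.center S) ^ k = π x := congrArg Subtype.val hk
            rw [← hb, ← map_zpow] at h2
            refine ⟨k, (b ^ k)⁻¹ * x, ?_, by group⟩
            rw [← hker, MonoidHom.mem_ker, map_mul, map_inv, h2, inv_mul_cancel]
          refine ⟨⟨fun x y => ?_⟩⟩
          apply Subtype.ext
          obtain ⟨k, z, hz, hx⟩ := hform x x.2
          obtain ⟨l, w, hw, hy⟩ := hform y y.2
          show (x : S) * (y : S) = (y : S) * (x : S)
          rw [hx, hy]
          have c1 : ∀ u : S, u * z = z * u := fun u => Subgroup.mem_center_iff.mp hz u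
          have c2 : ∀ u : S, u * w = w * u := fun u => Subgroup.mem_center_iff.mp hw u
          have c3 : b ^ k * b ^ l = b ^ l * b ^ k := (Commute.refl b).zpow_zpow k l
          calc b ^ k * z * (b ^ l * w) = b ^ k * (z * (b ^ l * w)) := by group
            _ = b ^ k * ((b ^ l * w) * z) := by rw [c1]
            _ = (b ^ k * b ^ l) * (w * z) := by group
            _ = (b ^ l * b ^ k) * (z * w) := by rw [c3, c1 w]
            _ = b ^ l * (b ^ k * z) * w := by group
            _ = b ^ l * (w * (b ^ k * z)) := by rw [mul_assoc, c2 (b ^ k * z)]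
            _ = _ := by group
        · rw [Subgroup.index_comap_of_surjective _ hπs]
          have h2 := D.card_mul_index
          rw [hD, hEcard] at h2
          have h3 : p * D.index = p * p := by rw [h2]; ring
          exact Nat.eq_of_mul_eq_mul_left hpp.pos h3
      refine ⟨fun B => ⟨(B : Subgroup S).map π, hfwd B B.2.1 B.2.2⟩,
        fun D => ⟨(D : Subgroup _).comap π, hbwd D D.2⟩, ?_, ?_⟩
      · intro B
        apply Subtype.ext
        exact Subgroup.comap_map_eq_self (by
          rw [hker]
          exact center_le_of_comm_index p hna B B.2.1 B.2.2)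
      · intro D
        apply Subtype.ext
        exact Subgroup.map_comap_eq_self_of_surjective hπs _
  · right
    have hi2 : 2 ≤ i := by omega
    constructor
    · rw [hi]
      exact Nat.pow_le_pow_right hpp.pos hi2
    · intro B hB hBi
      by_contra hne
      have hAc : IsCoatom A := CfsgLib.FGS.isCoatom_of_index_p A hAi
      have hBc : IsCoatom B := CfsgLib.FGS.isCoatom_of_index_p B hBi
      have hAB : A ⊔ B = ⊤ := by
        apply hBc.2
        refine lt_of_le_of_ne le_sup_right (fun h => ?_)
        have h1 : A ≤ B := by rw [h]; exact le_sup_left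
        have h2 : A = B := by
          by_contra hn
          exact hBc.1 (hAc.2 B (lt_of_le_of_ne h1 hn))
        exact hne h2.symm
      have hinf : A ⊓ B ≤ Subgroup.center S := by
        intro x hx
        obtain ⟨hxA, hxB⟩ := Subgroup.mem_inf.mp hx
        rw [Subgroup.mem_center_iff]
        have hle : A ⊔ B ≤ Subgroup.centralizer ({x} : Set S) := by
          apply sup_le
          · intro a ha
            rw [Subgroup.mem_centralizer_singleton_iff]
            exact congrArg Subtype.val (hA.is_comm.comm ⟨a, ha⟩ ⟨x, hxA⟩)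
          · intro a ha
            rw [Subgroup.mem_centralizer_singleton_iff]
            exact congrArg Subtype.val (hB.is_comm.comm ⟨a, ha⟩ ⟨x, hxB⟩)
        intro g
        have : g ∈ Subgroup.centralizer ({x} : Set S) := hle (hAB ▸ Subgroup.mem_top g)
        exact Subgroup.mem_centralizer_singleton_iff.mp this
      have h1 : (Subgroup.center S).index ≤ (A ⊓ B).index :=
        Nat.le_of_dvd (Nat.pos_of_ne_zero Subgroup.index_ne_zero_of_finite) (Subgroup.index_dvd_of_le hinf)
      have h2 := Subgroup.index_inf_le (H := A) (K := B)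
      rw [hAi, hBi] at h2
      have h3 : p * p ^ i ≤ p * p := by
        rw [← hi, ← hidx]
        exact h1.trans h2
      have h4 : p ^ i ≤ p := Nat.le_of_mul_le_mul_left h3 hpp.pos
      have h5 : p ^ 2 ≤ p ^ i := Nat.pow_le_pow_right hpp.pos hi2
      have h6 : p ^ 2 ≤ p ^ 1 := by rw [pow_one]; exact h5.trans h4
      have := (Nat.pow_le_pow_iff_right hpp.one_lt).mp h6
      omega

end Cfsg.Agent.S3807
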