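import Cfsg.Statements.S3808
import Cfsg.Agent.Lib.FGS.IdxP

set_option autoImplicit false
open Cfsg

namespace Cfsg.Agent.S3808

/-- Let S be a finite p-group with an extraspecial subgroup Q of index p. Then either Z(S) = Z(Q), or S = Q·Z(S) and Z(S) has order p². -/
theorem result {S : Type*} [Group S] [Finite S] (p : ℕ) [Fact p.Prime] (hS : IsPGroup p S) (Q : Subgroup S) (hQ : Cfsg.IsExtraspecial p ↥Q) (hQi : Q.index = p) :
    Subgroup.center S = (Subgroup.center ↥Q).map Q.subtype ∨
      (Q ⊔ Subgroup.center S = ⊤ ∧ Nat.card (Subgroup.center S) = p ^ 2) := by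
  classical
  have hpp : p.Prime := Fact.out
  haveI hQn : Q.Normal := CfsgLib.FGS.normal_of_index_p hS Q hQi
  have hQc : IsCoatom Q := CfsgLib.FGS.isCoatom_of_index_p Q hQi
  set Zq := (Subgroup.center ↥Q).map Q.subtype with hZq
  have hZqcard : Nat.card Zq = p := by
    rw [hZq, Subgroup.card_map_of_injective Q.subtype_injective]
    exact hQ.2
  have hZqmem : ∀ z, z ∈ Zq ↔ z ∈ Q ∧ ∀ u ∈ Q, u * z = z * u := by
    intro z
    constructor
    · rintro ⟨w, hw, rfl⟩
      refine ⟨w.2, fun u hu => ?_⟩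
      exact congrArg Subtype.val (Subgroup.mem_center_iff.mp hw ⟨u, hu⟩)
    · rintro ⟨hz, hc⟩
      refine ⟨⟨z, hz⟩, Subgroup.mem_center_iff.mpr (fun u => Subtype.ext (hc u u.2)), rfl⟩
  haveI hZqn : Zq.Normal := by
    constructor
    intro z hz g
    obtain ⟨hz1, hz2⟩ := (hZqmem z).mp hz
    refine (hZqmem _).mpr ⟨hQn.conj_mem z hz1 g, fun u hu => ?_⟩
    have h1 : g⁻¹ * u * g ∈ Q := by
      have := hQn.conj_mem u hu g⁻¹
      simpa using this
    have h2 := hz2 _ h1
    calc u * (g * z * g⁻¹) = g * ((g⁻¹ * u * g) * z) * g⁻¹ := by group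
      _ = g * (z * (g⁻¹ * u * g)) * g⁻¹ := by rw [h2]
      _ = _ := by group
  have hZqZ : Zq ≤ Subgroup.center S := CfsgLib.FGS.le_center_of_card_p hS Zq hZqcard
  have hinf : Q ⊓ Subgroup.center S = Zq := by
    apply le_antisymm
    · intro z hz
      obtain ⟨h1, h2⟩ := Subgroup.mem_inf.mp hz
      exact (hZqmem z).mpr ⟨h1, fun u _ => Subgroup.mem_center_iff.mp h2 u⟩
    · exact le_inf (fun z hz => ((hZqmem z).mp hz).1) hZqZ
  by_cases hle : Subgroup.center S ≤ Q
  · left
    apply le_antisymm _ hZqZ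
    rw [← hinf]
    exact le_inf hle le_rfl
  · right
    have hlt : Q < Q ⊔ Subgroup.center S := by
      refine lt_of_le_of_ne le_sup_left (fun h => hle ?_)
      rw [h]
      exact le_sup_right
    have htop := hQc.2 _ hlt
    refine ⟨htop, ?_⟩
    have h1 := CfsgLib.PLocal.card_sup_mul_card_inf Q (Subgroup.center S) (by
      rw [Subgroup.normalizer_eq_top]
      exact le_top)
    rw [htop, hinf, hZqcard, Subgroup.card_top, ← Q.card_mul_index, hQi] at h1
    have h2 : Nat.card Q * (p * p) = Nat.card Q * Nat.card (Subgroup.center S) := by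
      rw [← h1]
      ring
    have h3 := Nat.eq_of_mul_eq_mul_left Nat.card_pos h2
    rw [← h3]
    ring

end Cfsg.Agent.S3808
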