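import Cfsg.Statements.S3809
import Cfsg.Agent.Lib.FGS.Extra

set_option autoImplicit false
open Cfsg
open scoped commutatorElement

namespace Cfsg.Agent.S3809

/-- Let S be a finite p-group with an extraspecial subgroup of index p. Then S has order p^(2+2n) for some n ≥ 1, derived length at most 3, and exponent dividing p³. -/
theorem result {S : Type*} [Group S] [Finite S] (p : ℕ) [Fact p.Prime] (hS : IsPGroup p S) (Q : Subgroup S) (hQ : Cfsg.IsExtraspecial p ↥Q) (hQi : Q.index = p) :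
    (∃ n : ℕ, 1 ≤ n ∧ Nat.card S = p ^ (2 + 2 * n)) ∧ derivedSeries S 3 = ⊥ ∧ ∀ x : S, x ^ (p ^ 3) = 1 := by
  classical
  have hpp : p.Prime := Fact.out
  haveI hQn : Q.Normal := CfsgLib.FGS.normal_of_index_p hS Q hQi
  have hQc : IsCoatom Q := CfsgLib.FGS.isCoatom_of_index_p Q hQi
  have hQpg : IsPGroup p Q := hS.to_subgroup Q
  have hFrat : frattini S ≤ Q := frattini_le_coatom hQc
  obtain ⟨hcomm, hpow⟩ := CfsgLib.Solv.pgroup_commutator_pow_le_frattini hS
  obtain ⟨-, hpowQ⟩ := CfsgLib.Solv.pgroup_commutator_pow_le_frattini hQpg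
  refine ⟨?_, ?_, ?_⟩
  · obtain ⟨n, hn1, hn⟩ := CfsgLib.FGS.card_extraspecial hQ
    refine ⟨n, hn1, ?_⟩
    rw [← Q.card_mul_index, hn, hQi]
    ring
  · -- derived series
    set Zq := (Subgroup.center ↥Q).map Q.subtype with hZq
    have hd1 : derivedSeries S 1 ≤ Q := by
      have : derivedSeries S 1 = commutator S := rfl
      rw [this]
      exact hcomm.trans hFrat
    have hd2 : derivedSeries S 2 ≤ Zq := by
      have : derivedSeries S 2 = ⁅derivedSeries S 1, derivedSeries S 1⁆ := rfl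
      rw [this]
      refine le_trans (Subgroup.commutator_mono hd1 hd1) ?_
      rw [Subgroup.commutator_le]
      intro a ha b hb
      have h1 : ⁅(⟨a, ha⟩ : Q), (⟨b, hb⟩ : Q)⁆ ∈ commutator ↥Q :=
        Subgroup.commutator_mem_commutator (Subgroup.mem_top _) (Subgroup.mem_top _)
      rw [hQ.1.2.2] at h1
      exact ⟨_, h1, rfl⟩
    have hZab : ⁅Zq, Zq⁆ = ⊥ := by
      rw [Subgroup.commutator_eq_bot_iff_le_centralizer]
      rintro _ ⟨u, hu, rfl⟩
      rw [Subgroup.mem_centralizer_iff]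
      rintro _ ⟨v, hv, rfl⟩
      exact congrArg Subtype.val (Subgroup.mem_center_iff.mp hu v)
    have : derivedSeries S 3 = ⁅derivedSeries S 2, derivedSeries S 2⁆ := rfl
    rw [this, eq_bot_iff, ← hZab]
    exact Subgroup.commutator_mono hd2 hd2
  · intro x
    have h1 : x ^ p ∈ Q := hFrat (hpow x)
    have h2 := hpowQ ⟨x ^ p, h1⟩
    rw [hQ.1.2.1] at h2
    have h3 : (⟨(⟨x ^ p, h1⟩ ^ p : Q), h2⟩ : Subgroup.center ↥Q) ^ Nat.card (Subgroup.center ↥Q) = 1 :=
      pow_card_eq_one'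
    rw [hQ.2] at h3
    have h4 := congrArg (fun z : Subgroup.center ↥Q => (((z : Q) : S))) h3
    simp only [Subgroup.coe_one, SubgroupClass.coe_pow] at h4
    rw [← pow_mul, ← pow_mul] at h4
    have e : p ^ 3 = p * (p * p) := by ring
    rw [e]
    exact h4

end Cfsg.Agent.S3809
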