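import Cfsg.Statements.S3810
import Cfsg.Agent.Lib.FGS.IdxP

set_option autoImplicit false
open Cfsg

namespace Cfsg.Agent.S3810

/-- Let S be a finite p-group with an extraspecial subgroup of index p. Then S has an abelian subgroup of index p if and only if S has order p⁴. -/
theorem result {S : Type*} [Group S] [Finite S] (p : ℕ) [Fact p.Prime] (hS : IsPGroup p S) (Q : Subgroup S) (hQ : Cfsg.IsExtraspecial p ↥Q) (hQi : Q.index = p) :
    (∃ A : Subgroup S, IsMulCommutative ↥A ∧ A.index = p) ↔ Nat.card S = p ^ 4 := by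
  classical
  have hpp : p.Prime := Fact.out
  haveI hQn : Q.Normal := CfsgLib.FGS.normal_of_index_p hS Q hQi
  have hQc : IsCoatom Q := CfsgLib.FGS.isCoatom_of_index_p Q hQi
  have hQpg : IsPGroup p Q := hS.to_subgroup Q
  have hcomm : commutator ↥Q = Subgroup.center ↥Q := hQ.1.2.2
  have hcc : Nat.card (commutator ↥Q) = p := by rw [hcomm]; exact hQ.2
  have hQna : ¬ IsMulCommutative ↥Q := by
    intro h
    have h1 : commutator ↥Q = ⊥ := by
      rw [commutator_def, Subgroup.commutator_eq_bot_iff_le_centralizer]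
      intro a _
      rw [Subgroup.mem_centralizer_iff]
      intro b _
      exact h.is_comm.comm b a
    rw [h1, Subgroup.card_bot] at hcc
    exact hpp.one_lt.ne hcc
  constructor
  · rintro ⟨A, hA, hAi⟩
    haveI hAn : A.Normal := CfsgLib.FGS.normal_of_index_p hS A hAi
    have hAc : IsCoatom A := CfsgLib.FGS.isCoatom_of_index_p A hAi
    have hQA : ¬ Q ≤ A := by
      intro hle
      have hEq : Q = A := by
        by_contra hne
        exact hAc.1 (hQc.2 A (lt_of_le_of_ne hle hne))
      apply hQna
      rw [hEq]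
      exact hA
    have hsup : Q ⊔ A = ⊤ := by
      apply hAc.2
      refine lt_of_le_of_ne le_sup_right (fun h => hQA ?_)
      rw [h]
      exact le_sup_left
    have hrel : A.relIndex Q = p := by
      have h4 : A.relIndex (Q ⊔ A) = A.relIndex Q := Subgroup.relIndex_sup_right Q A
      rw [hsup, Subgroup.relIndex_top_right, hAi] at h4
      exact h4.symm
    have hB : IsMulCommutative ↥(A.subgroupOf Q) := by
      refine ⟨⟨fun a b => ?_⟩⟩
      apply Subtype.ext
      apply Subtype.ext
      have ha : ((a : Q) : S) ∈ A := a.2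
      have hb : ((b : Q) : S) ∈ A := b.2
      show ((a : Q) : S) * ((b : Q) : S) = ((b : Q) : S) * ((a : Q) : S)
      exact congrArg Subtype.val (hA.is_comm.comm ⟨_, ha⟩ ⟨_, hb⟩)
    have hidx := CfsgLib.FGS.index_center_eq hQpg hQna (A.subgroupOf Q) hB hrel
    rw [hcc] at hidx
    have h5 := (Subgroup.center ↥Q).card_mul_index
    rw [hidx, hQ.2] at h5
    have h6 := Q.card_mul_index
    rw [hQi, ← h5] at h6
    rw [← h6]
    ring
  · intro hcard
    obtain ⟨N, -, hNmax⟩ := Finite.exists_le_maximal
      (p := fun M : Subgroup S => M.Normal ∧ IsMulCommutative M) (a := ⊥)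
      ⟨inferInstance, ⟨⟨fun a b => by
        have ha : (a : S) = 1 := Subgroup.mem_bot.mp a.2
        have hb : (b : S) = 1 := Subgroup.mem_bot.mp b.2
        exact Subtype.ext (by simp [ha, hb])⟩⟩⟩
    obtain ⟨hNn, hNc⟩ := hNmax.prop
    haveI := hNn
    haveI := hNc
    haveI : Group.IsNilpotent S := hS.isNilpotent
    have hCN : Subgroup.centralizer (N : Set S) = N :=
      CfsgLib.Solv.maximal_abelian_normal_self_centralizing N (fun M hMn hMc hle =>
        le_antisymm (hNmax.le_of_ge ⟨hMn, hMc⟩ hle) hle)
    obtain ⟨i, hi⟩ := IsPGroup.iff_card.mp (hS.to_subgroup N)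
    have hdv : p ^ i ∣ p ^ 4 := by
      rw [← hi, ← hcard]
      exact Subgroup.card_subgroup_dvd_card N
    have hi4 : i ≤ 4 := (Nat.pow_dvd_pow_iff_le_right hpp.one_lt).mp hdv
    have hcases : i = 0 ∨ i = 1 ∨ i = 2 ∨ i = 3 ∨ i = 4 := by omega
    have h1lt : 1 < p := hpp.one_lt
    have hcentral : N ≤ Subgroup.center S → N = ⊤ := by
      intro hle
      rw [eq_top_iff, ← hCN]
      intro y _
      rw [Subgroup.mem_centralizer_iff]
      intro x hx
      exact (Subgroup.mem_center_iff.mp (hle hx) y).symm
    have hnot : i = 4 → ∃ A : Subgroup S, IsMulCommutative ↥A ∧ A.index = p := by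
      intro hi'
      have htop : N = ⊤ := by
        apply Subgroup.eq_top_of_card_eq
        rw [hi, hi', hcard]
      refine ⟨Q, ⟨⟨fun a b => ?_⟩⟩, hQi⟩
      rw [htop] at hNc
      apply Subtype.ext
      show (a : S) * (b : S) = (b : S) * (a : S)
      exact congrArg Subtype.val (hNc.is_comm.comm ⟨a, Subgroup.mem_top _⟩ ⟨b, Subgroup.mem_top _⟩)
    have hsmall : N ≤ Subgroup.center S → ∃ A : Subgroup S, IsMulCommutative ↥A ∧ A.index = p := by
      intro hle
      have htop := hcentral hle
      apply hnot
      rw [htop, Subgroup.card_top, hcard] at hi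
      exact ((Nat.pow_right_injective hpp.two_le) hi).symm
    rcases hcases with rfl | rfl | rfl | rfl | rfl
    · apply hsmall
      rw [pow_zero] at hi
      rw [Subgroup.card_eq_one.mp hi]
      exact bot_le
    · apply hsmall
      rw [pow_one] at hi
      exact CfsgLib.FGS.le_center_of_card_p hS N hi
    · have h2 := CfsgLib.FGS.card_le_cube_of_self_centralizing hS N hi hCN.le
      rw [hcard] at h2
      have := (Nat.pow_le_pow_iff_right hpp.one_lt).mp h2
      omega
    · refine ⟨N, hNc, ?_⟩
      have h2 := N.card_mul_index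
      rw [hi, hcard] at h2
      have h3 : p ^ 3 * N.index = p ^ 3 * p := by
        rw [h2]
        ring
      exact Nat.eq_of_mul_eq_mul_left (pow_pos hpp.pos 3) h3
    · exact hnot rfl
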