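import Cfsg.Statements.S3824
import Cfsg.Agent.Lib.FGS.SylQuot
import Cfsg.Agent.Lib.Char.Burnside

set_option autoImplicit false
open Cfsg

namespace Cfsg.Agent.S3824

universe u

theorem pow_of_dvd {m k : ℕ} (h : m ∣ 2 ^ k) : ∃ j, m = 2 ^ j := by
  obtain ⟨j, _, rfl⟩ := (Nat.dvd_prime_pow Nat.prime_two).mp h
  exact ⟨j, rfl⟩

theorem main_solv : ∀ (n : ℕ) (G : Type u) [Group G] [Finite G], Nat.card G = n →
    ∀ (A : Subgroup G), IsMulCommutative A → (∃ k : ℕ, A.index = 2 ^ k) → Group.IsSolvable G := by
  intro n
  induction n using Nat.strong_induction_on with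
  | _ n ih =>
    intro G _ _ hn A hA hidx
    obtain ⟨k, hk⟩ := hidx
    by_cases hsimple : IsSimpleGroup G
    · haveI := hsimple
      by_cases hAb : A = ⊥
      · -- 2-group
        have : IsPGroup 2 G := by
          have h1 : Nat.card G = 2 ^ k := by
            have := A.index_mul_card
            rw [hk, hAb] at this
            simpa using this.symm
          haveI : Fact (Nat.Prime 2) := ⟨Nat.prime_two⟩
          exact IsPGroup.of_card h1
        haveI := this.isNilpotent
        infer_instance
      · obtain ⟨x, hxA, hx1⟩ := A.bot_or_exists_ne_one.resolve_left hAb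
        have hle : A ≤ Subgroup.centralizer ({x} : Set G) := by
          intro y hy
          rw [Subgroup.mem_centralizer_singleton_iff]
          have := hA.is_comm.comm (⟨y, hy⟩ : A) ⟨x, hxA⟩
          simpa [Subtype.ext_iff] using this
        have hdvd : (Subgroup.centralizer ({x} : Set G)).index ∣ 2 ^ k := hk ▸ Subgroup.index_dvd_of_le hle
        obtain ⟨j, hj⟩ := pow_of_dvd hdvd
        have hprime := CfsgLib.Char.prime_card_of_class_prime_power Nat.prime_two hx1 hj
        haveI : Fact (Nat.card G).Prime := ⟨hprime⟩
        have : IsPGroup (Nat.card G) G := IsPGroup.of_card (n := 1) (by simp)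
        haveI := this.isNilpotent
        infer_instance
    · by_cases hnt : Nontrivial G
      · have hN : ∃ N : Subgroup G, N.Normal ∧ N ≠ ⊥ ∧ N ≠ ⊤ := by
          by_contra hcon
          push Not at hcon
          apply hsimple
          refine ⟨fun H hH => ?_⟩
          by_cases hb : H = ⊥
          · exact Or.inl hb
          · exact Or.inr (hcon H hH hb)
        obtain ⟨N, hNn, hNb, hNt⟩ := hN
        haveI := hNn
        have hNcard : Nat.card N < n := by
          rw [← hn]
          refine lt_of_le_of_ne (Subgroup.card_le_card_group N) ?_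
          intro he
          exact hNt (Subgroup.eq_top_of_card_eq N he)
        have hQcard : Nat.card (G ⧸ N) < n := by
          have h1 := Subgroup.card_eq_card_quotient_mul_card_subgroup N
          have h2 : 1 < Nat.card N := by
            rw [Subgroup.one_lt_card_iff_ne_bot]; exact hNb
          have h3 : 0 < Nat.card (G ⧸ N) := Nat.card_pos
          rw [hn] at h1
          rw [h1]
          nlinarith
        haveI hsN : Group.IsSolvable N := by
          refine ih _ hNcard N rfl (A.subgroupOf N) ?_ ?_
          · refine ⟨⟨fun a b => ?_⟩⟩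
            have := hA.is_comm.comm (⟨a.1.1, a.2⟩ : A) ⟨b.1.1, b.2⟩
            apply Subtype.ext
            apply Subtype.ext
            simpa [Subtype.ext_iff] using this
          · have h1 := CfsgLib.FGS.relIndex_sup_mul_card_inf A N
            have h2 : (A.subgroupOf N).index * Nat.card (A.subgroupOf N) = Nat.card N := (A.subgroupOf N).index_mul_card
            have h3 : Nat.card (A.subgroupOf N) = Nat.card ↥(A ⊓ N) := by
              rw [Nat.card_congr (Subgroup.subgroupOfEquivOfLe (inf_le_right : A ⊓ N ≤ N)).toEquiv.symm]
              rw [Subgroup.inf_subgroupOf_right]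
            have h4 : 0 < Nat.card ↥(A ⊓ N) := Nat.card_pos
            have h5 : (A.subgroupOf N).index = A.relIndex (A ⊔ N) := by
              have : (A.subgroupOf N).index * Nat.card ↥(A ⊓ N) = A.relIndex (A ⊔ N) * Nat.card ↥(A ⊓ N) := by
                rw [h3] at h2; exact h2.trans h1.symm
              exact Nat.eq_of_mul_eq_mul_right h4 this
            rw [h5]
            have h6 := Subgroup.relIndex_mul_index (le_sup_left : A ≤ A ⊔ N)
            have h7 : A.relIndex (A ⊔ N) ∣ 2 ^ k := by
              rw [← hk, ← h6]; exact Dvd.intro _ rfl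
            exact pow_of_dvd h7
        haveI hsQ : Group.IsSolvable (G ⧸ N) := by
          refine ih _ hQcard (G ⧸ N) rfl (A.map (QuotientGroup.mk' N)) ?_ ?_
          · refine ⟨⟨?_⟩⟩
            rintro ⟨_, a, ha, rfl⟩ ⟨_, b, hb, rfl⟩
            have := hA.is_comm.comm (⟨a, ha⟩ : A) ⟨b, hb⟩
            have h' : a * b = b * a := by simpa [Subtype.ext_iff] using this
            apply Subtype.ext
            show (QuotientGroup.mk' N) a * (QuotientGroup.mk' N) b = (QuotientGroup.mk' N) b * (QuotientGroup.mk' N) a
            rw [← map_mul, ← map_mul, h']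
          · have h1 := Subgroup.index_map A (QuotientGroup.mk' N)
            rw [QuotientGroup.ker_mk', (MonoidHom.range_eq_top.mpr (QuotientGroup.mk'_surjective N)), Subgroup.index_top, mul_one] at h1
            rw [h1]
            have h7 : (A ⊔ N).index ∣ 2 ^ k := hk ▸ Subgroup.index_dvd_of_le le_sup_left
            exact pow_of_dvd h7
        exact Group.isSolvable_of_ker_le_range N.subtype (QuotientGroup.mk' N) (by
          rw [QuotientGroup.ker_mk', Subgroup.range_subtype])
      · rw [not_nontrivial_iff_subsingleton] at hnt
        infer_instance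

/-- Every finite group having an abelian subgroup whose index is a power of 2 is solvable. -/
theorem result {G : Type*} [Group G] [Finite G]
    (A : Subgroup G) (hA : IsMulCommutative A) (hidx : ∃ k : ℕ, A.index = 2 ^ k) : Group.IsSolvable G := by
  exact main_solv _ G rfl A hA hidx

end Cfsg.Agent.S3824
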