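import Cfsg.Statements.S3835
import Cfsg.Agent.Lib.FGS.Basic
import Cfsg.Agent.Lib.H9.QdSection
import Cfsg.Agent.Lib.OOL.Qd1
import Cfsg.Agent.Lib.ClassGeo.SLGen

set_option autoImplicit false
open Cfsg
open scoped commutatorElement
open scoped Pointwise

namespace Cfsg.Agent.S3835

theorem h8_pab {α : Type*} [Finite α] (p : ℕ) [hp : Fact p.Prime] (hn : Nat.card α < p ^ 2) :
    CfsgLib.H9.QdSection.PAb p (Equiv.Perm α) := by
  classical
  intro S hS a ha b hb
  apply Equiv.ext
  intro x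
  have hpp := hp.out
  obtain ⟨k, hk⟩ := hS.card_orbit x
  have hle : Nat.card (MulAction.orbit S x) ≤ Nat.card α := by
    rw [Nat.card_coe_set_eq]
    exact Set.ncard_le_card _
  have hk1 : k < 2 := by
    by_contra hc
    push Not at hc
    have : p ^ 2 ≤ p ^ k := Nat.pow_le_pow_right hpp.pos hc
    omega
  let φ : S →* Equiv.Perm (MulAction.orbit S x) := MulAction.toPermHom S (MulAction.orbit S x)
  have hφ : ∀ (s : S) (u : MulAction.orbit S x), ((φ s u : MulAction.orbit S x) : α) = (s : Equiv.Perm α) (u : α) := fun s u => rfl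
  let x₀ : MulAction.orbit S x := ⟨x, MulAction.mem_orbit_self x⟩
  have hcomm : ∀ u v : φ.range, u * v = v * u := by
    have hRp : IsPGroup p φ.range := by
      have h1 : φ.range = Subgroup.map φ ⊤ := MonoidHom.range_eq_map φ
      rw [h1]
      exact (IsPGroup.to_subgroup hS ⊤).map φ
    obtain ⟨j, hj⟩ := IsPGroup.iff_card.1 hRp
    have hdvd : p ^ j ∣ Nat.card (Equiv.Perm (MulAction.orbit S x)) := by
      rw [← hj]; exact Subgroup.card_subgroup_dvd_card _
    have hcardO : Nat.card (Equiv.Perm (MulAction.orbit S x)) = (p ^ k).factorial := by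
      haveI := Fintype.ofFinite (MulAction.orbit S x)
      rw [Nat.card_eq_fintype_card, Fintype.card_perm, ← Nat.card_eq_fintype_card, hk]
    rw [hcardO] at hdvd
    have hj1 : j ≤ 1 := by
      by_contra hc
      push Not at hc
      have h2 : p ^ 2 ∣ (p ^ k).factorial := (pow_dvd_pow p hc).trans hdvd
      interval_cases k
      · simp at h2
        exact hpp.one_lt.ne' h2
      · rw [pow_one] at h2
        obtain ⟨m, hm⟩ : ∃ m, p = m + 1 := ⟨p - 1, by have := hpp.pos; omega⟩
        have h3 : p ^ 2 ∣ p * (p - 1).factorial := by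
          have e : p * (p - 1).factorial = p.factorial := Nat.mul_factorial_pred hpp.ne_zero
          rw [e]; exact h2
        rw [pow_two] at h3
        have h4 := Nat.dvd_of_mul_dvd_mul_left hpp.pos h3
        have h5 := (Nat.Prime.dvd_factorial hpp).1 h4
        have := hpp.pos
        omega
    have hcases : Nat.card φ.range = 1 ∨ Nat.card φ.range = p := by
      interval_cases j
      · left; simpa using hj
      · right; simpa using hj
    rcases hcases with h | h
    · haveI : Subsingleton φ.range := (Nat.card_eq_one_iff_unique.1 h).1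
      intro u v
      exact Subsingleton.elim _ _
    · haveI : IsCyclic φ.range := isCyclic_of_prime_card h
      exact (IsCyclic.commGroup (α := φ.range)).mul_comm
  have h3 := hcomm ⟨φ ⟨a, ha⟩, ⟨_, rfl⟩⟩ ⟨φ ⟨b, hb⟩, ⟨_, rfl⟩⟩
  have h4 : φ ⟨a, ha⟩ * φ ⟨b, hb⟩ = φ ⟨b, hb⟩ * φ ⟨a, ha⟩ := Subtype.ext_iff.1 h3
  have h5 := congrArg (fun z : Equiv.Perm (MulAction.orbit S x) => ((z x₀ : MulAction.orbit S x) : α)) h4
  exact h5

theorem h8_transv_pow (p : ℕ) [hp : Fact p.Prime] {i j : Fin 2} (hij : i ≠ j) (a : ZMod p) :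
    (Matrix.SpecialLinearGroup.transvection hij a : Matrix.SpecialLinearGroup (Fin 2) (ZMod p)) ^ p = 1 := by
  have key : ∀ k : ℕ, (Matrix.SpecialLinearGroup.transvection hij a : Matrix.SpecialLinearGroup (Fin 2) (ZMod p)) ^ k =
      Matrix.SpecialLinearGroup.transvection hij ((k : ZMod p) * a) := by
    intro k
    induction k with
    | zero =>
      apply Subtype.ext
      simp [Matrix.SpecialLinearGroup.transvection_coe]
    | succ k ih =>
      rw [pow_succ, ih]
      apply Subtype.ext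
      rw [Matrix.SpecialLinearGroup.coe_mul]
      simp only [Matrix.SpecialLinearGroup.transvection_coe]
      have h1 : (1 + Matrix.single i j ((k : ZMod p) * a)) * (1 + Matrix.single i j a) =
          1 + Matrix.single i j ((k : ZMod p) * a + a) := Matrix.transvection_mul_transvection_same i j hij ((k : ZMod p) * a) a
      rw [h1]
      congr 2
      push_cast
      ring
  rw [key]
  apply Subtype.ext
  simp [Matrix.SpecialLinearGroup.transvection_coe]

def h8_actF (p : ℕ) (M : Matrix.SpecialLinearGroup (Fin 3) (ZMod p)) (w : Fin 2 → ZMod p) : Fin 2 → ZMod p :=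
  ![(M : Matrix (Fin 3) (Fin 3) (ZMod p)) 0 0 * w 0 + (M : Matrix (Fin 3) (Fin 3) (ZMod p)) 0 1 * w 1 + (M : Matrix (Fin 3) (Fin 3) (ZMod p)) 0 2,
    (M : Matrix (Fin 3) (Fin 3) (ZMod p)) 1 0 * w 0 + (M : Matrix (Fin 3) (Fin 3) (ZMod p)) 1 1 * w 1 + (M : Matrix (Fin 3) (Fin 3) (ZMod p)) 1 2]

noncomputable def h8_F (p : ℕ) [Fact p.Prime] : Cfsg.qd p →* Function.End (Fin 2 → ZMod p) where
  toFun M := h8_actF p M
  map_one' := by
    funext w i
    fin_cases i <;> simp [h8_actF, Function.End.one_def]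
  map_mul' M N := by
    funext w i
    obtain ⟨h0, h1, h2⟩ := CfsgLib.OOL.qd_last_row N.2
    change h8_actF p ((M * N : Cfsg.qd p) : Matrix.SpecialLinearGroup (Fin 3) (ZMod p)) w i = h8_actF p (M : Matrix.SpecialLinearGroup (Fin 3) (ZMod p)) (h8_actF p (N : Matrix.SpecialLinearGroup (Fin 3) (ZMod p)) w) i
    fin_cases i <;> simp [h8_actF, Matrix.mul_apply, Fin.sum_univ_three, h0, h1, h2] <;> ring

theorem h8_F_inj (p : ℕ) [Fact p.Prime] : Function.Injective (h8_F p) := by
  intro M N h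
  have hw : ∀ w, h8_actF p (M : Matrix.SpecialLinearGroup (Fin 3) (ZMod p)) w = h8_actF p (N : Matrix.SpecialLinearGroup (Fin 3) (ZMod p)) w := fun w => congrFun h w
  obtain ⟨a0, a1, a2⟩ := CfsgLib.OOL.qd_last_row M.2
  obtain ⟨b0, b1, b2⟩ := CfsgLib.OOL.qd_last_row N.2
  have h00 := congrFun (hw ![0, 0]) 0
  have h01 := congrFun (hw ![0, 0]) 1
  have h10 := congrFun (hw ![1, 0]) 0
  have h11 := congrFun (hw ![1, 0]) 1
  have h20 := congrFun (hw ![0, 1]) 0
  have h21 := congrFun (hw ![0, 1]) 1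
  simp [h8_actF] at h00 h01 h10 h11 h20 h21
  apply Subtype.ext
  apply Subtype.ext
  ext i j
  fin_cases i <;> fin_cases j <;> simp <;> simp_all

/-- Let p be an odd prime and n a natural number. The alternating group of degree n has a subgroup isomorphic to Qd(p) (the natural semidirect product of an elementary abelian group of order p² by SL₂(p)) if and only if n ≥ p²; and if n < p² then Qd(p) is not even involved in it. -/
theorem result {p : ℕ} [Fact p.Prime] (hp : p ≠ 2) (n : ℕ) : ((∃ H : Subgroup (alternatingGroup (Fin n)), Nonempty (↥H ≃* ↥(Cfsg.qd p))) ↔ p ^ 2 ≤ n) ∧ (n < p ^ 2 → ¬ Cfsg.Involves ↥(Cfsg.qd p) ↥(alternatingGroup (Fin n))) := by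
  classical
  have hp' : p.Prime := Fact.out
  haveI : NeZero p := ⟨hp'.ne_zero⟩
  have hnot := CfsgLib.H9.QdSection.not_qd p hp
  have hB : n < p ^ 2 → ¬ Cfsg.Involves ↥(Cfsg.qd p) ↥(alternatingGroup (Fin n)) := by
    rintro hn ⟨K, R, hN, ⟨e⟩⟩
    have h1 := h8_pab (α := Fin n) p (by simpa using hn)
    have h2 := CfsgLib.H9.QdSection.PAb.subgroup h1 (alternatingGroup (Fin n))
    have h3 := CfsgLib.H9.QdSection.PAb.subgroup h2 K
    exact hnot (CfsgLib.H9.QdSection.PAb.surj h3 (e.toMonoidHom.comp (QuotientGroup.mk' _)) (e.surjective.comp (QuotientGroup.mk'_surjective _)))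
  refine ⟨⟨?_, ?_⟩, hB⟩
  · rintro ⟨H, ⟨e⟩⟩
    by_contra hn
    push Not at hn
    have h1 := h8_pab (α := Fin n) p (by simpa using hn)
    have h2 := CfsgLib.H9.QdSection.PAb.subgroup h1 (alternatingGroup (Fin n))
    have h3 := CfsgLib.H9.QdSection.PAb.subgroup h2 H
    exact hnot (CfsgLib.H9.QdSection.PAb.surj h3 e.toMonoidHom e.surjective)
  · intro hn
    have hcard : Fintype.card (Fin 2 → ZMod p) ≤ Fintype.card (Fin n) := by
      simpa [ZMod.card] using hn
    obtain ⟨ι⟩ := Function.Embedding.nonempty_of_card_le hcard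
    let Ψ : Cfsg.qd p →* Equiv.Perm (Fin n) := (Equiv.Perm.viaEmbeddingHom ι).comp (h8_F p).toHomPerm
    have hinj : Function.Injective Ψ := by
      intro M N h
      have h1 := Equiv.Perm.viaEmbeddingHom_injective ι h
      apply h8_F_inj p
      funext w
      exact congrArg (fun z : Equiv.Perm (Fin 2 → ZMod p) => z w) h1
    have hodd : Odd p := hp'.odd_of_ne_two hp
    have hord : ∀ g : Cfsg.qd p, g ^ p = 1 → Equiv.Perm.sign (Ψ g) = 1 := by
      intro g hg
      have h1 : (Equiv.Perm.sign (Ψ g)) ^ p = 1 := by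
        rw [← map_pow, ← map_pow, hg, map_one, map_one]
      rcases Int.units_eq_one_or (Equiv.Perm.sign (Ψ g)) with h | h
      · exact h
      · rw [h, hodd.neg_one_pow] at h1
        exact absurd h1 (by decide)
    have hExt : ∀ A : CfsgLib.OOL.SLE (ZMod p), Equiv.Perm.sign (Ψ ⟨CfsgLib.OOL.qdExt A, CfsgLib.OOL.qdExt_mem A⟩) = 1 := by
      intro A
      refine CfsgLib.ClassGeo.SL_transvection_induction (fun A => Equiv.Perm.sign (Ψ ⟨CfsgLib.OOL.qdExt A, CfsgLib.OOL.qdExt_mem A⟩) = 1) A ?_ ?_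
      · intro i j hij a
        apply hord
        apply Subtype.ext
        simp only [Subgroup.coe_pow, Subgroup.coe_one]
        rw [← map_pow, h8_transv_pow, map_one]
      · intro A B hA hB
        have e : (⟨CfsgLib.OOL.qdExt (A * B), CfsgLib.OOL.qdExt_mem (A * B)⟩ : Cfsg.qd p) =
            ⟨CfsgLib.OOL.qdExt A, CfsgLib.OOL.qdExt_mem A⟩ * ⟨CfsgLib.OOL.qdExt B, CfsgLib.OOL.qdExt_mem B⟩ :=
          Subtype.ext (map_mul _ _ _)
        rw [e, map_mul, map_mul, hA, hB, one_mul]
    have hTr : ∀ v : CfsgLib.OOL.VecP p, Equiv.Perm.sign (Ψ ⟨CfsgLib.OOL.qdTr v, CfsgLib.OOL.qdTr_mem v⟩) = 1 := by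
      intro v
      apply hord
      apply Subtype.ext
      simp only [Subgroup.coe_pow, Subgroup.coe_one]
      rw [← map_pow]
      have hv : v ^ p = 1 := by
        apply Multiplicative.toAdd.injective
        funext i
        simp
      rw [hv, map_one]
    have hsign : ∀ g : Cfsg.qd p, Equiv.Perm.sign (Ψ g) = 1 := by
      rintro ⟨m, hm⟩
      obtain ⟨v, A, rfl⟩ := CfsgLib.OOL.qd_decomp hm
      have e : (⟨CfsgLib.OOL.qdTr v * CfsgLib.OOL.qdExt A, hm⟩ : Cfsg.qd p) =
          ⟨CfsgLib.OOL.qdTr v, CfsgLib.OOL.qdTr_mem v⟩ * ⟨CfsgLib.OOL.qdExt A, CfsgLib.OOL.qdExt_mem A⟩ := rfl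
      rw [e, map_mul, map_mul, hTr, hExt, one_mul]
    let Ψ' : Cfsg.qd p →* alternatingGroup (Fin n) :=
      Ψ.codRestrict _ (fun g => Equiv.Perm.mem_alternatingGroup.2 (hsign g))
    have hinj' : Function.Injective Ψ' := by
      intro M N h
      exact hinj (congrArg (fun z : alternatingGroup (Fin n) => (z : Equiv.Perm (Fin n))) h)
    exact ⟨Ψ'.range, ⟨(MonoidHom.ofInjective hinj').symm⟩⟩

end Cfsg.Agent.S3835
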