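import Cfsg.Statements.S3870
import Cfsg.Agent.Lib.FGS.Syl

set_option autoImplicit false
open Cfsg

namespace Cfsg.Agent.S3870

/-- Let G be a finite simple group whose Sylow p-subgroups are not normal but such that every proper subgroup of G has a normal Sylow p-subgroup. Then any two distinct Sylow p-subgroups of G intersect trivially, and for every Sylow p-subgroup P the normalizer of every non-identity subgroup of P lies in the normalizer of P. -/
theorem result {G : Type*} [Group G] [Finite G] [IsSimpleGroup G] {p : ℕ} [Fact p.Prime]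
    (hnc : ¬ Cfsg.IsPClosed p G) (hsub : ∀ H : Subgroup G, H ≠ ⊤ → Cfsg.IsPClosed p ↥H) :
    (∀ P Q : Sylow p G, P ≠ Q → (P : Subgroup G) ⊓ (Q : Subgroup G) = ⊥) ∧
      ∀ (P : Sylow p G) (R : Subgroup G), R ≤ P → R ≠ ⊥ →
        Subgroup.normalizer (R : Set G) ≤ Subgroup.normalizer ((P : Subgroup G) : Set G) := by
  classical
  have hTI : ∀ P Q : Sylow p G, P ≠ Q → (P : Subgroup G) ⊓ (Q : Subgroup G) = ⊥ := by
    apply CfsgLib.FGS.sylow_ti_of_pClosed_normalizers
    intro D hD hDp
    apply hsub
    intro hN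
    have hDn : D.Normal := Subgroup.normalizer_eq_top_iff.mp hN
    rcases hDn.eq_bot_or_eq_top with h | h
    · exact absurd h hD
    · apply hnc
      intro P
      have h1 : IsPGroup p (⊤ : Subgroup G) := h ▸ hDp
      have h2 : (P : Subgroup G) = ⊤ := (P.3 h1 le_top).symm
      rw [h2]
      infer_instance
  refine ⟨hTI, fun P R hRP hR g hg => ?_⟩
  by_contra hgn
  have hne : g • P ≠ P := fun h => hgn (Sylow.smul_eq_iff_mem_normalizer.mp h)
  have h0 := hTI (g • P) P hne
  apply hR
  rw [eq_bot_iff]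
  intro x hx
  have hg' := Subgroup.mem_normalizer_iff.mp hg (g⁻¹ * x * g)
  have h1 : x ∈ (((g • P : Sylow p G) : Subgroup G) ⊓ (P : Subgroup G)) := by
    refine Subgroup.mem_inf.mpr ⟨?_, hRP hx⟩
    rw [Sylow.coe_subgroup_smul, CfsgLib.FGS.mem_conj_smul_iff]
    apply hRP
    apply hg'.mpr
    have : g * (g⁻¹ * x * g) * g⁻¹ = x := by group
    rwa [this]
  rw [h0] at h1
  exact h1

end Cfsg.Agent.S3870
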