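import Cfsg.Statements.S3872
import Cfsg.Agent.Lib.FGS.HallPetrescu
import Cfsg.Agent.Lib.FGS.Cyc
import Cfsg.Agent.Lib.Solv.PGroup
import Cfsg.Agent.Lib.Solv.Hall

set_option autoImplicit false
open Cfsg
open scoped commutatorElement
open scoped Pointwise

namespace Cfsg.Agent.S3872

theorem h8_strict {G : Type*} [Group G] [Finite G] {p : ℕ} [hp : Fact p.Prime] (hG : IsPGroup p G)
    {X Y : Subgroup G} (hXY : X ≤ Y) (hne : X ≠ Y) : p * Nat.card X ≤ Nat.card Y := by
  obtain ⟨d, hd⟩ := Subgroup.card_dvd_of_le hXY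
  obtain ⟨s, hs⟩ := IsPGroup.iff_card.1 (hG.to_subgroup Y)
  have hd1 : d ≠ 1 := by
    rintro rfl
    apply hne
    exact Subgroup.eq_of_le_of_card_ge hXY (by rw [hd]; simp)
  have hdd : d ∣ p ^ s := by
    rw [← hs, hd]
    exact Dvd.intro_left _ rfl
  obtain ⟨t, -, rfl⟩ := (Nat.dvd_prime_pow hp.out).1 hdd
  have ht : t ≠ 0 := by
    rintro rfl
    simp at hd1
  rw [hd, mul_comm]
  exact Nat.mul_le_mul_left _ (Nat.le_self_pow ht p)

theorem h8_lcs_strict {G : Type*} [Group G] [Group.IsNilpotent G] (i : ℕ)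
    (h : (⊤ : Subgroup G).lowerCentralSeries i ≠ ⊥) :
    (⊤ : Subgroup G).lowerCentralSeries (i + 1) ≠ (⊤ : Subgroup G).lowerCentralSeries i := by
  intro heq
  obtain ⟨n, hn⟩ := nilpotent_iff_lowerCentralSeries.1 (inferInstance : Group.IsNilpotent G)
  have key : ∀ j, (⊤ : Subgroup G).lowerCentralSeries (i + j) = (⊤ : Subgroup G).lowerCentralSeries i := by
    intro j
    induction j with
    | zero => rfl
    | succ j ih =>
      rw [← add_assoc, Subgroup.lowerCentralSeries_succ, ih, ← Subgroup.lowerCentralSeries_succ, heq]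
  have h2 : (⊤ : Subgroup G).lowerCentralSeries (i + n) ≤ (⊤ : Subgroup G).lowerCentralSeries n :=
    Subgroup.lowerCentralSeries_antitone _ (by omega)
  rw [key, hn] at h2
  exact h (le_bot_iff.1 h2)

/-- Say that a finite group is p-exponent closed when its elements of order dividing p form a subgroup. Let G be a finite p-group that is not p-exponent closed, but all of whose proper subgroups and proper quotients are. Then G is generated by two elements, has nilpotency class at least p, has exponent p², has cyclic center, and has order at least p^(p+1). -/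
theorem result {G : Type*} [Group G] [Finite G] {p : ℕ} [Fact p.Prime] (hG : IsPGroup p G)
    (hnc : ¬ (∃ H : Subgroup G, (H : Set G) = {g : G | g ^ p = 1})) (hsub : ∀ K : Subgroup G, K ≠ ⊤ → (∃ H : Subgroup ↥K, (H : Set ↥K) = {g : ↥K | g ^ p = 1}))
    (hquo : ∀ (N : Subgroup G) [N.Normal], N ≠ ⊥ → (∃ H : Subgroup (G ⧸ N), (H : Set (G ⧸ N)) = {g : (G ⧸ N) | g ^ p = 1})) :
    (∃ x y : G, Subgroup.closure ({x, y} : Set G) = ⊤) ∧ (⊤ : Subgroup G).lowerCentralSeries (p - 1) ≠ ⊥ ∧
      Monoid.exponent G = p ^ 2 ∧ IsCyclic ↥(Subgroup.center G) ∧ p ^ (p + 1) ≤ Nat.card G := by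
  have hp : p.Prime := Fact.out
  haveI : Group.IsNilpotent G := hG.isNilpotent
  obtain ⟨a, b, ha, hb, hab⟩ : ∃ a b : G, a ^ p = 1 ∧ b ^ p = 1 ∧ (a * b) ^ p ≠ 1 := by
    by_contra hcon
    push Not at hcon
    apply hnc
    refine ⟨{ carrier := {g | g ^ p = 1}, mul_mem' := ?_, one_mem' := one_pow p, inv_mem' := ?_ }, rfl⟩
    · intro x y hx hy
      exact hcon x y hx hy
    · intro x hx
      show x⁻¹ ^ p = 1
      rw [inv_pow, (show x ^ p = 1 from hx), inv_one]
  have hcl : Subgroup.closure ({a, b} : Set G) = ⊤ := by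
    by_contra hne
    obtain ⟨H, hH⟩ := hsub _ hne
    have haK : a ∈ Subgroup.closure ({a, b} : Set G) := Subgroup.subset_closure (by simp)
    have hbK : b ∈ Subgroup.closure ({a, b} : Set G) := Subgroup.subset_closure (by simp)
    have h1 : (⟨a, haK⟩ : ↥(Subgroup.closure ({a, b} : Set G))) ∈ H := by
      have : (⟨a, haK⟩ : ↥(Subgroup.closure ({a, b} : Set G))) ∈ (H : Set _) := by
        rw [hH]
        exact Subtype.ext ha
      exact this
    have h2 : (⟨b, hbK⟩ : ↥(Subgroup.closure ({a, b} : Set G))) ∈ H := by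
      have : (⟨b, hbK⟩ : ↥(Subgroup.closure ({a, b} : Set G))) ∈ (H : Set _) := by
        rw [hH]
        exact Subtype.ext hb
      exact this
    have h3 := H.mul_mem h1 h2
    have h4 : (⟨a, haK⟩ * ⟨b, hbK⟩ : ↥(Subgroup.closure ({a, b} : Set G))) ∈ (H : Set _) := h3
    rw [hH] at h4
    exact hab (congrArg (fun z : ↥(Subgroup.closure ({a, b} : Set G)) => (z : G)) h4)
  have hcomm_of : ∀ x y : G, Subgroup.zpowers x = ⊤ → x * y = y * x := by
    intro x y h
    have hy : y ∈ Subgroup.zpowers x := h ▸ Subgroup.mem_top y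
    obtain ⟨k, rfl⟩ := Subgroup.mem_zpowers_iff.1 hy
    exact (Commute.refl x).zpow_right k
  have hmulpow : a * b ≠ b * a := by
    intro h
    apply hab
    rw [(show Commute a b from h).mul_pow, ha, hb, one_mul]
  have hza : Subgroup.zpowers a ≠ ⊤ := fun h => hmulpow (hcomm_of a b h)
  have hzb : Subgroup.zpowers b ≠ ⊤ := fun h => hmulpow (hcomm_of b a h).symm
  obtain ⟨M, hM, hleM⟩ := (eq_top_or_exists_le_coatom (Subgroup.zpowers a)).resolve_left hza
  obtain ⟨M2, hM2, hleM2⟩ := (eq_top_or_exists_le_coatom (Subgroup.zpowers b)).resolve_left hzb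
  obtain ⟨hMn, hMi⟩ := CfsgLib.Solv.coatom_of_pgroup hG hM
  haveI := hMn
  have haM : a ∈ M := hleM (Subgroup.mem_zpowers a)
  have hbM2 : b ∈ M2 := hleM2 (Subgroup.mem_zpowers b)
  have hbM : b ∉ M := by
    intro hb'
    apply hM.1
    rw [eq_top_iff, ← hcl]
    refine (Subgroup.closure_le _).2 ?_
    rintro x (rfl | rfl)
    · exact haM
    · exact hb'
  have hMexp : ∀ m ∈ M, m ^ p = 1 := by
    obtain ⟨H, hH⟩ := hsub M hM.1
    obtain ⟨Ω, hΩ⟩ : ∃ Ω, Ω = H.map M.subtype := ⟨_, rfl⟩
    have hΩmem : ∀ x, x ∈ Ω ↔ x ∈ M ∧ x ^ p = 1 := by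
      intro x
      rw [hΩ]
      constructor
      · rintro ⟨y, hy, rfl⟩
        have h1 : y ∈ (H : Set ↥M) := hy
        rw [hH] at h1
        exact ⟨y.2, congrArg (fun z : ↥M => (z : G)) h1⟩
      · rintro ⟨hx, hx2⟩
        refine ⟨⟨x, hx⟩, ?_, rfl⟩
        have h1 : (⟨x, hx⟩ : ↥M) ∈ (H : Set ↥M) := by
          rw [hH]
          exact Subtype.ext hx2
        exact h1
    haveI hΩn : Ω.Normal := ⟨fun x hx g => by
      rw [hΩmem] at hx ⊢
      refine ⟨hMn.conj_mem x hx.1 g, ?_⟩
      rw [conj_pow, hx.2]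
      simp⟩
    have hsup : Subgroup.zpowers b ⊔ Ω = ⊤ := by
      rw [eq_top_iff, ← hcl]
      refine (Subgroup.closure_le _).2 ?_
      intro x hx
      rcases hx with hx | hx
      · rw [hx]
        exact (le_sup_right : Ω ≤ _) ((hΩmem _).2 ⟨haM, ha⟩)
      · have hx' : x = b := hx
        rw [hx']
        exact (le_sup_left : Subgroup.zpowers b ≤ _) (Subgroup.mem_zpowers _)
    have hcard := CfsgLib.Solv.card_sup_mul_card_inf (Subgroup.zpowers b) Ω
    rw [hsup, Subgroup.card_top] at hcard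
    have hob : Nat.card (Subgroup.zpowers b) = p := by
      rw [Nat.card_zpowers]
      exact orderOf_eq_prime hb (fun h => hbM (h ▸ M.one_mem))
    rw [hob] at hcard
    have h1 := Subgroup.card_mul_index M
    rw [hMi] at h1
    have hpos : 0 < Nat.card (Subgroup.zpowers b ⊓ Ω : Subgroup G) := Nat.card_pos
    have hle : Ω ≤ M := fun x hx => ((hΩmem x).1 hx).1
    have h2 : Nat.card M ≤ Nat.card Ω := by
      have h3 : Nat.card M * p ≤ p * Nat.card Ω := by
        rw [h1, ← hcard]
        exact Nat.le_mul_of_pos_right _ hpos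
      rw [mul_comm] at h3
      exact Nat.le_of_mul_le_mul_left h3 hp.pos
    have heq := Subgroup.eq_of_le_of_card_ge hle h2
    intro m hm
    exact ((hΩmem m).1 (heq ▸ hm)).2
  have hpow2 : ∀ g : G, (g ^ p) ^ p = 1 := by
    intro g
    apply hMexp
    have h1 : ((g : G ⧸ M)) ^ (Nat.card (G ⧸ M)) = 1 := pow_card_eq_one'
    have h2 : Nat.card (G ⧸ M) = p := hMi
    rw [h2] at h1
    rw [← QuotientGroup.eq_one_iff, QuotientGroup.mk_pow]
    exact h1
  have hexp : Monoid.exponent G = p ^ 2 := by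
    have h1 : Monoid.exponent G ∣ p ^ 2 := Monoid.exponent_dvd_of_forall_pow_eq_one (fun g => by
      rw [pow_two, pow_mul]
      exact hpow2 g)
    obtain ⟨j, hj, hj2⟩ := (Nat.dvd_prime_pow hp).1 h1
    by_cases hj3 : j = 2
    · rw [hj2, hj3]
    · exfalso
      apply hab
      have h2 : Monoid.exponent G ∣ p := by
        rw [hj2]
        have : j ≤ 1 := by omega
        exact (pow_dvd_pow p this).trans (by simp)
      obtain ⟨c, hc⟩ := h2
      rw [hc, pow_mul, Monoid.pow_exponent_eq_one, one_pow]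
  have hfrat := (CfsgLib.Solv.pgroup_commutator_pow_le_frattini hG).1
  have hclass : (⊤ : Subgroup G).lowerCentralSeries (p - 1) ≠ ⊥ := by
    intro hbot
    obtain ⟨c, hc, he⟩ := (CfsgLib.FGS.regAt_one_of_class hG hbot).2 a b
    have hcomm : ∀ w ∈ ⁅Subgroup.closure ({a, b} : Set G), Subgroup.closure ({a, b} : Set G)⁆, w ∈ M := by
      intro w hw
      rw [hcl] at hw
      exact frattini_le_coatom hM (hfrat hw)
    have hc1 : c = 1 := by
      have h1 : Cfsg.powerClosure p 1 ⁅Subgroup.closure ({a, b} : Set G), Subgroup.closure ({a, b} : Set G)⁆ ≤ ⊥ := by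
        rw [Cfsg.powerClosure, Subgroup.closure_le]
        rintro _ ⟨w, hw, rfl⟩
        rw [pow_one]
        exact hMexp w (hcomm w hw)
      simpa using h1 hc
    apply hab
    simp only [pow_one] at he
    rw [he, ha, hb, hc1]
    simp
  have hq_mem : ∀ (N : Subgroup G) [N.Normal], N ≠ ⊥ → (a * b) ^ p ∈ N := by
    intro N _ hN
    obtain ⟨H, hH⟩ := hquo N hN
    have h1 : (a : G ⧸ N) ∈ H := by
      have : (a : G ⧸ N) ∈ (H : Set (G ⧸ N)) := by
        rw [hH]
        show (a : G ⧸ N) ^ p = 1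
        rw [← QuotientGroup.mk_pow, ha]
        rfl
      exact this
    have h2 : (b : G ⧸ N) ∈ H := by
      have : (b : G ⧸ N) ∈ (H : Set (G ⧸ N)) := by
        rw [hH]
        show (b : G ⧸ N) ^ p = 1
        rw [← QuotientGroup.mk_pow, hb]
        rfl
      exact this
    have h3 := H.mul_mem h1 h2
    have h4 : (a : G ⧸ N) * (b : G ⧸ N) ∈ (H : Set (G ⧸ N)) := h3
    rw [hH] at h4
    have h5 : ((a : G ⧸ N) * (b : G ⧸ N)) ^ p = 1 := h4
    rw [← QuotientGroup.mk_mul, ← QuotientGroup.mk_pow, QuotientGroup.eq_one_iff] at h5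
    exact h5
  have hzn : ∀ c ∈ Subgroup.center G, (Subgroup.zpowers c).Normal := fun c hc => ⟨fun n hn g => by
    obtain ⟨k, rfl⟩ := Subgroup.mem_zpowers_iff.1 hn
    have h1 : c ^ k ∈ Subgroup.center G := Subgroup.zpow_mem _ hc k
    rw [Subgroup.mem_center_iff.1 h1 g, mul_inv_cancel_right]
    exact Subgroup.zpow_mem _ (Subgroup.mem_zpowers c) k⟩
  have hcyc : IsCyclic ↥(Subgroup.center G) := by
    letI : CommGroup ↥(Subgroup.center G) :=
      { (inferInstance : Group ↥(Subgroup.center G)) with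
        mul_comm := fun x y => Subtype.ext (Subgroup.mem_center_iff.1 y.2 x) }
    refine CfsgLib.FGS.isCyclic_of_unique_prime_subgroup (A := ↥(Subgroup.center G)) ?_
    intro q hq u z hu hz
    by_contra hnot
    have hu1 : (u : G) ≠ 1 := by
      intro h
      have h1 : u = 1 := Subtype.ext h
      rw [h1, orderOf_one] at hu
      exact hq.one_lt.ne hu
    have hz1 : (z : G) ≠ 1 := by
      intro h
      have h1 : z = 1 := Subtype.ext h
      rw [h1, orderOf_one] at hz
      exact hq.one_lt.ne hz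
    haveI := hzn u u.2
    haveI := hzn z z.2
    have hw1 := hq_mem (Subgroup.zpowers (u : G)) (Subgroup.zpowers_ne_bot.2 hu1)
    have hw2 := hq_mem (Subgroup.zpowers (z : G)) (Subgroup.zpowers_ne_bot.2 hz1)
    have hle : Subgroup.zpowers ((a * b) ^ p) ≤ Subgroup.zpowers (z : G) := (Subgroup.zpowers_le).2 hw2
    have hcz : Nat.card (Subgroup.zpowers (z : G)) = q := by
      rw [Nat.card_zpowers, Subgroup.orderOf_coe, hz]
    have hd := Subgroup.card_dvd_of_le hle
    rw [hcz] at hd
    have heq : Subgroup.zpowers ((a * b) ^ p) = Subgroup.zpowers (z : G) := by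
      refine Subgroup.eq_of_le_of_card_ge hle ?_
      rcases (Nat.dvd_prime hq).1 hd with h | h
      · exfalso
        rw [Nat.card_zpowers, orderOf_eq_one_iff] at h
        exact hab h
      · rw [hcz, h]
    have hzu : (z : G) ∈ Subgroup.zpowers (u : G) := by
      have h1 : (z : G) ∈ Subgroup.zpowers ((a * b) ^ p) := by
        rw [heq]
        exact Subgroup.mem_zpowers _
      exact (Subgroup.zpowers_le).2 hw1 h1
    obtain ⟨k, hk⟩ := Subgroup.mem_zpowers_iff.1 hzu
    exact hnot (Subgroup.mem_zpowers_iff.2 ⟨k, Subtype.ext hk⟩)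
  have horder : p ^ (p + 1) ≤ Nat.card G := by
    have hGM := Subgroup.card_mul_index M
    rw [hMi] at hGM
    have hcM : commutator G ≤ M := hfrat.trans (frattini_le_coatom hM)
    have hcM2 : commutator G ≤ M2 := hfrat.trans (frattini_le_coatom hM2)
    have hne : commutator G ≠ M := by
      intro heq
      have h1 : M ≤ M2 := heq ▸ hcM2
      rcases hM.le_iff.1 h1 with h | h
      · exact hM2.1 h
      · exact hbM (h ▸ hbM2)
    have hbase := h8_strict hG hcM hne
    have hkey : ∀ i : ℕ, (⊤ : Subgroup G).lowerCentralSeries (i + 1) ≠ ⊥ →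
        p ^ (i + 2) * Nat.card ((⊤ : Subgroup G).lowerCentralSeries (i + 1)) ≤ Nat.card G := by
      intro i
      induction i with
      | zero =>
        intro _
        have h1 : (⊤ : Subgroup G).lowerCentralSeries (0 + 1) = commutator G := rfl
        rw [h1, ← hGM]
        calc p ^ (0 + 2) * Nat.card (commutator G) = p * (p * Nat.card (commutator G)) := by ring
          _ ≤ p * Nat.card M := Nat.mul_le_mul_left _ hbase
          _ = Nat.card M * p := mul_comm _ _
      | succ i ih =>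
        intro hne'
        have hprev : (⊤ : Subgroup G).lowerCentralSeries (i + 1) ≠ ⊥ := by
          intro h
          apply hne'
          rw [eq_bot_iff, ← h]
          exact Subgroup.lowerCentralSeries_antitone _ (by omega)
        have h1 := ih hprev
        have h2 := h8_strict hG (Subgroup.lowerCentralSeries_antitone (⊤ : Subgroup G) (Nat.le_succ (i + 1)))
          (h8_lcs_strict (i + 1) hprev)
        calc p ^ (i + 1 + 2) * Nat.card ((⊤ : Subgroup G).lowerCentralSeries (i + 1 + 1))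
            = p ^ (i + 2) * (p * Nat.card ((⊤ : Subgroup G).lowerCentralSeries (i + 1 + 1))) := by ring
          _ ≤ p ^ (i + 2) * Nat.card ((⊤ : Subgroup G).lowerCentralSeries (i + 1)) := Nat.mul_le_mul_left _ h2
          _ ≤ Nat.card G := h1
    obtain ⟨i, hi⟩ : ∃ i, p - 1 = i + 1 := ⟨p - 2, by have := hp.two_le; omega⟩
    rw [hi] at hclass
    have h1 := hkey i hclass
    have h2 := h8_strict hG (bot_le : ⊥ ≤ (⊤ : Subgroup G).lowerCentralSeries (i + 1)) (Ne.symm hclass)
    rw [Subgroup.card_bot, mul_one] at h2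
    have hpi : p + 1 = i + 2 + 1 := by have := hp.two_le; omega
    rw [hpi, pow_succ]
    exact (Nat.mul_le_mul_left _ h2).trans h1
  exact ⟨⟨a, b, hcl⟩, hclass, hexp, hcyc, horder⟩

end Cfsg.Agent.S3872
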