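import Cfsg.Statements.S3889
import Cfsg.Agent.Lib.FGS.Elem

set_option autoImplicit false
open Cfsg

namespace Cfsg.Agent.S3889

/-- A finite abelian group that is the union of a family of proper subgroups any two of which intersect trivially is elementary abelian: its exponent is a prime. -/
theorem result {G : Type*} [CommGroup G] [Finite G] (𝓑 : Set (Subgroup G)) (hprop : ∀ B ∈ 𝓑, B ≠ ⊤)
    (hcov : ∀ g : G, ∃ B ∈ 𝓑, g ∈ B) (hdisj : ∀ B ∈ 𝓑, ∀ C ∈ 𝓑, B ≠ C → B ⊓ C = ⊥) :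
    (Monoid.exponent G).Prime := by
  classical
  -- two elements in different members have equal order
  have hne_mem : ∀ x : G, ∃ B ∈ 𝓑, x ∈ B := hcov
  have key : ∀ x y : G, x ≠ 1 → y ≠ 1 → (∃ B ∈ 𝓑, x ∈ B ∧ y ∉ B) → orderOf x = orderOf y := by
    intro x y hx hy ⟨B, hB, hxB, hyB⟩
    obtain ⟨C, hC, hyC⟩ := hcov y
    obtain ⟨D, hD, hxyD⟩ := hcov (x * y)
    have hBC : B ≠ C := fun h => hyB (h ▸ hyC)
    have hDC : D ≠ C := by
      intro h
      have hx' : x ∈ C := by
        have := C.mul_mem (h ▸ hxyD) (C.inv_mem hyC)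
        simpa using this
      have : x ∈ B ⊓ C := ⟨hxB, hx'⟩
      rw [hdisj B hB C hC hBC, Subgroup.mem_bot] at this
      exact hx this
    have hDB : D ≠ B := by
      intro h
      have hy' : y ∈ B := by
        have := B.mul_mem (B.inv_mem hxB) (h ▸ hxyD)
        simpa using this
      exact hyB hy'
    apply Nat.dvd_antisymm
    · -- `(x y) ^ (order y) = x ^ (order y) ∈ B ⊓ D`
      apply orderOf_dvd_of_pow_eq_one
      have h1 : x ^ orderOf y = (x * y) ^ orderOf y := by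
        rw [mul_pow, pow_orderOf_eq_one, mul_one]
      have h2 : x ^ orderOf y ∈ B ⊓ D := ⟨B.pow_mem hxB _, h1 ▸ D.pow_mem hxyD _⟩
      rw [hdisj B hB D hD hDB.symm, Subgroup.mem_bot] at h2
      exact h2
    · apply orderOf_dvd_of_pow_eq_one
      have h1 : y ^ orderOf x = (x * y) ^ orderOf x := by
        rw [mul_pow, pow_orderOf_eq_one, one_mul]
      have h2 : y ^ orderOf x ∈ C ⊓ D := ⟨C.pow_mem hyC _, h1 ▸ D.pow_mem hxyD _⟩
      rw [hdisj C hC D hD hDC.symm, Subgroup.mem_bot] at h2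
      exact h2
  -- any member is proper: each nontrivial `x` has a `y` outside its member
  have hout : ∀ x : G, ∃ B ∈ 𝓑, x ∈ B ∧ ∃ y, y ∉ B := by
    intro x
    obtain ⟨B, hB, hx⟩ := hcov x
    refine ⟨B, hB, hx, ?_⟩
    by_contra hcon
    simp only [not_exists, not_not] at hcon
    exact hprop B hB (eq_top_iff.mpr fun y _ => hcon y)
  have hy1 : ∀ B : Subgroup G, ∀ y, y ∉ B → y ≠ 1 := fun B y hy h => hy (h ▸ B.one_mem)
  have hall : ∀ x y : G, x ≠ 1 → y ≠ 1 → orderOf x = orderOf y := by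
    intro x y hx hy
    obtain ⟨B, hB, hxB, z, hz⟩ := hout x
    have h1 := key x z hx (hy1 B z hz) ⟨B, hB, hxB, hz⟩
    by_cases hyB : y ∈ B
    · have h2 := key y z hy (hy1 B z hz) ⟨B, hB, hyB, hz⟩
      rw [h1, h2]
    · exact key x y hx hy ⟨B, hB, hxB, hyB⟩
  -- nontrivial
  obtain ⟨B, hB, -, z, hz⟩ := hout 1
  have hz1 : z ≠ 1 := hy1 B z hz
  have hprime : (orderOf z).Prime := by
    have hord : orderOf z ≠ 1 := fun h => hz1 (orderOf_eq_one_iff.mp h)
    obtain ⟨p, hp, hpd⟩ := Nat.exists_prime_and_dvd hord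
    have h2 := hall z (z ^ (orderOf z / p)) hz1 (by
      intro h
      have h3 := orderOf_dvd_of_pow_eq_one h
      have h4 := Nat.le_of_dvd (Nat.div_pos (Nat.le_of_dvd (orderOf_pos z) hpd) hp.pos) h3
      have h5 := Nat.div_lt_self (orderOf_pos z) hp.one_lt
      omega)
    rw [orderOf_pow_of_dvd (by
      have := Nat.div_pos (Nat.le_of_dvd (orderOf_pos z) hpd) hp.pos
      omega) (Nat.div_dvd_of_dvd hpd), Nat.div_div_self hpd (orderOf_pos z).ne'] at h2
    rwa [h2]
  haveI : Nontrivial G := ⟨⟨z, 1, hz1⟩⟩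
  have : Monoid.exponent G = orderOf z :=
    (Monoid.exponent_eq_prime_iff hprime).mpr fun g hg => hall g z hg hz1
  rw [this]
  exact hprime

end Cfsg.Agent.S3889
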