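import Cfsg.Statements.S3890
import Cfsg.Agent.Lib.FGS.NilCover

set_option autoImplicit false
open Cfsg

namespace Cfsg.Agent.S3890

/-- A cover of a group is a finite set of proper subgroups whose union is the whole group; it is minimal when no cover has fewer members, and nilpotent when all its members are nilpotent. Let G be a finite group with trivial center admitting a nilpotent minimal cover 𝓐, and let P be an abelian Sylow p-subgroup of G that is not normal. Then either P is elementary abelian of order greater than p, or P is a Sylow p-subgroup of some member A of 𝓐, the normalizer N of P is a maximal subgroup of G, N meets each of its conjugates by elements outside N in a subgroup of order prime to p, and the centralizer of P equals A. -/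
theorem result {G : Type*} [Group G] [Finite G] (hZ : Subgroup.center G = ⊥) (𝓐 : Finset (Subgroup G))
    (h𝓐 : ((∀ A ∈ 𝓐, A ≠ ⊤) ∧ (∀ g : G, ∃ A ∈ 𝓐, g ∈ A)) ∧ (∀ 𝓑 : Finset (Subgroup G), (∀ A ∈ 𝓑, A ≠ ⊤) ∧ (∀ g : G, ∃ A ∈ 𝓑, g ∈ A) → 𝓐.card ≤ 𝓑.card) ∧ (∀ A ∈ 𝓐, Group.IsNilpotent ↥A)) {p : ℕ} [Fact p.Prime] (P : Sylow p G) (hab : IsMulCommutative ↥(P : Subgroup G))
    (hnn : ¬ (P : Subgroup G).Normal) :
    (Cfsg.IsElementaryAbelian p (P : Subgroup G) ∧ p < Nat.card ↥(P : Subgroup G)) ∨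
    (∃ A ∈ 𝓐, (P : Subgroup G) ≤ A ∧ ¬ p ∣ ((P : Subgroup G).subgroupOf A).index ∧
      IsCoatom (Subgroup.normalizer ((P : Subgroup G) : Set G)) ∧
      (∀ g : G, g ∉ Subgroup.normalizer ((P : Subgroup G) : Set G) →
        ¬ p ∣ Nat.card ↥(Subgroup.normalizer ((P : Subgroup G) : Set G) ⊓
          (Subgroup.normalizer ((P : Subgroup G) : Set G)).map (MulAut.conj g).toMonoidHom)) ∧
      Subgroup.centralizer ((P : Subgroup G) : Set G) = A) := by
  classical
  obtain ⟨⟨hprop, hcov⟩, hmin, hnil⟩ := h𝓐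
  have hC : CfsgLib.FGS.IsNilMinCover 𝓐 := ⟨hprop, hcov, hmin, hnil⟩
  have hPcomm : ∀ a ∈ (P : Subgroup G), ∀ b ∈ (P : Subgroup G), a * b = b * a := by
    intro a ha b hb
    have := hab.is_comm.comm (⟨a, ha⟩ : (P : Subgroup G)) ⟨b, hb⟩
    exact congrArg Subtype.val this
  have hab' : ∀ Q : Sylow p G, ∀ a ∈ Q, ∀ b ∈ Q, a * b = b * a := by
    intro Q a ha b hb
    obtain ⟨g, rfl⟩ := MulAction.exists_smul_eq G P Q
    have ha' : g⁻¹ * a * g ∈ (P : Subgroup G) := CfsgLib.FGS.mem_conj_smul_iff.mp ha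
    have hb' : g⁻¹ * b * g ∈ (P : Subgroup G) := CfsgLib.FGS.mem_conj_smul_iff.mp hb
    have h1 := hPcomm _ ha' _ hb'
    have h2 : g * (g⁻¹ * a * g * (g⁻¹ * b * g)) * g⁻¹ = a * b := by group
    have h3 : g * (g⁻¹ * b * g * (g⁻¹ * a * g)) * g⁻¹ = b * a := by group
    rw [← h2, h1, h3]
  have hP1 : (P : Subgroup G) ≠ ⊥ := by
    intro h
    apply hnn
    rw [h]
    infer_instance
  by_cases hel : Cfsg.IsElementaryAbelian p (P : Subgroup G) ∧ p < Nat.card ↥(P : Subgroup G)
  · exact Or.inl hel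
  right
  have HP : (∃ x ∈ (P : Subgroup G), (P : Subgroup G) ≤ Subgroup.zpowers x) ∨
      (∃ x ∈ (P : Subgroup G), x ^ p ≠ 1) := by
    by_cases h : ∃ x ∈ (P : Subgroup G), x ^ p ≠ 1
    · exact Or.inr h
    left
    have hall : ∀ a ∈ (P : Subgroup G), a ^ p = 1 := by
      intro a ha
      by_contra h2
      exact h ⟨a, ha, h2⟩
    have hle : ¬ p < Nat.card ↥(P : Subgroup G) := fun h2 => hel ⟨⟨hab, hall⟩, h2⟩
    obtain ⟨k, hk⟩ := IsPGroup.iff_card.mp P.isPGroup'
    have hk0 : k ≠ 0 := by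
      rintro rfl
      apply hP1
      rw [pow_zero] at hk
      exact Subgroup.eq_bot_of_card_eq _ hk
    have hk1 : k = 1 := by
      by_contra h2
      apply hle
      rw [hk]
      have hp : p.Prime := Fact.out
      calc p = p ^ 1 := (pow_one p).symm
        _ < p ^ k := Nat.pow_lt_pow_right hp.one_lt (by omega)
    rw [hk1, pow_one] at hk
    haveI : Fact (Nat.card ↥(P : Subgroup G)).Prime := by
      rw [hk]
      infer_instance
    haveI : IsCyclic ↥(P : Subgroup G) := isCyclic_of_prime_card rfl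
    obtain ⟨x, hx⟩ := IsCyclic.exists_generator (α := ↥(P : Subgroup G))
    refine ⟨x, x.2, ?_⟩
    intro y hy
    obtain ⟨i, hi⟩ := Subgroup.mem_zpowers_iff.mp (hx ⟨y, hy⟩)
    refine Subgroup.mem_zpowers_iff.mpr ⟨i, ?_⟩
    simpa using congrArg (fun z : (P : Subgroup G) => (z : G)) hi
  obtain ⟨A, hA, hPA, hCA, hcoat, _, hTI⟩ := hC.main hZ hab' P hP1 HP hnn
  refine ⟨A, hA, hPA, ?_, hcoat, hTI, hCA⟩
  intro h
  apply P.not_dvd_index
  rw [← Subgroup.relIndex_mul_index hPA]
  exact Dvd.dvd.mul_right h _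

end Cfsg.Agent.S3890
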