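import Cfsg.Statements.S3891
import Cfsg.Agent.Lib.FGS.NilCover

set_option autoImplicit false
open Cfsg

namespace Cfsg.Agent.S3891

/-- A cover of a group is a finite set of proper subgroups whose union is the whole group; it is minimal when no cover has fewer members, and nilpotent when all its members are nilpotent. Let G be a finite group with trivial center admitting a nilpotent minimal cover, and let P be a non-normal Sylow p-subgroup of G that is cyclic, or abelian but not elementary abelian. Then the centralizer of P is nilpotent and the normalizer of P is the unique maximal subgroup of G containing the centralizer of P. -/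
theorem result {G : Type*} [Group G] [Finite G] (hZ : Subgroup.center G = ⊥) (𝓐 : Finset (Subgroup G))
    (h𝓐 : ((∀ A ∈ 𝓐, A ≠ ⊤) ∧ (∀ g : G, ∃ A ∈ 𝓐, g ∈ A)) ∧ (∀ 𝓑 : Finset (Subgroup G), (∀ A ∈ 𝓑, A ≠ ⊤) ∧ (∀ g : G, ∃ A ∈ 𝓑, g ∈ A) → 𝓐.card ≤ 𝓑.card) ∧ (∀ A ∈ 𝓐, Group.IsNilpotent ↥A)) {p : ℕ} [Fact p.Prime] (P : Sylow p G)
    (hP : IsCyclic ↥(P : Subgroup G) ∨ (IsMulCommutative ↥(P : Subgroup G) ∧ ¬ Cfsg.IsElementaryAbelian p (P : Subgroup G)))
    (hnn : ¬ (P : Subgroup G).Normal) :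
    Group.IsNilpotent ↥(Subgroup.centralizer ((P : Subgroup G) : Set G)) ∧
      IsCoatom (Subgroup.normalizer ((P : Subgroup G) : Set G)) ∧
      ∀ M : Subgroup G, IsCoatom M → Subgroup.centralizer ((P : Subgroup G) : Set G) ≤ M →
        M = Subgroup.normalizer ((P : Subgroup G) : Set G) := by
  classical
  obtain ⟨⟨hprop, hcov⟩, hmin, hnil⟩ := h𝓐
  have hC : CfsgLib.FGS.IsNilMinCover 𝓐 := ⟨hprop, hcov, hmin, hnil⟩
  have hPcomm : ∀ a ∈ (P : Subgroup G), ∀ b ∈ (P : Subgroup G), a * b = b * a := by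
    rcases hP with hP | ⟨hP, _⟩
    · intro a ha b hb
      haveI := hP
      letI := IsCyclic.commGroup (α := (P : Subgroup G))
      have := mul_comm (⟨a, ha⟩ : (P : Subgroup G)) ⟨b, hb⟩
      exact congrArg Subtype.val this
    · intro a ha b hb
      have := hP.is_comm.comm (⟨a, ha⟩ : (P : Subgroup G)) ⟨b, hb⟩
      exact congrArg Subtype.val this
  have hab : ∀ Q : Sylow p G, ∀ a ∈ Q, ∀ b ∈ Q, a * b = b * a := by
    intro Q a ha b hb
    obtain ⟨g, rfl⟩ := MulAction.exists_smul_eq G P Q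
    have ha' : g⁻¹ * a * g ∈ (P : Subgroup G) := CfsgLib.FGS.mem_conj_smul_iff.mp ha
    have hb' : g⁻¹ * b * g ∈ (P : Subgroup G) := CfsgLib.FGS.mem_conj_smul_iff.mp hb
    have h1 := hPcomm _ ha' _ hb'
    have h2 : g * (g⁻¹ * a * g * (g⁻¹ * b * g)) * g⁻¹ = a * b := by group
    have h3 : g * (g⁻¹ * b * g * (g⁻¹ * a * g)) * g⁻¹ = b * a := by group
    rw [← h2, h1, h3]
  have hP1 : (P : Subgroup G) ≠ ⊥ := by
    intro h
    apply hnn
    rw [h]
    infer_instance
  have HP : (∃ x ∈ (P : Subgroup G), (P : Subgroup G) ≤ Subgroup.zpowers x) ∨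
      (∃ x ∈ (P : Subgroup G), x ^ p ≠ 1) := by
    rcases hP with hP | ⟨hP, hne⟩
    · left
      obtain ⟨x, hx⟩ := hP.exists_generator
      refine ⟨x, x.2, ?_⟩
      intro y hy
      obtain ⟨i, hi⟩ := Subgroup.mem_zpowers_iff.mp (hx ⟨y, hy⟩)
      refine Subgroup.mem_zpowers_iff.mpr ⟨i, ?_⟩
      simpa using congrArg (fun z : (P : Subgroup G) => (z : G)) hi
    · right
      by_contra hcon
      apply hne
      refine ⟨hP, ?_⟩
      intro a ha
      by_contra h
      exact hcon ⟨a, ha, h⟩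
  obtain ⟨A, hA, hPA, hCA, hcoat, hM, _⟩ := hC.main hZ hab P hP1 HP hnn
  refine ⟨?_, hcoat, hM⟩
  rw [hCA]
  exact hnil A hA

end Cfsg.Agent.S3891
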