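import Cfsg.Statements.S3892
import Cfsg.Agent.Lib.FGS.Syl
import Cfsg.Agent.Lib.FGS.Cyc
import Cfsg.Agent.Lib.Solv.Core

set_option autoImplicit false
open Cfsg
open scoped commutatorElement
open scoped Pointwise

namespace Cfsg.Agent.S3892

theorem h8_core {G : Type*} [Group G] [Finite G] (ℓ : ℕ) [hℓ : Fact ℓ.Prime] (hc : ¬ ℓ ^ 2 ∣ Nat.card G)
    (N : Subgroup G) (hN : Group.IsNilpotent N) (x : G) (hx : orderOf x = ℓ) (hxN : x ∈ N) :
    (∀ z ∈ N, z * x = x * z) ∧ (∀ y ∈ N, orderOf y = ℓ → y ∈ Subgroup.zpowers x) := by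
  haveI := hN
  obtain ⟨P⟩ : Nonempty (Sylow ℓ N) := inferInstance
  have hPn : (P : Subgroup N).Normal := Sylow.normal_of_normalizerCondition normalizerCondition_of_isNilpotent P
  let x' : N := ⟨x, hxN⟩
  have hx' : orderOf x' = ℓ := by
    rw [Subgroup.orderOf_mk]
    exact hx
  have hxP : ∀ w : N, orderOf w = ℓ → w ∈ (P : Subgroup N) := by
    intro w hw
    have hpw : IsPGroup ℓ (Subgroup.zpowers w) := IsPGroup.of_card (n := 1) (by rw [Nat.card_zpowers, hw, pow_one])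
    exact (CfsgLib.FGS.le_of_normal_sylow P hPn hpw) (Subgroup.mem_zpowers w)
  obtain ⟨k, hk⟩ := IsPGroup.iff_card.1 P.isPGroup'
  have hk1 : k ≤ 1 := by
    by_contra hlt
    apply hc
    have h1 : ℓ ^ 2 ∣ Nat.card P := by
      rw [hk]
      exact pow_dvd_pow _ (by omega)
    exact h1.trans ((Subgroup.card_subgroup_dvd_card _).trans (Subgroup.card_subgroup_dvd_card N))
  have hzp : Subgroup.zpowers x' = (P : Subgroup N) := by
    refine Subgroup.eq_of_le_of_card_ge (Subgroup.zpowers_le.2 (hxP x' hx')) ?_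
    rw [hk, Nat.card_zpowers, hx']
    calc ℓ ^ k ≤ ℓ ^ 1 := Nat.pow_le_pow_right hℓ.out.pos hk1
      _ = ℓ := pow_one _
  constructor
  · have hne : (P : Subgroup N) ≠ ⊥ := by
      intro h
      rw [← hzp, Subgroup.zpowers_eq_bot] at h
      rw [h, orderOf_one] at hx'
      exact hℓ.out.one_lt.ne hx'
    have h1 := CfsgLib.Solv.normal_inf_center_ne_bot (P : Subgroup N) hne
    obtain ⟨w, hw, hw1⟩ := (Subgroup.bot_or_exists_ne_one _).resolve_left h1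
    have hwP : Subgroup.zpowers w ≤ (P : Subgroup N) := Subgroup.zpowers_le.2 hw.1
    have hcardP : Nat.card (P : Subgroup N) = ℓ := by
      rw [← hzp, Nat.card_zpowers, hx']
    have hd := Subgroup.card_dvd_of_le hwP
    rw [hcardP, Nat.card_zpowers] at hd
    have hord : orderOf w = ℓ := by
      rcases (Nat.dvd_prime hℓ.out).1 hd with h | h
      · exact absurd (orderOf_eq_one_iff.1 h) hw1
      · exact h
    have hwz : Subgroup.zpowers w = (P : Subgroup N) :=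
      Subgroup.eq_of_le_of_card_ge hwP (by rw [hcardP, Nat.card_zpowers, hord])
    have hxc : x' ∈ Subgroup.center N := by
      have h2 : x' ∈ Subgroup.zpowers w := by
        rw [hwz]
        exact hxP x' hx'
      exact (Subgroup.zpowers_le.2 hw.2) h2
    intro z hz
    have h3 := Subgroup.mem_center_iff.1 hxc ⟨z, hz⟩
    exact congrArg (fun u : N => (u : G)) h3
  · intro y hy hoy
    let y' : N := ⟨y, hy⟩
    have hy' : orderOf y' = ℓ := by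
      rw [Subgroup.orderOf_mk]
      exact hoy
    have h1 : y' ∈ Subgroup.zpowers x' := by
      rw [hzp]
      exact hxP y' hy'
    obtain ⟨j, hj⟩ := Subgroup.mem_zpowers_iff.1 h1
    exact Subgroup.mem_zpowers_iff.2 ⟨j, congrArg (fun u : N => (u : G)) hj⟩

theorem h8_cover {G : Type*} [Group G] [Finite G] (ℓ : ℕ) [Fact ℓ.Prime] (hc : ¬ ℓ ^ 2 ∣ Nat.card G)
    (𝓐 : Finset (Subgroup G)) (hA : ∀ A ∈ 𝓐, A ≠ ⊤) (hcov : ∀ g : G, ∃ A ∈ 𝓐, g ∈ A)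
    (hmin : ∀ 𝓑 : Finset (Subgroup G), (∀ A ∈ 𝓑, A ≠ ⊤) ∧ (∀ g : G, ∃ A ∈ 𝓑, g ∈ A) → 𝓐.card ≤ 𝓑.card)
    (hnil : ∀ A ∈ 𝓐, Group.IsNilpotent ↥A) (x y : G) (hx : orderOf x = ℓ) (hy : orderOf y = ℓ)
    (hxy : y ∉ Subgroup.zpowers x) (K : Subgroup G) (hK : K ≠ ⊤) (hKx : ∀ z, z * x = x * z → z ∈ K)
    (hKy : ∀ z, z * y = y * z → z ∈ K) : False := by
  classical
  obtain ⟨N1, hN1, hxN1⟩ := hcov x
  obtain ⟨N2, hN2, hyN2⟩ := hcov y
  have hc1 := h8_core ℓ hc N1 (hnil N1 hN1) x hx hxN1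
  have hc2 := h8_core ℓ hc N2 (hnil N2 hN2) y hy hyN2
  have hne : N1 ≠ N2 := by
    rintro rfl
    exact hxy (hc1.2 y hyN2 hy)
  have hle1 : N1 ≤ K := fun z hz => hKx z (hc1.1 z hz)
  have hle2 : N2 ≤ K := fun z hz => hKy z (hc2.1 z hz)
  have h1 := hmin (insert K ((𝓐.erase N1).erase N2)) ⟨?_, ?_⟩
  · have h2 := Finset.card_insert_le K ((𝓐.erase N1).erase N2)
    have hm2 : N2 ∈ 𝓐.erase N1 := Finset.mem_erase.2 ⟨hne.symm, hN2⟩
    have h3 := Finset.card_erase_of_mem hm2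
    have h4 := Finset.card_erase_of_mem hN1
    have h5 : 0 < (𝓐.erase N1).card := Finset.card_pos.2 ⟨N2, hm2⟩
    omega
  · intro A hAm
    rcases Finset.mem_insert.1 hAm with rfl | h
    · exact hK
    · exact hA A (Finset.mem_of_mem_erase (Finset.mem_of_mem_erase h))
  · intro g
    obtain ⟨A, hAm, hgA⟩ := hcov g
    by_cases h1 : A = N1
    · exact ⟨K, Finset.mem_insert_self _ _, hle1 (h1 ▸ hgA)⟩
    by_cases h2 : A = N2
    · exact ⟨K, Finset.mem_insert_self _ _, hle2 (h2 ▸ hgA)⟩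
    exact ⟨A, Finset.mem_insert_of_mem (Finset.mem_erase.2 ⟨h2, Finset.mem_erase.2 ⟨h1, hAm⟩⟩), hgA⟩

theorem h8_fact (ℓ : ℕ) (hℓ : ℓ.Prime) : ∀ n, n < 2 * ℓ → ¬ ℓ ^ 2 ∣ n.factorial := by
  intro n
  induction n with
  | zero =>
    intro _ h
    have h1 := Nat.le_of_dvd (by simp) h
    have := hℓ.two_le
    simp only [Nat.factorial_zero] at h1
    nlinarith
  | succ n ih =>
    intro hn h
    rw [Nat.factorial_succ] at h
    rcases lt_trichotomy (n + 1) ℓ with h1 | h1 | h1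
    · have h2 : ℓ ∣ (n + 1) * n.factorial := (dvd_pow_self ℓ two_ne_zero).trans h
      rw [← Nat.factorial_succ, hℓ.dvd_factorial] at h2
      omega
    · rw [h1, pow_two] at h
      have h2 := Nat.dvd_of_mul_dvd_mul_left hℓ.pos h
      rw [hℓ.dvd_factorial] at h2
      omega
    · have hnd : ¬ ℓ ∣ n + 1 := by
        rintro ⟨c, hc⟩
        rcases c with _ | _ | c
        · simp at hc
        · simp at hc
          omega
        · have : ℓ * (c + 1 + 1) = ℓ * c + 2 * ℓ := by ring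
          omega
      have hcop : Nat.Coprime (ℓ ^ 2) (n + 1) :=
        Nat.Coprime.pow_left 2 ((Nat.Prime.coprime_iff_not_dvd hℓ).2 hnd)
      exact ih (by omega) (hcop.dvd_of_dvd_mul_left h)

theorem h8_prime (n : ℕ) (h6 : 6 ≤ n) : ∃ ℓ : ℕ, ℓ.Prime ∧ 5 ≤ ℓ ∧ ℓ < n ∧ n < 2 * ℓ := by
  obtain ⟨p, hp, h1, h2⟩ := Nat.exists_prime_lt_and_le_two_mul (n / 2) (by omega)
  have h5 : 5 ≤ p := by
    by_contra hlt
    have : p = 4 := by omega
    subst this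
    norm_num at hp
  refine ⟨p, hp, h5, ?_, by omega⟩
  by_contra hge
  have hpn : p = 2 * (n / 2) := by omega
  have h3 : 2 ∣ p := ⟨_, hpn⟩
  rcases (Nat.dvd_prime hp).1 h3 with h | h <;> omega

def h8_K {n : ℕ} (S : Set (Fin n)) : Subgroup (Equiv.Perm (Fin n)) where
  carrier := {g | ∀ a, a ∈ S ↔ g a ∈ S}
  mul_mem' := by
    intro g h hg hh a
    exact (hh a).trans (hg (h a))
  one_mem' := fun a => Iff.rfl
  inv_mem' := by
    intro g hg a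
    have h1 := hg (g⁻¹ a)
    have e : g (g⁻¹ a) = a := by
      rw [← Equiv.Perm.mul_apply, mul_inv_cancel]
      rfl
    rw [e] at h1
    exact h1.symm

theorem h8_comm_K {n : ℕ} (S : Set (Fin n)) (w z : Equiv.Perm (Fin n)) (hw : ∀ a, a ∈ S ↔ w a ≠ a)
    (hz : z * w = w * z) : z ∈ h8_K S := by
  intro a
  have h1 : w (z a) = z (w a) := (congrArg (fun f : Equiv.Perm (Fin n) => f a) hz).symm
  rw [hw a, hw (z a), h1]
  constructor
  · intro h h2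
    exact h (z.injective h2)
  · intro h h2
    exact h (by rw [h2])

theorem h8_data (n ℓ : ℕ) (hℓ : ℓ.Prime) (h5 : 5 ≤ ℓ) (hlt : ℓ < n) :
    ∃ (x y : Equiv.Perm (Fin n)) (S : Set (Fin n)) (a b c : Fin n),
      orderOf x = ℓ ∧ orderOf y = ℓ ∧ y ∉ Subgroup.zpowers x ∧ (∀ u, u ∈ S ↔ x u ≠ u) ∧ (∀ u, u ∈ S ↔ y u ≠ u) ∧
      a ∈ S ∧ c ∈ S ∧ a ≠ c ∧ b ∉ S := by
  haveI : Fact ℓ.Prime := ⟨hℓ⟩
  haveI : NeZero ℓ := ⟨hℓ.ne_zero⟩
  haveI : Fact (1 < ℓ) := ⟨hℓ.one_lt⟩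
  have h2ne : ((2 : ℕ) : ZMod ℓ) ≠ 0 := by
    intro h
    have h1 := (ZMod.natCast_eq_zero_iff 2 ℓ).1 h
    have h2 := Nat.le_of_dvd (by norm_num) h1
    omega
  have h3ne : ((3 : ℕ) : ZMod ℓ) ≠ 0 := by
    intro h
    have h1 := (ZMod.natCast_eq_zero_iff 3 ℓ).1 h
    have h2 := Nat.le_of_dvd (by norm_num) h1
    omega
  have h20 : (2 : ZMod ℓ) ≠ 0 := by exact_mod_cast h2ne
  have h30 : (3 : ZMod ℓ) ≠ 0 := by exact_mod_cast h3ne
  have h10 : (1 : ZMod ℓ) ≠ 0 := one_ne_zero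
  have h21 : (2 : ZMod ℓ) ≠ 1 := by
    intro h
    apply h10
    linear_combination h
  have h31 : (3 : ZMod ℓ) ≠ 1 := by
    intro h
    apply h20
    linear_combination h
  obtain ⟨ι⟩ : Nonempty (ZMod ℓ ↪ Fin n) :=
    Function.Embedding.nonempty_of_card_le (by rw [ZMod.card, Fintype.card_fin]; omega)
  let x0 : Equiv.Perm (ZMod ℓ) := Equiv.addRight (1 : ZMod ℓ)
  let σ : Equiv.Perm (ZMod ℓ) := Equiv.swap 0 1
  let y0 : Equiv.Perm (ZMod ℓ) := σ * x0 * σ⁻¹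
  have hx0 : ∀ i, x0 i = i + 1 := fun i => rfl
  have hx0ne : ∀ i, x0 i ≠ i := by
    intro i h
    rw [hx0] at h
    apply h10
    linear_combination h
  have hx0pow : ∀ (k : ℕ) i, (x0 ^ k) i = i + k := by
    intro k
    induction k with
    | zero =>
      intro i
      simp
    | succ k ih =>
      intro i
      rw [pow_succ, Equiv.Perm.mul_apply, ih, hx0]
      push_cast
      ring
  have hy0 : ∀ i, y0 i = σ (x0 (σ⁻¹ i)) := fun i => rfl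
  have hσinv : σ⁻¹ = σ := Equiv.swap_inv _ _
  have hy00 : y0 0 = 2 := by
    rw [hy0, hσinv]
    have h1 : σ 0 = 1 := Equiv.swap_apply_left _ _
    rw [h1, hx0]
    have h2 : (1 : ZMod ℓ) + 1 = 2 := by norm_num
    rw [h2]
    exact Equiv.swap_apply_of_ne_of_ne h20 h21
  have hy02 : y0 2 = 3 := by
    rw [hy0, hσinv]
    have h1 : σ 2 = 2 := Equiv.swap_apply_of_ne_of_ne h20 h21
    rw [h1, hx0]
    have h2 : (2 : ZMod ℓ) + 1 = 3 := by norm_num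
    rw [h2]
    exact Equiv.swap_apply_of_ne_of_ne h30 h31
  have hy0ne : ∀ i, y0 i ≠ i := by
    intro i h
    rw [hy0] at h
    have h1 : x0 (σ⁻¹ i) = σ⁻¹ i := (Equiv.Perm.eq_inv_iff_eq).2 h
    exact hx0ne _ h1
  have hox0 : orderOf x0 = ℓ := by
    refine orderOf_eq_prime ?_ ?_
    · ext i
      rw [hx0pow]
      simp
    · intro h
      have h1 := congrArg (fun f : Equiv.Perm (ZMod ℓ) => f 0) h
      exact hx0ne 0 h1
  have hoy0 : orderOf y0 = ℓ := by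
    have h1 : orderOf (MulAut.conj σ x0) = orderOf x0 := MulEquiv.orderOf_eq _ _
    rw [hox0] at h1
    exact h1
  have hnot : y0 ∉ Subgroup.zpowers x0 := by
    intro h
    have h1 := mem_powers_iff_mem_zpowers.2 h
    obtain ⟨k, hk⟩ := Submonoid.mem_powers_iff _ _ |>.1 h1
    have h2 := congrArg (fun f : Equiv.Perm (ZMod ℓ) => f 0) hk
    have h3 := congrArg (fun f : Equiv.Perm (ZMod ℓ) => f 2) hk
    simp only [hx0pow, hy00, hy02] at h2 h3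
    apply h10
    linear_combination h3 - h2
  have hinj := Equiv.Perm.viaEmbeddingHom_injective ι
  let f := Equiv.Perm.viaEmbeddingHom ι
  have hf1 : ∀ (e : Equiv.Perm (ZMod ℓ)) i, f e (ι i) = ι (e i) := by
    intro e i
    exact Equiv.Perm.viaEmbedding_apply e ι i
  have hf2 : ∀ (e : Equiv.Perm (ZMod ℓ)) (u : Fin n), u ∉ Set.range ι → f e u = u := by
    intro e u hu
    exact Equiv.Perm.viaEmbedding_apply_of_notMem e ι u hu
  have hsupp : ∀ e : Equiv.Perm (ZMod ℓ), (∀ i, e i ≠ i) → ∀ u, u ∈ Set.range ι ↔ f e u ≠ u := by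
    intro e he u
    constructor
    · rintro ⟨i, rfl⟩ h
      rw [hf1] at h
      exact he i (ι.injective h)
    · intro h
      by_contra hu
      exact h (hf2 e u hu)
  obtain ⟨b, hb⟩ : ∃ b, b ∉ Set.range ι := by
    by_contra h
    push Not at h
    have h1 := Fintype.card_le_of_surjective ι h
    rw [ZMod.card, Fintype.card_fin] at h1
    omega
  refine ⟨f x0, f y0, Set.range ι, ι 0, b, ι 1, ?_, ?_, ?_, hsupp x0 hx0ne, hsupp y0 hy0ne, ⟨0, rfl⟩, ⟨1, rfl⟩, ?_, hb⟩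
  · rw [orderOf_injective f hinj, hox0]
  · rw [orderOf_injective f hinj, hoy0]
  · intro h
    obtain ⟨k, hk⟩ := Subgroup.mem_zpowers_iff.1 h
    rw [← map_zpow] at hk
    exact hnot (Subgroup.mem_zpowers_iff.2 ⟨k, hinj hk⟩)
  · intro h
    exact h10 (ι.injective h).symm

theorem h8_not_zp {G : Type*} [Group G] [Finite G] (x y : G) (hm : ∀ k < orderOf x, x ^ k ≠ y) :
    y ∉ Subgroup.zpowers x := by
  intro h
  have h1 := mem_powers_iff_mem_zpowers.2 h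
  obtain ⟨k, hk⟩ := Submonoid.mem_powers_iff _ _ |>.1 h1
  refine hm (k % orderOf x) (Nat.mod_lt _ (orderOf_pos x)) ?_
  rw [pow_mod_orderOf]
  exact hk

theorem h8_even {n ℓ : ℕ} (hℓ : ℓ.Prime) (h5 : 5 ≤ ℓ) (x : Equiv.Perm (Fin n)) (hx : orderOf x = ℓ) :
    x ∈ alternatingGroup (Fin n) := by
  rw [Equiv.Perm.mem_alternatingGroup]
  have h1 : x ^ ℓ = 1 := by
    rw [← hx]
    exact pow_orderOf_eq_one x
  have h2 : Equiv.Perm.sign x ^ ℓ = 1 := by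
    rw [← map_pow, h1, map_one]
  rcases Int.units_eq_one_or (Equiv.Perm.sign x) with h | h
  · exact h
  · exfalso
    rw [h, (hℓ.odd_of_ne_two (by omega)).neg_one_pow] at h2
    exact absurd h2 (by decide)

theorem h8_bigS (n : ℕ) (h6 : 6 ≤ n) (𝓐 : Finset (Subgroup (Equiv.Perm (Fin n))))
    (hA : ∀ A ∈ 𝓐, A ≠ ⊤) (hcov : ∀ g : Equiv.Perm (Fin n), ∃ A ∈ 𝓐, g ∈ A)
    (hmin : ∀ 𝓑 : Finset (Subgroup (Equiv.Perm (Fin n))), (∀ A ∈ 𝓑, A ≠ ⊤) ∧ (∀ g : Equiv.Perm (Fin n), ∃ A ∈ 𝓑, g ∈ A) → 𝓐.card ≤ 𝓑.card)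
    (hnil : ∀ A ∈ 𝓐, Group.IsNilpotent ↥A) : False := by
  obtain ⟨ℓ, hℓ, h5, hlt, h2⟩ := h8_prime n h6
  haveI : Fact ℓ.Prime := ⟨hℓ⟩
  obtain ⟨x, y, S, a, b, c, hx, hy, hxy, hSx, hSy, ha, hc, hac, hb⟩ := h8_data n ℓ hℓ h5 hlt
  have hcard : ¬ ℓ ^ 2 ∣ Nat.card (Equiv.Perm (Fin n)) := by
    rw [Nat.card_eq_fintype_card, Fintype.card_perm, Fintype.card_fin]
    exact h8_fact ℓ hℓ n h2
  refine h8_cover ℓ hcard 𝓐 hA hcov hmin hnil x y hx hy hxy (h8_K S) ?_ (fun z hz => h8_comm_K S x z hSx hz)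
    (fun z hz => h8_comm_K S y z hSy hz)
  intro htop
  have h1 : Equiv.swap a b ∈ h8_K S := htop ▸ Subgroup.mem_top _
  have h3 := (h1 a).1 ha
  rw [Equiv.swap_apply_left] at h3
  exact hb h3

theorem h8_bigA (n : ℕ) (h6 : 6 ≤ n) (𝓐 : Finset (Subgroup ↥(alternatingGroup (Fin n))))
    (hA : ∀ A ∈ 𝓐, A ≠ ⊤) (hcov : ∀ g : ↥(alternatingGroup (Fin n)), ∃ A ∈ 𝓐, g ∈ A)
    (hmin : ∀ 𝓑 : Finset (Subgroup ↥(alternatingGroup (Fin n))), (∀ A ∈ 𝓑, A ≠ ⊤) ∧ (∀ g : ↥(alternatingGroup (Fin n)), ∃ A ∈ 𝓑, g ∈ A) → 𝓐.card ≤ 𝓑.card)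
    (hnil : ∀ A ∈ 𝓐, Group.IsNilpotent ↥A) : False := by
  obtain ⟨ℓ, hℓ, h5, hlt, h2⟩ := h8_prime n h6
  haveI : Fact ℓ.Prime := ⟨hℓ⟩
  obtain ⟨x, y, S, a, b, c, hx, hy, hxy, hSx, hSy, ha, hc, hac, hb⟩ := h8_data n ℓ hℓ h5 hlt
  have hcard : ¬ ℓ ^ 2 ∣ Nat.card ↥(alternatingGroup (Fin n)) := by
    intro h
    have h1 := h.trans (Subgroup.card_subgroup_dvd_card (alternatingGroup (Fin n)))
    rw [Nat.card_eq_fintype_card, Fintype.card_perm, Fintype.card_fin] at h1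
    exact h8_fact ℓ hℓ n h2 h1
  let x' : ↥(alternatingGroup (Fin n)) := ⟨x, h8_even hℓ h5 x hx⟩
  let y' : ↥(alternatingGroup (Fin n)) := ⟨y, h8_even hℓ h5 y hy⟩
  refine h8_cover ℓ hcard 𝓐 hA hcov hmin hnil x' y' (by rw [Subgroup.orderOf_mk]; exact hx)
    (by rw [Subgroup.orderOf_mk]; exact hy) ?_ ((h8_K S).subgroupOf (alternatingGroup (Fin n))) ?_ ?_ ?_
  · intro h
    obtain ⟨k, hk⟩ := Subgroup.mem_zpowers_iff.1 h
    exact hxy (Subgroup.mem_zpowers_iff.2 ⟨k, congrArg (fun u : ↥(alternatingGroup (Fin n)) => (u : Equiv.Perm (Fin n))) hk⟩)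
  · intro htop
    have hmem : Equiv.swap a b * Equiv.swap a c ∈ alternatingGroup (Fin n) := by
      have hab : a ≠ b := fun h => hb (h ▸ ha)
      rw [Equiv.Perm.mem_alternatingGroup, map_mul, Equiv.Perm.sign_swap hab, Equiv.Perm.sign_swap hac]
      decide
    have h1 : (⟨_, hmem⟩ : ↥(alternatingGroup (Fin n))) ∈ (h8_K S).subgroupOf (alternatingGroup (Fin n)) :=
      htop ▸ Subgroup.mem_top _
    have h3 := (Subgroup.mem_subgroupOf.1 h1 c).1 hc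
    have hcb : c ≠ b := fun h => hb (h ▸ hc)
    have h4 : (Equiv.swap a b * Equiv.swap a c) c = b := by
      rw [Equiv.Perm.mul_apply, Equiv.swap_apply_right, Equiv.swap_apply_left]
    have h5' : (Equiv.swap a b * Equiv.swap a c) c ∈ S := h3
    rw [h4] at h5'
    exact hb h5'
  · intro z hz
    exact h8_comm_K S x z hSx (congrArg (fun u : ↥(alternatingGroup (Fin n)) => (u : Equiv.Perm (Fin n))) hz)
  · intro z hz
    exact h8_comm_K S y z hSy (congrArg (fun u : ↥(alternatingGroup (Fin n)) => (u : Equiv.Perm (Fin n))) hz)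

def h8_x4 : Equiv.Perm (Fin 4) := Equiv.swap 0 1 * Equiv.swap 1 2
def h8_y4 : Equiv.Perm (Fin 4) := Equiv.swap 0 1 * Equiv.swap 1 3
def h8_x5 : Equiv.Perm (Fin 5) := Equiv.swap 0 1 * Equiv.swap 1 2 * Equiv.swap 2 3 * Equiv.swap 3 4
def h8_y5 : Equiv.Perm (Fin 5) := Equiv.swap 1 2 * h8_x5 * Equiv.swap 1 2
def h8_u5 : Equiv.Perm (Fin 5) := Equiv.swap 0 1 * Equiv.swap 1 2
def h8_v5 : Equiv.Perm (Fin 5) := Equiv.swap 0 1 * Equiv.swap 1 3

theorem h8_s4 (𝓐 : Finset (Subgroup (Equiv.Perm (Fin 4))))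
    (hA : ∀ A ∈ 𝓐, A ≠ ⊤) (hcov : ∀ g : Equiv.Perm (Fin 4), ∃ A ∈ 𝓐, g ∈ A)
    (hmin : ∀ 𝓑 : Finset (Subgroup (Equiv.Perm (Fin 4))), (∀ A ∈ 𝓑, A ≠ ⊤) ∧ (∀ g : Equiv.Perm (Fin 4), ∃ A ∈ 𝓑, g ∈ A) → 𝓐.card ≤ 𝓑.card)
    (hnil : ∀ A ∈ 𝓐, Group.IsNilpotent ↥A) : False := by
  haveI : Fact (Nat.Prime 3) := Nat.fact_prime_three
  have hx : orderOf h8_x4 = 3 := orderOf_eq_prime (by decide) (by decide)
  have hy : orderOf h8_y4 = 3 := orderOf_eq_prime (by decide) (by decide)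
  have hcard : ¬ 3 ^ 2 ∣ Nat.card (Equiv.Perm (Fin 4)) := by
    rw [Nat.card_eq_fintype_card, Fintype.card_perm, Fintype.card_fin]
    decide
  refine h8_cover 3 hcard 𝓐 hA hcov hmin hnil h8_x4 h8_y4 hx hy (h8_not_zp _ _ ?_) (alternatingGroup (Fin 4)) ?_ ?_ ?_
  · rw [hx]
    have h1 : ∀ k : Fin 3, h8_x4 ^ (k : ℕ) ≠ h8_y4 := by decide
    intro k hk
    exact h1 ⟨k, hk⟩
  · intro htop
    have h1 : Equiv.swap (0 : Fin 4) 1 ∈ alternatingGroup (Fin 4) := htop ▸ Subgroup.mem_top _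
    rw [Equiv.Perm.mem_alternatingGroup] at h1
    exact absurd h1 (by decide)
  · have h1 : ∀ z : Equiv.Perm (Fin 4), z * h8_x4 = h8_x4 * z → Equiv.Perm.sign z = 1 := by decide
    exact fun z hz => Equiv.Perm.mem_alternatingGroup.2 (h1 z hz)
  · have h1 : ∀ z : Equiv.Perm (Fin 4), z * h8_y4 = h8_y4 * z → Equiv.Perm.sign z = 1 := by decide
    exact fun z hz => Equiv.Perm.mem_alternatingGroup.2 (h1 z hz)

set_option maxRecDepth 100000 in
theorem h8_s5 (𝓐 : Finset (Subgroup (Equiv.Perm (Fin 5))))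
    (hA : ∀ A ∈ 𝓐, A ≠ ⊤) (hcov : ∀ g : Equiv.Perm (Fin 5), ∃ A ∈ 𝓐, g ∈ A)
    (hmin : ∀ 𝓑 : Finset (Subgroup (Equiv.Perm (Fin 5))), (∀ A ∈ 𝓑, A ≠ ⊤) ∧ (∀ g : Equiv.Perm (Fin 5), ∃ A ∈ 𝓑, g ∈ A) → 𝓐.card ≤ 𝓑.card)
    (hnil : ∀ A ∈ 𝓐, Group.IsNilpotent ↥A) : False := by
  haveI : Fact (Nat.Prime 5) := ⟨by norm_num⟩
  have hx : orderOf h8_x5 = 5 := orderOf_eq_prime (by decide +kernel) (by decide +kernel)
  have hy : orderOf h8_y5 = 5 := orderOf_eq_prime (by decide +kernel) (by decide +kernel)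
  have hcard : ¬ 5 ^ 2 ∣ Nat.card (Equiv.Perm (Fin 5)) := by
    rw [Nat.card_eq_fintype_card, Fintype.card_perm, Fintype.card_fin]
    decide
  refine h8_cover 5 hcard 𝓐 hA hcov hmin hnil h8_x5 h8_y5 hx hy (h8_not_zp _ _ ?_) (alternatingGroup (Fin 5)) ?_ ?_ ?_
  · rw [hx]
    have h1 : ∀ k : Fin 5, h8_x5 ^ (k : ℕ) ≠ h8_y5 := by decide +kernel
    intro k hk
    exact h1 ⟨k, hk⟩
  · intro htop
    have h1 : Equiv.swap (0 : Fin 5) 1 ∈ alternatingGroup (Fin 5) := htop ▸ Subgroup.mem_top _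
    rw [Equiv.Perm.mem_alternatingGroup] at h1
    exact absurd h1 (by decide +kernel)
  · have h1 : ∀ z : Equiv.Perm (Fin 5), z * h8_x5 = h8_x5 * z → Equiv.Perm.sign z = 1 := by decide +kernel
    exact fun z hz => Equiv.Perm.mem_alternatingGroup.2 (h1 z hz)
  · have h1 : ∀ z : Equiv.Perm (Fin 5), z * h8_y5 = h8_y5 * z → Equiv.Perm.sign z = 1 := by decide +kernel
    exact fun z hz => Equiv.Perm.mem_alternatingGroup.2 (h1 z hz)

set_option maxRecDepth 100000 in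
theorem h8_a5 (𝓐 : Finset (Subgroup ↥(alternatingGroup (Fin 5))))
    (hA : ∀ A ∈ 𝓐, A ≠ ⊤) (hcov : ∀ g : ↥(alternatingGroup (Fin 5)), ∃ A ∈ 𝓐, g ∈ A)
    (hmin : ∀ 𝓑 : Finset (Subgroup ↥(alternatingGroup (Fin 5))), (∀ A ∈ 𝓑, A ≠ ⊤) ∧ (∀ g : ↥(alternatingGroup (Fin 5)), ∃ A ∈ 𝓑, g ∈ A) → 𝓐.card ≤ 𝓑.card)
    (hnil : ∀ A ∈ 𝓐, Group.IsNilpotent ↥A) : False := by
  haveI : Fact (Nat.Prime 3) := Nat.fact_prime_three
  have hx : orderOf h8_u5 = 3 := orderOf_eq_prime (by decide +kernel) (by decide +kernel)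
  have hy : orderOf h8_v5 = 3 := orderOf_eq_prime (by decide +kernel) (by decide +kernel)
  have hxe : h8_u5 ∈ alternatingGroup (Fin 5) := Equiv.Perm.mem_alternatingGroup.2 (by decide +kernel)
  have hye : h8_v5 ∈ alternatingGroup (Fin 5) := Equiv.Perm.mem_alternatingGroup.2 (by decide +kernel)
  have hcard : ¬ 3 ^ 2 ∣ Nat.card ↥(alternatingGroup (Fin 5)) := by
    intro h
    have h1 := h.trans (Subgroup.card_subgroup_dvd_card (alternatingGroup (Fin 5)))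
    rw [Nat.card_eq_fintype_card, Fintype.card_perm, Fintype.card_fin] at h1
    exact absurd h1 (by decide)
  have hnzp : h8_v5 ∉ Subgroup.zpowers h8_u5 := by
    refine h8_not_zp _ _ ?_
    rw [hx]
    have h1 : ∀ k : Fin 3, h8_u5 ^ (k : ℕ) ≠ h8_v5 := by decide +kernel
    intro k hk
    exact h1 ⟨k, hk⟩
  have hS : ∀ z : Equiv.Perm (Fin 5), z 4 = 4 → z ∈ h8_K ({4} : Set (Fin 5)) := by
    intro z hz a
    simp only [Set.mem_singleton_iff]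
    constructor
    · rintro rfl
      exact hz
    · intro h
      exact z.injective (h.trans hz.symm)
  refine h8_cover 3 hcard 𝓐 hA hcov hmin hnil (⟨h8_u5, hxe⟩ : ↥(alternatingGroup (Fin 5))) ⟨h8_v5, hye⟩
    (by rw [Subgroup.orderOf_mk]; exact hx) (by rw [Subgroup.orderOf_mk]; exact hy) ?_
    ((h8_K ({4} : Set (Fin 5))).subgroupOf (alternatingGroup (Fin 5))) ?_ ?_ ?_
  · intro h
    obtain ⟨k, hk⟩ := Subgroup.mem_zpowers_iff.1 h
    exact hnzp (Subgroup.mem_zpowers_iff.2 ⟨k, congrArg (fun u : ↥(alternatingGroup (Fin 5)) => (u : Equiv.Perm (Fin 5))) hk⟩)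
  · intro htop
    have hg : (Equiv.swap (2 : Fin 5) 4 * Equiv.swap 3 4) ∈ alternatingGroup (Fin 5) :=
      Equiv.Perm.mem_alternatingGroup.2 (by decide +kernel)
    have h1 : (⟨_, hg⟩ : ↥(alternatingGroup (Fin 5))) ∈ (h8_K ({4} : Set (Fin 5))).subgroupOf (alternatingGroup (Fin 5)) :=
      htop ▸ Subgroup.mem_top _
    have h3 := (Subgroup.mem_subgroupOf.1 h1 4).1 rfl
    have h4 : ((Equiv.swap (2 : Fin 5) 4 * Equiv.swap 3 4 : Equiv.Perm (Fin 5))) (4 : Fin 5) = 4 := h3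
    exact absurd h4 (by decide +kernel)
  · have h1 : ∀ z : Equiv.Perm (Fin 5), Equiv.Perm.sign z = 1 → z * h8_u5 = h8_u5 * z → z 4 = 4 := by decide +kernel
    intro z hz
    refine Subgroup.mem_subgroupOf.2 (hS _ (h1 _ (Equiv.Perm.mem_alternatingGroup.1 z.2) ?_))
    exact congrArg (fun u : ↥(alternatingGroup (Fin 5)) => (u : Equiv.Perm (Fin 5))) hz
  · have h1 : ∀ z : Equiv.Perm (Fin 5), Equiv.Perm.sign z = 1 → z * h8_v5 = h8_v5 * z → z 4 = 4 := by decide +kernel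
    intro z hz
    refine Subgroup.mem_subgroupOf.2 (hS _ (h1 _ (Equiv.Perm.mem_alternatingGroup.1 z.2) ?_))
    exact congrArg (fun u : ↥(alternatingGroup (Fin 5)) => (u : Equiv.Perm (Fin 5))) hz

/-- A cover of a group is a finite set of proper subgroups whose union is the whole group; it is minimal when no cover has fewer members, and nilpotent when all its members are nilpotent. The alternating groups of degree at least 5 and the symmetric groups of degree at least 4 have no nilpotent minimal cover. -/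
theorem result (n : ℕ) :
    (5 ≤ n → ¬ ∃ 𝓐 : Finset (Subgroup ↥(alternatingGroup (Fin n))), ((∀ A ∈ 𝓐, A ≠ ⊤) ∧ (∀ g : ↥(alternatingGroup (Fin n)), ∃ A ∈ 𝓐, g ∈ A)) ∧ (∀ 𝓑 : Finset (Subgroup ↥(alternatingGroup (Fin n))), (∀ A ∈ 𝓑, A ≠ ⊤) ∧ (∀ g : ↥(alternatingGroup (Fin n)), ∃ A ∈ 𝓑, g ∈ A) → 𝓐.card ≤ 𝓑.card) ∧ (∀ A ∈ 𝓐, Group.IsNilpotent ↥A)) ∧
    (4 ≤ n → ¬ ∃ 𝓐 : Finset (Subgroup (Equiv.Perm (Fin n))), ((∀ A ∈ 𝓐, A ≠ ⊤) ∧ (∀ g : (Equiv.Perm (Fin n)), ∃ A ∈ 𝓐, g ∈ A)) ∧ (∀ 𝓑 : Finset (Subgroup (Equiv.Perm (Fin n))), (∀ A ∈ 𝓑, A ≠ ⊤) ∧ (∀ g : (Equiv.Perm (Fin n)), ∃ A ∈ 𝓑, g ∈ A) → 𝓐.card ≤ 𝓑.card) ∧ (∀ A ∈ 𝓐, Group.IsNilpotent ↥A)) := by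
  constructor
  · rintro h5 ⟨𝓐, ⟨hA, hcov⟩, hmin, hnil⟩
    rcases Nat.lt_or_ge n 6 with h6 | h6
    · obtain rfl : n = 5 := by omega
      exact h8_a5 𝓐 hA hcov hmin hnil
    · exact h8_bigA n h6 𝓐 hA hcov hmin hnil
  · rintro h4 ⟨𝓐, ⟨hA, hcov⟩, hmin, hnil⟩
    rcases Nat.lt_or_ge n 6 with h6 | h6
    · obtain rfl | rfl : n = 4 ∨ n = 5 := by omega
      · exact h8_s4 𝓐 hA hcov hmin hnil
      · exact h8_s5 𝓐 hA hcov hmin hnil
    · exact h8_bigS n h6 𝓐 hA hcov hmin hnil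

end Cfsg.Agent.S3892
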