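import Cfsg.Statements.S4113
import Cfsg.Agent.Lib.FGS.Cover

set_option autoImplicit false
open Cfsg
open scoped commutatorElement
open scoped Pointwise

namespace Cfsg.Agent.S4113

/-- Let G be a finite group, M ≤ N non-trivial proper normal subgroups, and H a subgroup with HM = G and H ∩ M = 1. Then every element of G outside N acts fixed-point-freely on M (C_G(x) ≤ N for every x ∈ M, x ≠ 1) if and only if H ∩ gHg⁻¹ ≤ H ∩ N for every g outside H, with H proper and non-trivial and H ∩ N proper in H. -/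
theorem result {G : Type*} [Group G] [Finite G] (N M : Subgroup G) [N.Normal] [M.Normal] (hMN : M ≤ N) (hM1 : M ≠ ⊥) (hN2 : N ≠ ⊤)
    (H : Subgroup G) (hHM : H ⊔ M = ⊤) (hHM' : H ⊓ M = ⊥) :
    (∀ x ∈ M, x ≠ 1 → Subgroup.centralizer ({x} : Set G) ≤ N) ↔
      (H ≠ ⊥ ∧ H ≠ ⊤ ∧ H ⊓ N < H ∧ ∀ g : G, g ∉ H → H ⊓ H.map (MulAut.conj g).toMonoidHom ≤ N) := by
  classical
  have hdec : ∀ g : G, ∃ m ∈ M, ∃ h ∈ H, g = m * h := by
    intro g
    have h1 : g⁻¹ ∈ H ⊔ M := by rw [hHM]; trivial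
    obtain ⟨a, ha, b, hb, hab⟩ := Subgroup.mem_sup_of_normal_right.1 h1
    refine ⟨b⁻¹, M.inv_mem hb, a⁻¹, H.inv_mem ha, ?_⟩
    have : g = (a * b)⁻¹ := by rw [hab, inv_inv]
    rw [this, mul_inv_rev]
  have hHMeq : ∀ y ∈ H, y ∈ M → y = 1 := by
    intro y h1 h2
    have : y ∈ H ⊓ M := ⟨h1, h2⟩
    rw [hHM'] at this
    exact this
  constructor
  · intro h
    refine ⟨?_, ?_, ?_, ?_⟩
    · rintro rfl
      rw [bot_sup_eq] at hHM
      exact hN2 (top_le_iff.1 (hHM ▸ hMN))
    · rintro rfl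
      rw [top_inf_eq] at hHM'
      exact hM1 hHM'
    · refine lt_of_le_of_ne inf_le_left (fun he => ?_)
      have h1 : H ≤ N := inf_eq_left.1 he
      exact hN2 (top_le_iff.1 (hHM ▸ sup_le h1 hMN))
    · rintro g hg y ⟨hy1, hy2⟩
      obtain ⟨u, hu, hu2⟩ := hy2
      replace hu2 : g * u * g⁻¹ = y := hu2
      obtain ⟨m, hm, h0, hh0, rfl⟩ := hdec g
      have hm1 : m ≠ 1 := by
        rintro rfl
        apply hg
        simpa using hh0
      have h1 : h0 * u * h0⁻¹ ∈ H := H.mul_mem (H.mul_mem hh0 hu) (H.inv_mem hh0)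
      have h2 : y = m * (h0 * u * h0⁻¹) * m⁻¹ := by rw [← hu2]; group
      obtain ⟨v, hv⟩ : ∃ v, v = h0 * u * h0⁻¹ := ⟨_, rfl⟩
      rw [← hv] at h1 h2
      have h3 : y * v⁻¹ ∈ M := by
        rw [h2]
        have h4 : m * v * m⁻¹ * v⁻¹ = m * (v * m⁻¹ * v⁻¹) := by group
        rw [h4]
        exact M.mul_mem hm ((‹M.Normal›).conj_mem _ (M.inv_mem hm) v)
      have h5 : y * v⁻¹ = 1 := hHMeq _ (H.mul_mem hy1 (H.inv_mem h1)) h3
      have h6 : y = v := by
        have := mul_inv_eq_one.1 h5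
        exact this
      subst h6
      refine h m hm hm1 ?_
      refine Subgroup.mem_centralizer_iff.2 ?_
      intro z hz
      rw [Set.mem_singleton_iff] at hz
      subst hz
      have h7 := h2
      have h8 : y * z = z * y := by
        nth_rewrite 1 [h7]
        group
      exact h8.symm
  · rintro ⟨hH1, hH2, hH3, hH4⟩ x hx hx1 c hc
    by_contra hcN
    obtain ⟨m, hm, h, hh, rfl⟩ := hdec c
    have hhN : h ∉ N := by
      intro hhN
      exact hcN (N.mul_mem (hMN hm) hhN)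
    have key : ∀ a ∈ M, a * h = h * a → a = 1 := by
      intro a ha hcomm
      by_contra ha1
      have haH : a ∉ H := fun h1 => ha1 (hHMeq a h1 ha)
      refine hhN (hH4 a haH ⟨hh, ⟨h, hh, ?_⟩⟩)
      show a * h * a⁻¹ = h
      rw [hcomm]; group
    let φ : M → M := fun a => ⟨a * (h * (a : G)⁻¹ * h⁻¹), M.mul_mem a.2
      ((‹M.Normal›).conj_mem _ (M.inv_mem a.2) h)⟩
    have hφ : Function.Injective φ := by
      intro a b hab
      have h1 : (a : G) * (h * (a : G)⁻¹ * h⁻¹) = (b : G) * (h * (b : G)⁻¹ * h⁻¹) :=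
        congrArg Subtype.val hab
      have h2 : (a : G) * h * (a : G)⁻¹ = (b : G) * h * (b : G)⁻¹ := by
        have := congrArg (fun w => w * h) h1
        simpa [mul_assoc] using this
      have h3 : ((b : G)⁻¹ * a) * h = h * ((b : G)⁻¹ * a) := by
        have := congrArg (fun w => (b : G)⁻¹ * w * a) h2
        simpa [mul_assoc] using this
      have h4 := key _ (M.mul_mem (M.inv_mem b.2) a.2) h3
      apply Subtype.ext
      have h5 : (a : G) = b := by
        have := inv_mul_eq_one.1 h4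
        exact this.symm
      exact h5
    have hφs := Finite.injective_iff_surjective.1 hφ
    obtain ⟨a, ha⟩ := hφs ⟨m, hm⟩
    have ha' : (a : G) * (h * (a : G)⁻¹ * h⁻¹) = m := congrArg Subtype.val ha
    have hmh : m * h = a * h * (a : G)⁻¹ := by
      rw [← ha']; group
    rw [hmh] at hc hcN
    have h1 : (a : G)⁻¹ * x * a ∈ M := by
      have := (‹M.Normal›).conj_mem x hx (a : G)⁻¹
      simpa using this
    have h2 : ((a : G)⁻¹ * x * a) * h = h * ((a : G)⁻¹ * x * a) := by
      have h3 := Subgroup.mem_centralizer_iff.1 hc x (Set.mem_singleton x)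
      calc ((a : G)⁻¹ * x * a) * h = (a : G)⁻¹ * (x * ((a : G) * h * (a : G)⁻¹)) * a := by group
        _ = (a : G)⁻¹ * (((a : G) * h * (a : G)⁻¹) * x) * a := by rw [h3]
        _ = _ := by group
    have h3 := key _ h1 h2
    apply hx1
    have := congrArg (fun w => (a : G) * w * (a : G)⁻¹) h3
    simpa [mul_assoc] using this

end Cfsg.Agent.S4113
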