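import Cfsg.Statements.S4365
import Cfsg.Agent.Lib.FGS.NormOp
import Cfsg.Agent.Lib.Solv.PGroup

set_option autoImplicit false
open Cfsg
open scoped commutatorElement
open scoped Pointwise

namespace Cfsg.Agent.S4365

theorem h8_conj_pow {P : Type*} [Group P] (g y c : P) (hc : ∀ u : P, c * u = u * c)
    (h : g * y * g⁻¹ = c * y) (n : ℕ) :
    g * y ^ n * g⁻¹ = c ^ n * y ^ n ∧ g ^ n * y * (g ^ n)⁻¹ = c ^ n * y := by
  have hcn : ∀ (m : ℕ) (u : P), c ^ m * u = u * c ^ m := by
    intro m u
    have : Commute c u := hc u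
    exact (this.pow_left m)
  induction n with
  | zero => simp
  | succ n ih =>
    obtain ⟨h1, h2⟩ := ih
    constructor
    · calc g * y ^ (n + 1) * g⁻¹ = (g * y ^ n * g⁻¹) * (g * y * g⁻¹) := by rw [pow_succ]; group
        _ = (c ^ n * y ^ n) * (c * y) := by rw [h1, h]
        _ = c ^ n * (y ^ n * c) * y := by group
        _ = c ^ n * (c * y ^ n) * y := by rw [hc]
        _ = c ^ (n + 1) * y ^ (n + 1) := by rw [pow_succ, pow_succ]; group
    · calc g ^ (n + 1) * y * (g ^ (n + 1))⁻¹ = g * (g ^ n * y * (g ^ n)⁻¹) * g⁻¹ := by rw [pow_succ']; group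
        _ = g * (c ^ n * y) * g⁻¹ := by rw [h2]
        _ = (g * c ^ n) * y * g⁻¹ := by group
        _ = c ^ n * (g * y * g⁻¹) := by rw [← hcn]; group
        _ = c ^ n * (c * y) := by rw [h]
        _ = c ^ (n + 1) * y := by rw [pow_succ]; group

set_option maxHeartbeats 4000000

/-- Let P be a finite p-group whose conjugacy class sizes are exactly 1 and pᵃ for some a ≥ 1. Then every element of P has its p-th power in the center of P (P/Z(P) has exponent p). -/
theorem result {P : Type*} [Group P] [Finite P] (p : ℕ) [Fact p.Prime]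
    (hP : IsPGroup p P) (a : ℕ) (ha : 1 ≤ a)
    (hcs : {k : ℕ | ∃ x : P, (Subgroup.centralizer ({x} : Set P)).index = k} = {1, p ^ a}) (x : P) :
    x ^ p ∈ Subgroup.center P := by
  classical
  have hpp : p.Prime := Fact.out
  have hsz : ∀ g : P, (Subgroup.centralizer ({g} : Set P)).index = 1 ∨ (Subgroup.centralizer ({g} : Set P)).index = p ^ a := by
    intro g
    have h1 : (Subgroup.centralizer ({g} : Set P)).index ∈ ({1, p ^ a} : Set ℕ) := by
      rw [← hcs]
      exact ⟨g, rfl⟩
    simpa using h1
  have hmemc : ∀ g u : P, u ∈ Subgroup.centralizer ({g} : Set P) ↔ u * g = g * u := fun g u =>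
    Subgroup.mem_centralizer_singleton_iff
  have hpa1 : p ^ a ≠ 1 := by
    have := Nat.one_lt_pow (by omega : a ≠ 0) hpp.one_lt
    omega
  have hZi : ∀ g : P, g ∉ Subgroup.center P → (Subgroup.centralizer ({g} : Set P)).index = p ^ a := by
    intro g hg
    rcases hsz g with h | h
    · exfalso
      apply hg
      rw [Subgroup.index_eq_one] at h
      rw [Subgroup.mem_center_iff]
      intro u
      have : u ∈ Subgroup.centralizer ({g} : Set P) := by rw [h]; trivial
      exact (hmemc g u).1 this
    · exact h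
  by_contra hx
  have hxZ : x ∉ Subgroup.center P := fun h => hx (Subgroup.pow_mem _ h p)
  -- equality of centralizers from equal indices
  have heqC : ∀ {A B : Subgroup P}, A ≤ B → A.index = B.index → A = B := by
    intro A B hAB hi
    apply Subgroup.eq_of_le_of_card_ge hAB
    have h1 := Subgroup.card_mul_index A
    have h2 := Subgroup.card_mul_index B
    rw [hi, ← h2] at h1
    have hpos : 0 < B.index := Nat.pos_of_ne_zero Subgroup.index_ne_zero_of_finite
    exact (Nat.eq_of_mul_eq_mul_right hpos h1).ge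
  obtain ⟨hcommΦ, hpowΦ⟩ := CfsgLib.Solv.pgroup_commutator_pow_le_frattini hP
  have hcommel : ∀ g k : P, g * k * g⁻¹ * k⁻¹ ∈ commutator P := by
    intro g k
    have := Subgroup.commutator_mem_commutator (Subgroup.mem_top g) (Subgroup.mem_top k)
    rw [commutatorElement_def] at this
    rw [_root_.commutator_def]
    exact this
  rcases (by omega : a = 1 ∨ 2 ≤ a) with rfl | ha2
  · -- class sizes `p`
    have hcoat : ∀ M : Subgroup P, M.index = p → IsCoatom M := by
      intro M hM
      refine ⟨?_, ?_⟩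
      · rintro rfl
        rw [Subgroup.index_top] at hM
        exact hpp.one_lt.ne hM
      · intro L hL
        have h1 := Subgroup.relIndex_mul_index hL.le
        rw [hM] at h1
        have h2 : M.relIndex L ≠ 1 := by
          intro h
          exact (not_le_of_gt hL) (Subgroup.relIndex_eq_one.1 h)
        have h3 : L.index ∣ p := Dvd.intro_left _ h1
        rcases (Nat.dvd_prime hpp).1 h3 with h4 | h4
        · exact Subgroup.index_eq_one.1 h4
        · exfalso
          rw [h4] at h1
          have : M.relIndex L = 1 := by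
            have hp0 := hpp.pos
            nlinarith
          exact h2 this
    have hfr : ∀ h : P, frattini P ≤ Subgroup.centralizer ({h} : Set P) := by
      intro h
      rcases hsz h with h1 | h1
      · rw [Subgroup.index_eq_one] at h1
        rw [h1]; exact le_top
      · rw [pow_one] at h1
        exact frattini_le_coatom (hcoat _ h1)
    apply hx
    rw [Subgroup.mem_center_iff]
    intro g
    obtain ⟨c, hc⟩ : ∃ c, c = g * x * g⁻¹ * x⁻¹ := ⟨_, rfl⟩
    have hcC : ∀ u : P, c * u = u * c := by
      intro u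
      have h1 : c ∈ Subgroup.centralizer ({u} : Set P) := by
        apply hfr
        apply hcommΦ
        rw [hc]
        exact hcommel g x
      exact (hmemc u c).1 h1
    have hgx : g * x * g⁻¹ = c * x := by rw [hc]; group
    obtain ⟨h1, h2⟩ := h8_conj_pow g x c hcC hgx p
    have h3 : g ^ p * x = x * g ^ p := (hmemc x _).1 (hfr x (hpowΦ g))
    have h4 : c ^ p = 1 := by
      have h5 : g ^ p * x * (g ^ p)⁻¹ = x := by rw [h3]; group
      rw [h5] at h2
      exact (mul_eq_right.1 h2.symm)
    rw [h4, one_mul] at h1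
    exact mul_inv_eq_iff_eq_mul.1 h1
  · -- at least `p^2`
    haveI : Nontrivial (P ⧸ Subgroup.center P) := by
      refine ⟨⟨(x : P ⧸ Subgroup.center P), 1, fun h => hxZ ((QuotientGroup.eq_one_iff x).1 h)⟩⟩
    have hQp : IsPGroup p (P ⧸ Subgroup.center P) := hP.to_quotient _
    haveI : Nontrivial (Subgroup.center (P ⧸ Subgroup.center P)) := hQp.center_nontrivial
    have hcard : p ∣ Nat.card (Subgroup.center (P ⧸ Subgroup.center P)) := by
      obtain ⟨k, hk⟩ := (IsPGroup.iff_card).1 (hQp.to_subgroup (Subgroup.center (P ⧸ Subgroup.center P)))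
      have h1 : 1 < Nat.card (Subgroup.center (P ⧸ Subgroup.center P)) := Finite.one_lt_card
      rw [hk] at h1 ⊢
      refine dvd_pow_self p ?_
      rintro rfl
      simp at h1
    obtain ⟨cb, hcb⟩ := exists_prime_orderOf_dvd_card' p hcard
    obtain ⟨y, hy⟩ := QuotientGroup.mk_surjective (cb : P ⧸ Subgroup.center P)
    have hcbo : orderOf (cb : P ⧸ Subgroup.center P) = p := by
      rw [← Subgroup.orderOf_coe] at hcb
      exact hcb
    have hyZ : y ∉ Subgroup.center P := by
      intro h
      have h1 : (y : P ⧸ Subgroup.center P) = 1 := (QuotientGroup.eq_one_iff y).2 h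
      have h2 : orderOf (cb : P ⧸ Subgroup.center P) = 1 := by
        rw [← hy, h1, orderOf_one]
      rw [hcbo] at h2
      exact hpp.one_lt.ne' h2
    have hypZ : y ^ p ∈ Subgroup.center P := by
      apply (QuotientGroup.eq_one_iff _).1
      rw [QuotientGroup.mk_pow, hy, ← hcbo]
      exact pow_orderOf_eq_one _
    have hcomZ : ∀ g : P, g * y * g⁻¹ * y⁻¹ ∈ Subgroup.center P := by
      intro g
      apply (QuotientGroup.eq_one_iff _).1
      have h1 : (g : P ⧸ Subgroup.center P) * (y : P ⧸ Subgroup.center P) = (y : P ⧸ Subgroup.center P) * (g : P ⧸ Subgroup.center P) := by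
        rw [hy]
        exact (Subgroup.mem_center_iff.1 cb.2 _)
      rw [QuotientGroup.mk_mul, QuotientGroup.mk_mul, QuotientGroup.mk_mul, h1, QuotientGroup.mk_inv, QuotientGroup.mk_inv]
      group
    have hcen : ∀ z ∈ Subgroup.center P, ∀ u : P, z * u = u * z :=
      fun z hz u => (Subgroup.mem_center_iff.1 hz u).symm
    have hconj : ∀ g : P, ∃ c : P, (∀ u : P, c * u = u * c) ∧ g * y * g⁻¹ = c * y := by
      intro g
      exact ⟨g * y * g⁻¹ * y⁻¹, hcen _ (hcomZ g), by group⟩
    obtain ⟨T, hT⟩ : ∃ T : Subgroup P, T = Subgroup.centralizer ({y} : Set P) := ⟨_, rfl⟩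
    have hTmem : ∀ g : P, g ∈ T ↔ g * y = y * g := by
      intro g; rw [hT]; exact hmemc y g
    have hTi : T.index = p ^ a := by rw [hT]; exact hZi y hyZ
    have hTpow : ∀ g : P, g ^ p ∈ T := by
      intro g
      obtain ⟨c, hc, hgy⟩ := hconj g
      obtain ⟨h1, h2⟩ := h8_conj_pow g y c hc hgy p
      have h3 : g * y ^ p * g⁻¹ = y ^ p := by
        rw [← hcen _ hypZ g]; group
      rw [h3] at h1
      have h4 : c ^ p = 1 := (mul_eq_right.1 h1.symm)
      rw [h4, one_mul] at h2
      exact (hTmem _).2 (mul_inv_eq_iff_eq_mul.1 h2)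
    have hZT : Subgroup.center P ≤ T := by
      intro z hz
      exact (hTmem z).2 (hcen z hz y)
    have hout : ∀ g : P, g ∉ T → g ^ p ∈ Subgroup.center P := by
      intro g hg
      by_contra hgp
      apply hg
      have hg0 : g ∉ Subgroup.center P := fun h => hgp (Subgroup.pow_mem _ h p)
      have hle : Subgroup.centralizer ({g} : Set P) ≤ Subgroup.centralizer ({g ^ p} : Set P) := by
        intro u hu
        rw [hmemc] at hu ⊢
        have hC : Commute u g := hu
        exact hC.pow_right p
      have heq := heqC hle (by rw [hZi g hg0, hZi _ hgp])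
      have h1 : y ∈ Subgroup.centralizer ({g ^ p} : Set P) := by
        rw [hmemc]
        exact ((hTmem _).1 (hTpow g)).symm
      rw [← heq, hmemc] at h1
      exact (hTmem g).2 h1.symm
    have hxT : x ∈ T := by
      by_contra h
      exact hx (hout x h)
    have hCxT : Subgroup.centralizer ({x} : Set P) ≤ T := by
      intro w hw
      by_contra hwT
      have hwx : w * x ∉ T := by
        intro h
        apply hwT
        have h2 : w = (w * x) * x⁻¹ := by group
        rw [h2]
        exact T.mul_mem h (T.inv_mem hxT)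
      have h1 := hout w hwT
      have h2 := hout _ hwx
      have hC : Commute w x := (hmemc x w).1 hw
      rw [hC.mul_pow] at h2
      apply hx
      have h3 : x ^ p = (w ^ p)⁻¹ * (w ^ p * x ^ p) := by group
      rw [h3]
      exact Subgroup.mul_mem _ (Subgroup.inv_mem _ h1) h2
    have hTeq : Subgroup.centralizer ({x} : Set P) = T := heqC hCxT (by rw [hZi x hxZ, hTi])
    haveI hTn : T.Normal := by
      constructor
      intro g hg h
      rw [hTmem]
      obtain ⟨c, hc, hgy⟩ := hconj h⁻¹
      have hgy' : h⁻¹ * y * h = c * y := by simpa using hgy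
      have h1 : g * (c * y) * g⁻¹ = c * y := by
        have h2 := (hTmem g).1 hg
        calc g * (c * y) * g⁻¹ = (g * c) * y * g⁻¹ := by group
          _ = c * (g * y) * g⁻¹ := by rw [← hc g]; group
          _ = c * (y * g) * g⁻¹ := by rw [h2]
          _ = _ := by group
      have h3 : (h * g * h⁻¹) * y * (h * g * h⁻¹)⁻¹ = y := by
        calc (h * g * h⁻¹) * y * (h * g * h⁻¹)⁻¹ = h * (g * (h⁻¹ * y * h) * g⁻¹) * h⁻¹ := by group
          _ = h * (g * (c * y) * g⁻¹) * h⁻¹ := by rw [hgy']
          _ = h * (c * y) * h⁻¹ := by rw [h1]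
          _ = h * (h⁻¹ * y * h) * h⁻¹ := by rw [hgy']
          _ = y := by group
      exact mul_inv_eq_iff_eq_mul.1 h3
    obtain ⟨U, hU⟩ : ∃ U : Subgroup P, ∀ u, u ∈ U ↔ u ∈ T ∧ ∀ t ∈ T, t * u = u * t :=
      ⟨{ carrier := {u | u ∈ T ∧ ∀ t ∈ T, t * u = u * t}
         mul_mem' := by
          rintro a b ⟨ha, ha'⟩ ⟨hb, hb'⟩
          refine ⟨T.mul_mem ha hb, fun t ht => ?_⟩
          calc t * (a * b) = (t * a) * b := by group
            _ = a * (t * b) := by rw [ha' t ht]; group
            _ = a * (b * t) := by rw [hb' t ht]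
            _ = _ := by group
         one_mem' := ⟨T.one_mem, fun t _ => by group⟩
         inv_mem' := by
          rintro a ⟨ha, ha'⟩
          refine ⟨T.inv_mem ha, fun t ht => ?_⟩
          have h1 := ha' t ht
          have hC : Commute t a := h1
          exact hC.inv_right }, fun _ => Iff.rfl⟩
    haveI hUn : U.Normal := by
      constructor
      intro u hu g
      obtain ⟨h1, h2⟩ := (hU u).1 hu
      refine (hU _).2 ⟨hTn.conj_mem u h1 g, fun t ht => ?_⟩
      have h3 : g⁻¹ * t * g ∈ T := by
        have := hTn.conj_mem t ht g⁻¹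
        simpa using this
      have h4 := h2 _ h3
      calc t * (g * u * g⁻¹) = g * ((g⁻¹ * t * g) * u) * g⁻¹ := by group
        _ = g * (u * (g⁻¹ * t * g)) * g⁻¹ := by rw [h4]
        _ = _ := by group
    have hxU : x ∈ U := by
      refine (hU x).2 ⟨hxT, fun t ht => ?_⟩
      rw [← hTeq] at ht
      exact (hmemc x t).1 ht
    have hUc : ∀ u ∈ U, ∀ v ∈ U, u * v = v * u := by
      intro u hu v hv
      exact ((hU u).1 hu).2 v ((hU v).1 hv).1 |>.symm
    have htriv : ∀ t ∈ T, ∀ u ∈ U, t * u * t⁻¹ = u := by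
      intro t ht u hu
      rw [((hU u).1 hu).2 t ht]
      group
    have hfix : ∀ u ∈ U, u ∉ Subgroup.center P → ∀ g : P, g * u * g⁻¹ = u → g ∈ T := by
      intro u hu huZ g hg
      have hle : T ≤ Subgroup.centralizer ({u} : Set P) := by
        intro t ht
        rw [hmemc]
        exact ((hU u).1 hu).2 t ht
      have heq := heqC hle (by rw [hTi, hZi u huZ])
      rw [heq, hmemc]
      exact mul_inv_eq_iff_eq_mul.1 hg
    have hab : ∀ g h : P, (h * g)⁻¹ * (g * h) ∈ T := by
      intro g h
      obtain ⟨c, hc, hgy⟩ := hconj g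
      obtain ⟨d, hd, hhy⟩ := hconj h
      have h1 : (g * h) * y * (g * h)⁻¹ = d * c * y := by
        calc (g * h) * y * (g * h)⁻¹ = g * (h * y * h⁻¹) * g⁻¹ := by group
          _ = g * (d * y) * g⁻¹ := by rw [hhy]
          _ = (g * d) * y * g⁻¹ := by group
          _ = d * (g * y * g⁻¹) := by rw [← hd g]; group
          _ = d * (c * y) := by rw [hgy]
          _ = _ := by group
      have h2 : (h * g) * y * (h * g)⁻¹ = c * d * y := by
        calc (h * g) * y * (h * g)⁻¹ = h * (g * y * g⁻¹) * h⁻¹ := by group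
          _ = h * (c * y) * h⁻¹ := by rw [hgy]
          _ = (h * c) * y * h⁻¹ := by group
          _ = c * (h * y * h⁻¹) := by rw [← hc h]; group
          _ = c * (d * y) := by rw [hhy]
          _ = _ := by group
      have h3 : d * c = c * d := hd c
      rw [hTmem]
      have h4 : (g * h) * y * (g * h)⁻¹ = (h * g) * y * (h * g)⁻¹ := by rw [h1, h2, h3]
      apply mul_inv_eq_iff_eq_mul.1
      calc (h * g)⁻¹ * (g * h) * y * ((h * g)⁻¹ * (g * h))⁻¹ = (h * g)⁻¹ * ((g * h) * y * (g * h)⁻¹) * (h * g) := by group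
        _ = (h * g)⁻¹ * ((h * g) * y * (h * g)⁻¹) * (h * g) := by rw [h4]
        _ = y := by group
    -- two independent elements
    have hTtop : T ≠ ⊤ := by
      rintro rfl
      rw [Subgroup.index_top] at hTi
      exact hpa1 hTi.symm
    obtain ⟨a', -, ha'⟩ := SetLike.exists_of_lt (lt_top_iff_ne_top.2 hTtop)
    have hQa : ((a' : P ⧸ T)) ^ p = 1 := by
      rw [← QuotientGroup.mk_pow]
      exact (QuotientGroup.eq_one_iff _).2 (hTpow a')
    have hQ1 : (a' : P ⧸ T) ≠ 1 := fun h => ha' ((QuotientGroup.eq_one_iff _).1 h)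
    have hQo : orderOf (a' : P ⧸ T) = p := orderOf_eq_prime hQa hQ1
    have hQcard : Nat.card (P ⧸ T) = p ^ a := hTi
    have hne : Subgroup.zpowers (a' : P ⧸ T) ≠ ⊤ := by
      intro h
      have h1 : Nat.card (Subgroup.zpowers (a' : P ⧸ T)) = Nat.card (P ⧸ T) := by
        rw [h]; exact Subgroup.card_top
      rw [Nat.card_zpowers, hQo, hQcard] at h1
      have h2 : p ^ 1 = p ^ a := by rw [pow_one]; exact h1
      have h3 := Nat.pow_right_injective hpp.two_le h2
      omega
    obtain ⟨q, -, hq⟩ := SetLike.exists_of_lt (lt_top_iff_ne_top.2 hne)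
    obtain ⟨b', rfl⟩ := QuotientGroup.mk_surjective q
    have hb'T : b' ∉ T := by
      intro h
      apply hq
      rw [(QuotientGroup.eq_one_iff b').2 h]
      exact Subgroup.one_mem _
    have hnot : ∀ j < p, a' * b' ^ j ∉ T := by
      intro j hj hmem
      rcases Nat.eq_zero_or_pos j with rfl | hj0
      · rw [pow_zero, mul_one] at hmem
        exact ha' hmem
      · apply hq
        have h1 : (a' : P ⧸ T) * (b' : P ⧸ T) ^ j = 1 := by
          rw [← QuotientGroup.mk_pow, ← QuotientGroup.mk_mul]
          exact (QuotientGroup.eq_one_iff _).2 hmem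
        have h2 : (b' : P ⧸ T) ^ j = (a' : P ⧸ T)⁻¹ := eq_inv_of_mul_eq_one_right h1
        have hb2 : (b' : P ⧸ T) ^ p = 1 := by
          rw [← QuotientGroup.mk_pow]
          exact (QuotientGroup.eq_one_iff _).2 (hTpow b')
        have hdvd : ¬ (p : ℤ) ∣ (j : ℤ) := by
          intro hd
          have := Int.natCast_dvd_natCast.1 hd
          exact Nat.not_dvd_of_pos_of_lt hj0 hj this
        have hcop : IsCoprime (j : ℤ) (p : ℤ) := ((Nat.prime_iff_prime_int.1 hpp).coprime_iff_not_dvd.2 hdvd).symm
        obtain ⟨u, v, huv⟩ := hcop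
        have h3 : (b' : P ⧸ T) ^ (u * (j : ℤ) + v * (p : ℤ)) = (b' : P ⧸ T) := by rw [huv, zpow_one]
        rw [zpow_add, mul_comm v, zpow_mul (b' : P ⧸ T) (p : ℤ) v, zpow_natCast, hb2, one_zpow, mul_one, mul_comm u,
          zpow_mul, zpow_natCast, h2] at h3
        rw [← h3]
        exact Subgroup.zpow_mem _ (Subgroup.inv_mem _ (Subgroup.mem_zpowers _)) u
    apply hx
    exact CfsgLib.FGS.NormOp.pth_power p hpp U (Subgroup.center P) T hUc htriv hfix (fun g _ => hTpow g)
      a' b' (hab a' b') hb'T hnot x hxU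

end Cfsg.Agent.S4365
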