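import Cfsg.Statements.S4134
import Cfsg.Agent.Lib.FGS.Basic
import Cfsg.Agent.S4365

set_option autoImplicit false
open Cfsg
open scoped commutatorElement
open scoped Pointwise

namespace Cfsg.Agent.S4134

theorem h8_primary {G : Type*} [Group G] [Finite G] (C : Subgroup G) :
    ∀ (n : ℕ) (g : G), orderOf g = n → g ∉ C → ∃ l k m : ℕ, l.Prime ∧ (g ^ m) ^ (l ^ k) = 1 ∧ g ^ m ∉ C := by
  intro n
  induction n using Nat.strong_induction_on with
  | _ n ih =>
    intro g hg hgC
    have hg1 : n ≠ 1 := by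
      rintro rfl
      apply hgC
      rw [orderOf_eq_one_iff.1 hg]
      exact C.one_mem
    have hn0 : n ≠ 0 := by
      rw [← hg]; exact (orderOf_pos g).ne'
    obtain ⟨l, hl, hld⟩ := Nat.exists_prime_and_dvd hg1
    obtain ⟨a, m, hm, hnm⟩ := Nat.exists_eq_pow_mul_and_not_dvd hn0 l hl.ne_one
    by_cases hu : g ^ m ∈ C
    · by_cases hv : g ^ (l ^ a) ∈ C
      · exfalso
        apply hgC
        have hcop : Nat.Coprime (l ^ a) m := Nat.Coprime.pow_left a ((Nat.Prime.coprime_iff_not_dvd hl).2 hm)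
        have h1 := Nat.gcd_eq_gcd_ab (l ^ a) m
        rw [hcop] at h1
        have h2 : g = (g ^ (l ^ a)) ^ (Nat.gcdA (l ^ a) m) * (g ^ m) ^ (Nat.gcdB (l ^ a) m) := by
          rw [← zpow_natCast, ← zpow_natCast, ← zpow_mul, ← zpow_mul, ← zpow_add]
          rw [← h1]
          simp
        rw [h2]
        exact C.mul_mem (C.zpow_mem hv _) (C.zpow_mem hu _)
      · have hlt : orderOf (g ^ (l ^ a)) < n := by
          have hpos : 0 < l ^ a := pow_pos hl.pos a
          have h3 : orderOf (g ^ (l ^ a)) = orderOf g / Nat.gcd (orderOf g) (l ^ a) := orderOf_pow' g hpos.ne'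
          rw [h3, hg]
          have h4 : Nat.gcd n (l ^ a) = l ^ a := Nat.gcd_eq_right (hnm ▸ Dvd.intro _ rfl)
          rw [h4, hnm, Nat.mul_div_cancel_left _ hpos]
          have ha : a ≠ 0 := by
            rintro rfl
            apply hm
            rw [hnm] at hld
            simpa using hld
          have hm0 : 0 < m := by
            rcases Nat.eq_zero_or_pos m with h | h
            · rw [h] at hm
              exact absurd (dvd_zero l) hm
            · exact h
          have h5 : 1 < l ^ a := Nat.one_lt_pow ha hl.one_lt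
          nlinarith
        obtain ⟨l', k', m', hl', h1, h2⟩ := ih _ hlt (g ^ (l ^ a)) rfl hv
        refine ⟨l', k', l ^ a * m', hl', ?_, ?_⟩
        · rw [pow_mul]; exact h1
        · rw [pow_mul]; exact h2
    · refine ⟨l, a, m, hl, ?_, hu⟩
      rw [← pow_mul, mul_comm, ← hnm, ← hg, pow_orderOf_eq_one]


section basics
variable {G : Type*} [Group G] [Finite G] {n : ℕ}

abbrev h8C (x : G) : Subgroup G := Subgroup.centralizer ({x} : Set G)

theorem h8_mem_C {x y : G} : y ∈ h8C x ↔ y * x = x * y := Subgroup.mem_centralizer_singleton_iff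

theorem h8_center_le (x : G) : Subgroup.center G ≤ h8C x := by
  intro y hy
  exact h8_mem_C.2 ((Subgroup.mem_center_iff.1 hy x).symm)

theorem h8_self_mem (x : G) : x ∈ h8C x := h8_mem_C.2 rfl

theorem h8_idx (h : ∀ x : G, (h8C x).index = 1 ∨ (h8C x).index = n) {x : G}
    (hx : x ∉ Subgroup.center G) : (h8C x).index = n := by
  rcases h x with h1 | h1
  · exfalso
    apply hx
    rw [Subgroup.index_eq_one] at h1
    rw [Subgroup.mem_center_iff]
    intro u
    have : u ∈ h8C x := by rw [h1]; trivial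
    exact h8_mem_C.1 this
  · exact h1

theorem h8_eq_of_le {A B : Subgroup G} (hAB : A ≤ B) (hi : A.index = B.index) : A = B := by
  apply Subgroup.eq_of_le_of_card_ge hAB
  have h1 := Subgroup.card_mul_index A
  have h2 := Subgroup.card_mul_index B
  rw [hi, ← h2] at h1
  have hpos : 0 < B.index := Nat.pos_of_ne_zero Subgroup.index_ne_zero_of_finite
  exact (Nat.eq_of_mul_eq_mul_right hpos h1).ge

theorem h8_C_eq (h : ∀ x : G, (h8C x).index = 1 ∨ (h8C x).index = n) {x y : G}
    (hx : x ∉ Subgroup.center G) (hy : y ∉ Subgroup.center G) (hle : h8C x ≤ h8C y) :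
    h8C x = h8C y :=
  h8_eq_of_le hle (by rw [h8_idx h hx, h8_idx h hy])

theorem h8_C_mono {x y : G} (hy : y ∈ Subgroup.zpowers x) : h8C x ≤ h8C y := by
  intro u hu
  obtain ⟨i, rfl⟩ := hy
  have h1 : Commute u x := h8_mem_C.1 hu
  exact h8_mem_C.2 (h1.zpow_right i)

theorem h8_mem_zpowers_mul (x y : G) (hc : Commute x y)
    (hco : Nat.Coprime (orderOf x) (orderOf y)) : x ∈ Subgroup.zpowers (x * y) := by
  obtain ⟨u, v, huv⟩ := Nat.isCoprime_iff_coprime.2 hco
  refine ⟨v * orderOf y, ?_⟩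
  show (x * y) ^ (v * (orderOf y : ℤ)) = x
  rw [hc.mul_zpow]
  have h1 : y ^ (v * (orderOf y : ℤ)) = 1 := by
    rw [mul_comm, zpow_mul, zpow_natCast, pow_orderOf_eq_one, one_zpow]
  have h2 : x ^ (u * (orderOf x : ℤ)) = 1 := by
    rw [mul_comm, zpow_mul, zpow_natCast, pow_orderOf_eq_one, one_zpow]
  rw [h1, mul_one]
  calc x ^ (v * (orderOf y : ℤ)) = x ^ (u * (orderOf x : ℤ)) * x ^ (v * (orderOf y : ℤ)) := by
        rw [h2, one_mul]
    _ = x ^ (u * (orderOf x : ℤ) + v * (orderOf y : ℤ)) := (zpow_add _ _ _).symm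
    _ = x := by rw [huv, zpow_one]

theorem h8_C_coprime (h : ∀ x : G, (h8C x).index = 1 ∨ (h8C x).index = n) {x y : G}
    (hx : x ∉ Subgroup.center G) (hy : y ∉ Subgroup.center G) (hc : Commute x y)
    (hco : Nat.Coprime (orderOf x) (orderOf y)) : h8C x = h8C y := by
  have h1 : x ∈ Subgroup.zpowers (x * y) := h8_mem_zpowers_mul x y hc hco
  have h2 : y ∈ Subgroup.zpowers (x * y) := by
    rw [hc.eq]
    exact h8_mem_zpowers_mul y x hc.symm hco.symm
  have hw : x * y ∉ Subgroup.center G := by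
    intro hw
    apply hx
    exact (Subgroup.zpowers_le.2 hw) h1
  rw [← h8_C_eq h hw hx (h8_C_mono h1), h8_C_eq h hw hy (h8_C_mono h2)]

theorem h8_coprime_primary {u v : G} {r q a b : ℕ} (hr : r.Prime) (hq : q.Prime) (hrq : r ≠ q)
    (hu : u ^ (r ^ a) = 1) (hv : v ^ (q ^ b) = 1) : Nat.Coprime (orderOf u) (orderOf v) := by
  have h1 : orderOf u ∣ r ^ a := orderOf_dvd_of_pow_eq_one hu
  have h2 : orderOf v ∣ q ^ b := orderOf_dvd_of_pow_eq_one hv
  exact Nat.Coprime.coprime_dvd_left h1 (Nat.Coprime.coprime_dvd_right h2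
    (Nat.coprime_pow_primes a b hr hq hrq))

theorem h8_card_C (h : ∀ x : G, (h8C x).index = 1 ∨ (h8C x).index = n) {x y : G}
    (hx : x ∉ Subgroup.center G) (hy : y ∉ Subgroup.center G) :
    Nat.card (h8C x) = Nat.card (h8C y) := by
  have h1 := Subgroup.card_mul_index (h8C x)
  have h2 := Subgroup.card_mul_index (h8C y)
  rw [h8_idx h hx] at h1
  rw [h8_idx h hy, ← h1] at h2
  have hn : 0 < n := by
    rw [← h8_idx h hx]
    exact Nat.pos_of_ne_zero Subgroup.index_ne_zero_of_finite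
  exact (Nat.eq_of_mul_eq_mul_right hn h2).symm

/-- A noncentral `r`-element in every centralizer. -/
theorem h8_L3 (h : ∀ x : G, (h8C x).index = 1 ∨ (h8C x).index = n) {r : ℕ} (hr : r.Prime) {w : G}
    (hw : w ∉ Subgroup.center G) (hwr : ∃ k, w ^ (r ^ k) = 1) {x : G}
    (hx : x ∉ Subgroup.center G) :
    ∃ u ∈ h8C x, u ∉ Subgroup.center G ∧ ∃ k, u ^ (r ^ k) = 1 := by
  classical
  haveI : Fact r.Prime := ⟨hr⟩
  obtain ⟨v, hv⟩ : ∃ v, v = (Nat.card (Subgroup.center G)).factorization r := ⟨_, rfl⟩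
  have hv1 : r ^ v ∣ Nat.card (Subgroup.center G) := by rw [hv]; exact Nat.ordProj_dvd _ _
  have hv2 : ¬ r ^ (v + 1) ∣ Nat.card (Subgroup.center G) := by
    rw [hv]; exact Nat.pow_succ_factorization_not_dvd Nat.card_pos.ne' hr
  obtain ⟨Y', hY'⟩ := Sylow.exists_subgroup_card_pow_prime r hv1
  obtain ⟨Y, hYdef⟩ : ∃ Y : Subgroup G, Y = Y'.map (Subgroup.center G).subtype := ⟨_, rfl⟩
  have hYc : Nat.card Y = r ^ v := by
    rw [hYdef, Subgroup.card_map_of_injective (Subgroup.subtype_injective _), hY']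
  have hYZ : Y ≤ Subgroup.center G := by
    rw [hYdef]
    rintro _ ⟨a, _, rfl⟩
    exact a.2
  have hYn : Y.Normal := by
    constructor
    intro a ha g
    have := Subgroup.mem_center_iff.1 (hYZ ha) g
    rw [this]
    simpa using ha
  have hYp : IsPGroup r Y := IsPGroup.of_card hYc
  have hWp : IsPGroup r (Subgroup.zpowers w) := by
    obtain ⟨k, hk⟩ := hwr
    have h1 : Nat.card (Subgroup.zpowers w) ∣ r ^ k := by
      rw [Nat.card_zpowers]; exact orderOf_dvd_of_pow_eq_one hk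
    obtain ⟨e, _, he⟩ := (Nat.dvd_prime_pow hr).1 h1
    exact IsPGroup.of_card he
  have hLp : IsPGroup r (Y ⊔ Subgroup.zpowers w : Subgroup G) := hYp.to_sup_of_normal_left hWp
  obtain ⟨e, he⟩ := (IsPGroup.iff_card).1 hLp
  have hLC : (Y ⊔ Subgroup.zpowers w) ≤ h8C w := by
    apply sup_le (hYZ.trans (h8_center_le w))
    rw [Subgroup.zpowers_le]
    exact h8_self_mem w
  have hwL : w ∈ (Y ⊔ Subgroup.zpowers w) := (le_sup_right : Subgroup.zpowers w ≤ _) (Subgroup.mem_zpowers w)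
  have hev : v + 1 ≤ e := by
    have h1 : Nat.card Y ∣ Nat.card (Y ⊔ Subgroup.zpowers w : Subgroup G) :=
      Subgroup.card_dvd_of_le le_sup_left
    rw [hYc, he] at h1
    have h2 := (Nat.pow_dvd_pow_iff_le_right hr.one_lt).1 h1
    rcases Nat.lt_or_ge v e with h3 | h3
    · exact h3
    · exfalso
      have h4 : v = e := le_antisymm h2 h3
      have h5 : Y = Y ⊔ Subgroup.zpowers w := by
        apply Subgroup.eq_of_le_of_card_ge le_sup_left
        rw [he, hYc, h4]
      rw [← h5] at hwL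
      exact hw (hYZ hwL)
  have hd : r ^ (v + 1) ∣ Nat.card (h8C x) := by
    rw [h8_card_C h hx hw]
    refine (pow_dvd_pow r hev).trans ?_
    rw [← he]
    exact Subgroup.card_dvd_of_le hLC
  obtain ⟨R, hR⟩ := Sylow.exists_subgroup_card_pow_prime r hd
  by_contra hcon
  push Not at hcon
  have hRZ : ∀ u : h8C x, u ∈ R → (u : G) ∈ Subgroup.center G := by
    intro u hu
    by_contra hu2
    have h1 : (⟨u, hu⟩ : R) ^ Nat.card R = 1 := pow_card_eq_one'
    obtain ⟨k, hk⟩ : ∃ k, Nat.card R = r ^ k := ⟨_, hR⟩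
    rw [hk] at h1
    apply hcon (u : G) u.2 hu2 k
    have h2 := congrArg (fun a : R => ((a : h8C x) : G)) h1
    simpa using h2
  apply hv2
  have h1 : R.map (h8C x).subtype ≤ Subgroup.center G := by
    rintro _ ⟨a, ha, rfl⟩
    exact hRZ a ha
  have h2 := Subgroup.card_dvd_of_le h1
  rw [Subgroup.card_map_of_injective (Subgroup.subtype_injective _), hR] at h2
  exact h2


/-- Two primes with noncentral primary elements force abelian centralizers. -/
theorem h8_L4 (h : ∀ x : G, (h8C x).index = 1 ∨ (h8C x).index = n) {s t : ℕ} (hs : s.Prime)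
    (ht : t.Prime) (hst : s ≠ t) {ws wt : G} (hws : ws ∉ Subgroup.center G)
    (hwsp : ∃ k, ws ^ (s ^ k) = 1) (hwt : wt ∉ Subgroup.center G) (hwtp : ∃ k, wt ^ (t ^ k) = 1)
    {x : G} (hx : x ∉ Subgroup.center G) : ∀ a ∈ h8C x, ∀ b ∈ h8C x, a * b = b * a := by
  obtain ⟨q, k, m, hq, hx1, hxZ⟩ := h8_primary (Subgroup.center G) _ x rfl hx
  have hCx : h8C x = h8C (x ^ m) :=
    h8_C_eq h hx hxZ (h8_C_mono (Subgroup.npow_mem_zpowers x m))
  rw [hCx]
  obtain ⟨x', hx'⟩ : ∃ x', x' = x ^ m := ⟨_, rfl⟩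
  rw [← hx'] at hx1 hxZ ⊢
  obtain ⟨r, hr, hrq, w0, hw0, hw0p⟩ : ∃ r : ℕ, r.Prime ∧ r ≠ q ∧ ∃ w0 : G, w0 ∉ Subgroup.center G ∧ ∃ k, w0 ^ (r ^ k) = 1 := by
    by_cases hqs : q = s
    · exact ⟨t, ht, by rw [hqs]; exact hst.symm, wt, hwt, hwtp⟩
    · exact ⟨s, hs, fun h => hqs h.symm, ws, hws, hwsp⟩
  obtain ⟨w, hw, hwZ, c, hwc⟩ := h8_L3 h hr hw0 hw0p hxZ
  have hCw : h8C x' = h8C w := by
    apply h8_C_coprime h hxZ hwZ
    · exact (h8_mem_C.1 hw).symm
    · exact h8_coprime_primary hq hr hrq.symm hx1 hwc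
  have hprim : ∀ u ∈ h8C x', ∀ l k' : ℕ, l.Prime → u ^ (l ^ k') = 1 → u ∉ Subgroup.center G → h8C u = h8C x' := by
    intro u hu l k' hl hu1 huZ
    by_cases hlq : l = q
    · have hlr : l ≠ r := by rw [hlq]; exact hrq.symm
      have hu2 : u ∈ h8C w := by rw [← hCw]; exact hu
      rw [hCw]
      apply h8_C_coprime h huZ hwZ
      · exact h8_mem_C.1 hu2
      · exact h8_coprime_primary hl hr hlr hu1 hwc
    · apply h8_C_coprime h huZ hxZ
      · exact h8_mem_C.1 hu
      · exact h8_coprime_primary hl hq hlq hu1 hx1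
  intro a ha b hb
  by_contra hab
  have hb' : b ∉ Subgroup.centralizer ((h8C x') : Set G) := by
    intro hb2
    apply hab
    exact ((Subgroup.mem_centralizer_iff.1 hb2) a ha)
  obtain ⟨l, k', m', hl, h1, h2⟩ := h8_primary _ _ b rfl hb'
  have hbm : b ^ m' ∈ h8C x' := Subgroup.pow_mem _ hb m'
  apply h2
  by_cases hbZ : b ^ m' ∈ Subgroup.center G
  · rw [Subgroup.mem_centralizer_iff]
    intro c _
    exact (Subgroup.mem_center_iff.1 hbZ c)
  · have h3 := hprim _ hbm l k' hl h1 hbZ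
    rw [Subgroup.mem_centralizer_iff]
    intro c hc
    rw [← h3] at hc
    exact (h8_mem_C.1 hc)

theorem h8_L5 (h : ∀ x : G, (h8C x).index = 1 ∨ (h8C x).index = n)
    (hab : ∀ x : G, x ∉ Subgroup.center G → ∀ a ∈ h8C x, ∀ b ∈ h8C x, a * b = b * a)
    {x u : G} (hx : x ∉ Subgroup.center G) (hu : u ∈ h8C x) (huZ : u ∉ Subgroup.center G) :
    h8C u = h8C x := by
  refine (h8_C_eq h hx huZ ?_).symm
  intro a ha
  exact h8_mem_C.2 (hab x hx a ha u hu)

/-- Counting: `A ≤ B`, noncentral part. -/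
theorem h8_card_diff [Fintype G] [DecidableEq G] (A B : Subgroup G) (hAB : A ≤ B) [DecidablePred (· ∈ A)] [DecidablePred (· ∈ B)] :
    (Finset.univ.filter (fun u : G => u ∈ B ∧ u ∉ A)).card + Nat.card A = Nat.card B := by
  have h1 : Nat.card B = (Finset.univ.filter (fun u : G => u ∈ B)).card := by
    rw [Nat.card_eq_fintype_card, Fintype.card_subtype]
  have h2 : Nat.card A = (Finset.univ.filter (fun u : G => u ∈ A)).card := by
    rw [Nat.card_eq_fintype_card, Fintype.card_subtype]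
  rw [h1, h2, ← Finset.card_union_of_disjoint]
  · congr 1
    ext u
    simp only [Finset.mem_union, Finset.mem_filter, Finset.mem_univ, true_and]
    constructor
    · rintro (⟨h, _⟩ | h)
      · exact h
      · exact hAB h
    · intro h
      by_cases hu : u ∈ A
      · exact Or.inr hu
      · exact Or.inl ⟨h, hu⟩
  · rw [Finset.disjoint_left]
    intro u hu hu2
    simp only [Finset.mem_filter, Finset.mem_univ, true_and] at hu hu2
    exact hu.2 hu2

/-- The partition count. -/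
theorem h8_L6 (hn : 1 < n) (h : ∀ x : G, (h8C x).index = 1 ∨ (h8C x).index = n)
    (hab : ∀ x : G, x ∉ Subgroup.center G → ∀ a ∈ h8C x, ∀ b ∈ h8C x, a * b = b * a)
    {δ : ℕ} (hδ : ∀ x : G, x ∉ Subgroup.center G → Nat.card (h8C x) = δ * Nat.card (Subgroup.center G))
    {x₀ : G} (hx₀ : x₀ ∉ Subgroup.center G) : δ ≤ n := by
  classical
  haveI := Fintype.ofFinite G
  obtain ⟨z, hz⟩ : ∃ z, z = Nat.card (Subgroup.center G) := ⟨_, rfl⟩
  have hz0 : 0 < z := by rw [hz]; exact Nat.card_pos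
  rw [← hz] at hδ
  let S : Finset G := Finset.univ.filter (fun u : G => u ∉ Subgroup.center G)
  let I : Finset (Subgroup G) := S.image h8C
  have hmaps : ((S : Finset G) : Set G).MapsTo h8C (I : Set (Subgroup G)) := by
    intro u hu
    exact Finset.mem_coe.2 (Finset.mem_image_of_mem _ (Finset.mem_coe.1 hu))
  have h1 := Finset.card_eq_sum_card_fiberwise hmaps
  have hfib : ∀ D ∈ I, (S.filter (fun u => h8C u = D)).card + z = δ * z := by
    intro D hD
    obtain ⟨x, hx, rfl⟩ := Finset.mem_image.1 hD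
    have hxZ : x ∉ Subgroup.center G := (Finset.mem_filter.1 hx).2
    have h2 := h8_card_diff (Subgroup.center G) (h8C x) (h8_center_le x)
    rw [← hz, hδ x hxZ] at h2
    rw [← h2]
    congr 2
    ext u
    simp only [S, Finset.mem_filter, Finset.mem_univ, true_and]
    constructor
    · rintro ⟨hu, huC⟩
      refine ⟨?_, hu⟩
      rw [← huC]
      exact h8_self_mem u
    · rintro ⟨hu, huZ⟩
      exact ⟨huZ, h8_L5 h hab hxZ hu huZ⟩
  -- sum
  have h3 : S.card + z = I.card * (δ * z - z) + z := by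
    rw [h1]
    congr 1
    have : ∀ D ∈ I, (S.filter (fun u => h8C u = D)).card = δ * z - z := by
      intro D hD
      have := hfib D hD
      omega
    rw [Finset.sum_congr rfl this]
    simp
  have h4 : S.card + z = n * (δ * z) := by
    have h5 := h8_card_diff (Subgroup.center G) (⊤ : Subgroup G) le_top
    have h6 : S.card = (Finset.univ.filter (fun u : G => u ∈ (⊤ : Subgroup G) ∧ u ∉ Subgroup.center G)).card := by
      congr 1
      ext u
      simp [S]
    rw [← hz] at h5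
    rw [h6, h5, Nat.card_congr Subgroup.topEquiv.toEquiv]
    have h7 := Subgroup.card_mul_index (h8C x₀)
    rw [h8_idx h hx₀, hδ x₀ hx₀] at h7
    rw [← h7]
    ring
  -- arithmetic
  have hδ1 : 1 < δ := by
    by_contra hd
    have hd0 : δ * z ≤ z := by
      have : δ ≤ 1 := by omega
      calc δ * z ≤ 1 * z := Nat.mul_le_mul_right _ this
        _ = z := one_mul z
    apply hx₀
    have h8 : Subgroup.center G = h8C x₀ := by
      apply Subgroup.eq_of_le_of_card_ge (h8_center_le x₀)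
      rw [hδ x₀ hx₀, ← hz]
      exact hd0
    rw [h8]
    exact h8_self_mem x₀
  obtain ⟨e, rfl⟩ : ∃ e, δ = e + 1 := ⟨δ - 1, by omega⟩
  have he : 0 < e := by omega
  have h9 : (e + 1) * z - z = e * z := by
    rw [add_mul, one_mul]; omega
  rw [h9] at h3
  -- `n (e+1) z = T e z + z`
  have h10 : n * (e + 1) = I.card * e + 1 := by
    apply Nat.eq_of_mul_eq_mul_right hz0
    calc n * (e + 1) * z = n * ((e + 1) * z) := by ring
      _ = S.card + z := h4.symm
      _ = I.card * (e * z) + z := h3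
      _ = (I.card * e + 1) * z := by ring
  obtain ⟨n', rfl⟩ : ∃ n', n = n' + 1 := ⟨n - 1, by omega⟩
  have hn' : 0 < n' := by omega
  have h11 : e ∣ n' := by
    have h12 : (n' + 1) * e + n' = I.card * e := by
      have : (n' + 1) * (e + 1) = (n' + 1) * e + n' + 1 := by ring
      omega
    have h13 : e ∣ (n' + 1) * e + n' := by rw [h12]; exact Dvd.intro_left _ rfl
    exact (Nat.dvd_add_right (Dvd.intro_left _ rfl)).1 h13
  have := Nat.le_of_dvd hn' h11
  omega


theorem h8_central_step (r : ℕ) [Fact r.Prime] (R : Subgroup G) (hR : IsPGroup r R)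
    (M : Subgroup G) [M.Normal] (hnot : ¬ R ≤ M) :
    ∃ y ∈ R, y ∉ M ∧ ∀ g ∈ R, g * y * g⁻¹ * y⁻¹ ∈ M := by
  haveI : (M.subgroupOf R).Normal := inferInstance
  have hQ : IsPGroup r (R ⧸ M.subgroupOf R) := hR.to_quotient _
  have hnt : Nontrivial (R ⧸ M.subgroupOf R) := by
    obtain ⟨u, hu, huM⟩ := Set.not_subset.1 hnot
    refine ⟨⟨((⟨u, hu⟩ : R) : R ⧸ M.subgroupOf R), 1, ?_⟩⟩
    intro h1
    apply huM
    have := (QuotientGroup.eq_one_iff _).1 h1
    exact Subgroup.mem_subgroupOf.1 this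
  have hcen : Nontrivial (Subgroup.center (R ⧸ M.subgroupOf R)) := hQ.center_nontrivial
  obtain ⟨c, hc⟩ := exists_ne (1 : Subgroup.center (R ⧸ M.subgroupOf R))
  obtain ⟨y, hy⟩ := QuotientGroup.mk_surjective (c : R ⧸ M.subgroupOf R)
  refine ⟨y, y.2, ?_, ?_⟩
  · intro hyM
    apply hc
    apply Subtype.ext
    rw [← hy]
    exact (QuotientGroup.eq_one_iff _).2 (Subgroup.mem_subgroupOf.2 hyM)
  · intro g hg
    have h1 := Subgroup.mem_center_iff.1 c.2 ((⟨g, hg⟩ : R) : R ⧸ M.subgroupOf R)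
    rw [← hy] at h1
    have h2 : (⟨g, hg⟩ * y * (⟨g, hg⟩ : R)⁻¹ * y⁻¹ : R) ∈ M.subgroupOf R := by
      apply (QuotientGroup.eq_one_iff _).1
      rw [QuotientGroup.mk_mul, QuotientGroup.mk_mul, QuotientGroup.mk_mul, h1]
      simp
    exact Subgroup.mem_subgroupOf.1 h2

/-- Constant orbit size divides the set size. -/
theorem h8_orbit_dvd {R Ω : Type*} [Group R] [Finite R] [Finite Ω] [MulAction R Ω] (j : ℕ)
    (hj : ∀ u : Ω, (MulAction.stabilizer R u).index = j) : j ∣ Nat.card Ω := by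
  classical
  haveI := Fintype.ofFinite Ω
  rw [Nat.card_congr (MulAction.selfEquivSigmaOrbits R Ω)]
  haveI : Fintype (MulAction.orbitRel.Quotient R Ω) := Fintype.ofFinite _
  rw [Nat.card_sigma]
  apply Finset.dvd_sum
  intro ω _
  rw [← hj (Quotient.out ω), MulAction.index_stabilizer]
  rfl

/-- Number of `s`-elements in an abelian subgroup. -/
theorem h8_count (s : ℕ) [Fact s.Prime] (A : Subgroup G) (hA : ∀ a ∈ A, ∀ b ∈ A, a * b = b * a) :
    ∃ T : Subgroup G, (∀ u, u ∈ T ↔ u ∈ A ∧ ∃ k, u ^ (s ^ k) = 1) ∧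
      Nat.card T = s ^ (Nat.card A).factorization s := by
  have hs : s.Prime := Fact.out
  obtain ⟨T, hT⟩ : ∃ T : Subgroup G, ∀ u, u ∈ T ↔ u ∈ A ∧ ∃ k, u ^ (s ^ k) = 1 :=
    ⟨{ carrier := {u | u ∈ A ∧ ∃ k, u ^ (s ^ k) = 1}
       mul_mem' := by
        rintro a b ⟨ha, k, hk⟩ ⟨hb, l, hl⟩
        refine ⟨A.mul_mem ha hb, k + l, ?_⟩
        have hc : Commute a b := hA a ha b hb
        rw [hc.mul_pow, pow_add, pow_mul, hk, one_pow, one_mul, mul_comm, pow_mul, hl, one_pow]
       one_mem' := ⟨A.one_mem, 0, by simp⟩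
       inv_mem' := by
        rintro a ⟨ha, k, hk⟩
        exact ⟨A.inv_mem ha, k, by rw [inv_pow, hk, inv_one]⟩ }, fun _ => Iff.rfl⟩
  refine ⟨T, hT, ?_⟩
  have hTA : T ≤ A := fun u hu => ((hT u).1 hu).1
  have hTp : IsPGroup s T := by
    intro u
    obtain ⟨_, k, hk⟩ := (hT u).1 u.2
    exact ⟨k, Subtype.ext (by simpa using hk)⟩
  obtain ⟨P⟩ : Nonempty (Sylow s A) := inferInstance
  have hcard := P.card_eq_multiplicity
  have h1 : (P : Subgroup A) = T.subgroupOf A := by
    refine (P.is_maximal' ?_ ?_).symm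
    · exact hTp.of_equiv (Subgroup.subgroupOfEquivOfLe hTA).symm
    · intro u hu
      obtain ⟨k, hk⟩ := P.isPGroup' ⟨u, hu⟩
      apply Subgroup.mem_subgroupOf.2
      apply (hT _).2
      refine ⟨u.2, k, ?_⟩
      have := congrArg (fun a : (P : Subgroup A) => ((a : A) : G)) hk
      simpa using this
  rw [← hcard, h1]
  exact (Nat.card_congr (Subgroup.subgroupOfEquivOfLe hTA).toEquiv).symm

/-- The key divisibility. -/
theorem h8_L7 (hn0 : n ≠ 0) (h : ∀ x : G, (h8C x).index = 1 ∨ (h8C x).index = n)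
    (hab : ∀ x : G, x ∉ Subgroup.center G → ∀ a ∈ h8C x, ∀ b ∈ h8C x, a * b = b * a)
    {δ : ℕ} (hδ : ∀ x : G, x ∉ Subgroup.center G → Nat.card (h8C x) = δ * Nat.card (Subgroup.center G))
    {x₀ : G} (hx₀ : x₀ ∉ Subgroup.center G)
    {r s k : ℕ} (hr : r.Prime) (hs : s.Prime) (hrs : r ≠ s) (hk : r ^ k ∣ n) :
    r ^ k ∣ s ^ δ.factorization s - 1 := by
  classical
  haveI : Fact r.Prime := ⟨hr⟩
  haveI : Fact s.Prime := ⟨hs⟩
  rcases Nat.eq_zero_or_pos k with rfl | hkpos
  · simp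
  have hrn : r ∣ n := (dvd_pow_self r hkpos.ne').trans hk
  obtain ⟨R⟩ : Nonempty (Sylow r G) := inferInstance
  have hRZ : ¬ (R : Subgroup G) ≤ Subgroup.center G := by
    intro hle
    have h1 : (R : Subgroup G) ≤ h8C x₀ := hle.trans (h8_center_le x₀)
    have h2 := Subgroup.index_dvd_of_le h1
    rw [h8_idx h hx₀] at h2
    exact R.not_dvd_index (hrn.trans h2)
  obtain ⟨y, hyR, hyZ, hycomm⟩ := h8_central_step r (R : Subgroup G) R.2 (Subgroup.center G) hRZ
  -- `R` normalizes `D`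
  obtain ⟨D, hD⟩ : ∃ D, D = h8C y := ⟨_, rfl⟩
  have hconj : ∀ g ∈ (R : Subgroup G), ∀ u ∈ D, g * u * g⁻¹ ∈ D := by
    intro g hg u hu
    rw [hD] at hu ⊢
    have hc : g⁻¹ * y * g * y⁻¹ ∈ Subgroup.center G := by
      have := hycomm g⁻¹ ((R : Subgroup G).inv_mem hg)
      simpa using this
    have hu1 : u * y = y * u := h8_mem_C.1 hu
    apply h8_mem_C.2
    obtain ⟨c, hcd⟩ : ∃ c, c = g⁻¹ * y * g * y⁻¹ := ⟨_, rfl⟩
    rw [← hcd] at hc
    have h1 : g⁻¹ * y * g = c * y := by rw [hcd]; group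
    have hcu : c * u = u * c := (Subgroup.mem_center_iff.1 hc u).symm
    calc (g * u * g⁻¹) * y = g * u * (g⁻¹ * y * g) * g⁻¹ := by group
      _ = g * u * (c * y) * g⁻¹ := by rw [h1]
      _ = g * (u * c) * y * g⁻¹ := by group
      _ = g * (c * u) * y * g⁻¹ := by rw [hcu]
      _ = g * c * (u * y) * g⁻¹ := by group
      _ = g * c * (y * u) * g⁻¹ := by rw [hu1]
      _ = g * (c * y) * u * g⁻¹ := by group
      _ = g * (g⁻¹ * y * g) * u * g⁻¹ := by rw [h1]
      _ = y * (g * u * g⁻¹) := by group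
  have hDab : ∀ a ∈ D, ∀ b ∈ D, a * b = b * a := by
    rw [hD]; exact hab y hyZ
  have hZD : Subgroup.center G ≤ D := by rw [hD]; exact h8_center_le y
  have hDC : ∀ u ∈ D, u ∉ Subgroup.center G → h8C u = D := by
    intro u hu huZ
    rw [hD] at hu ⊢
    exact h8_L5 h hab hyZ hu huZ
  have hDcard : Nat.card D = δ * Nat.card (Subgroup.center G) := by rw [hD]; exact hδ y hyZ
  have hDidx : D.index = n := by rw [hD]; exact h8_idx h hyZ
  -- the `r`-part
  have hrj : r ^ k ∣ D.relIndex (R : Subgroup G) := by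
    obtain ⟨v, hv⟩ : ∃ v, v = (Nat.card D).factorization r := ⟨_, rfl⟩
    have hv1 : r ^ v ∣ Nat.card D := by rw [hv]; exact Nat.ordProj_dvd _ _
    have h1 : r ^ (k + v) ∣ Nat.card G := by
      rw [pow_add, ← Subgroup.card_mul_index D, hDidx, mul_comm]
      exact Nat.mul_dvd_mul hv1 hk
    have h2 := R.pow_dvd_card_of_pow_dvd_card h1
    have hW : IsPGroup r (D ⊓ (R : Subgroup G) : Subgroup G) := R.2.to_le inf_le_right
    obtain ⟨i, hi⟩ := (IsPGroup.iff_card).1 hW
    have hiv : i ≤ v := by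
      have h3 : r ^ i ∣ Nat.card D := by
        rw [← hi]; exact Subgroup.card_dvd_of_le inf_le_left
      rw [hv]
      exact (Nat.Prime.pow_dvd_iff_le_factorization hr Nat.card_pos.ne').1 h3
    have h4 : Nat.card (D.subgroupOf (R : Subgroup G)) = r ^ i := by
      rw [← hi, ← Subgroup.inf_subgroupOf_right]
      exact Nat.card_congr (Subgroup.subgroupOfEquivOfLe inf_le_right).toEquiv
    have h5 := Subgroup.card_mul_index (D.subgroupOf (R : Subgroup G))
    rw [h4] at h5
    have h6 : D.relIndex (R : Subgroup G) = (D.subgroupOf (R : Subgroup G)).index := rfl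
    rw [h6]
    rw [← h5] at h2
    have h7 : r ^ (k + v) = r ^ i * (r ^ k * r ^ (v - i)) := by
      rw [← pow_add, ← pow_add]
      congr 1
      omega
    rw [h7] at h2
    have h8 := Nat.dvd_of_mul_dvd_mul_left (pow_pos hr.pos i) h2
    exact (Dvd.intro _ rfl).trans h8
  -- the set
  obtain ⟨Ω, hΩ⟩ : ∃ Ω : Set G, Ω = {u | u ∈ D ∧ u ∉ Subgroup.center G ∧ ∃ k, u ^ (s ^ k) = 1} := ⟨_, rfl⟩
  have hΩmem : ∀ u, u ∈ Ω ↔ u ∈ D ∧ u ∉ Subgroup.center G ∧ ∃ k, u ^ (s ^ k) = 1 := by
    intro u; rw [hΩ]; exact Iff.rfl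
  have hΩinv : ∀ g ∈ (R : Subgroup G), ∀ u ∈ Ω, g * u * g⁻¹ ∈ Ω := by
    intro g hg u hu
    rw [hΩ] at hu ⊢
    obtain ⟨hu1, hu2, k', hk'⟩ := hu
    refine ⟨hconj g hg u hu1, ?_, k', ?_⟩
    · intro hc
      apply hu2
      have := (Subgroup.Normal.conj_mem inferInstance _ hc g⁻¹)
      simpa [mul_assoc] using this
    · rw [conj_pow, hk']; group
  letI act : MulAction (R : Subgroup G) Ω :=
    { smul := fun g u => ⟨(g : G) * u * (g : G)⁻¹, hΩinv g g.2 u u.2⟩
      one_smul := fun u => Subtype.ext (by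
        show ((1 : (R : Subgroup G)) : G) * u * ((1 : (R : Subgroup G)) : G)⁻¹ = u
        simp)
      mul_smul := fun a b u => Subtype.ext (by
        show ((a * b : (R : Subgroup G)) : G) * u * ((a * b : (R : Subgroup G)) : G)⁻¹ =
          (a : G) * ((b : G) * u * (b : G)⁻¹) * (a : G)⁻¹
        simp only [Subgroup.coe_mul]
        group) }
  have hstab : ∀ u : Ω, (MulAction.stabilizer (R : Subgroup G) u).index = D.relIndex (R : Subgroup G) := by
    intro u
    have : MulAction.stabilizer (R : Subgroup G) u = D.subgroupOf (R : Subgroup G) := by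
      ext g
      rw [MulAction.mem_stabilizer_iff, Subgroup.mem_subgroupOf]
      obtain ⟨hu1, hu2, _⟩ := (hΩmem _).1 u.2
      have hCu := hDC u hu1 hu2
      rw [← hCu]
      constructor
      · intro he
        have he2 : (g : G) * u * (g : G)⁻¹ = u := congrArg Subtype.val he
        apply h8_mem_C.2
        exact mul_inv_eq_iff_eq_mul.1 he2
      · intro he
        have he2 := h8_mem_C.1 he
        apply Subtype.ext
        show (g : G) * u * (g : G)⁻¹ = u
        rw [he2]; group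
    rw [this]
    rfl
  have hdvd := h8_orbit_dvd (R := (R : Subgroup G)) (Ω := Ω) _ hstab
  -- counting
  haveI := Fintype.ofFinite G
  obtain ⟨TD, hTD, hTDc⟩ := h8_count s D hDab
  obtain ⟨TZ, hTZ, hTZc⟩ := h8_count s (Subgroup.center G) (fun a ha b _ => Subgroup.mem_center_iff.1 ha b |>.symm)
  have hTle : TZ ≤ TD := by
    intro u hu
    obtain ⟨h1, h2⟩ := (hTZ u).1 hu
    exact (hTD u).2 ⟨hZD h1, h2⟩
  have hdiff := h8_card_diff TZ TD hTle
  have hΩc : Nat.card Ω = (Finset.univ.filter (fun u : G => u ∈ TD ∧ u ∉ TZ)).card := by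
    have hΩe : Ω = ((Finset.univ.filter (fun u : G => u ∈ TD ∧ u ∉ TZ) : Finset G) : Set G) := by
      ext u
      simp only [Finset.coe_filter, Finset.mem_univ, true_and, Set.mem_setOf_eq]
      rw [hΩmem, hTD, hTZ]
      constructor
      · rintro ⟨h1, h2, h3⟩
        exact ⟨⟨h1, h3⟩, fun h4 => h2 h4.1⟩
      · rintro ⟨⟨h1, h3⟩, h2⟩
        exact ⟨h1, fun h4 => h2 ⟨h4, h3⟩, h3⟩
    rw [Nat.card_coe_set_eq, hΩe, Set.ncard_coe_finset]
  rw [← hΩc, hTDc, hTZc, hDcard] at hdiff
  have hδ0 : δ ≠ 0 := by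
    rintro rfl
    have := hδ x₀ hx₀
    rw [zero_mul] at this
    exact (Nat.card_pos (α := h8C x₀)).ne' this
  obtain ⟨z, hz⟩ : ∃ z, z = Nat.card (Subgroup.center G) := ⟨_, rfl⟩
  rw [← hz] at hdiff
  have hz0 : z ≠ 0 := by rw [hz]; exact Nat.card_pos.ne'
  rw [Nat.factorization_mul hδ0 hz0] at hdiff
  simp only [Finsupp.coe_add, Pi.add_apply, pow_add] at hdiff
  obtain ⟨A, hA⟩ : ∃ A, A = s ^ δ.factorization s := ⟨_, rfl⟩
  obtain ⟨B, hB⟩ : ∃ B, B = s ^ z.factorization s := ⟨_, rfl⟩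
  rw [← hA, ← hB] at hdiff
  rw [← hA]
  have hA1 : 1 ≤ A := by rw [hA]; exact Nat.one_le_pow _ _ hs.pos
  obtain ⟨A', rfl⟩ : ∃ A', A = A' + 1 := ⟨A - 1, by omega⟩
  have hcΩ : Nat.card Ω = B * A' := by
    have : (A' + 1) * B = A' * B + B := by ring
    rw [mul_comm B A']
    omega
  rw [hcΩ] at hdvd
  have hcop : Nat.Coprime (r ^ k) B := by
    rw [hB]
    exact Nat.coprime_pow_primes _ _ hr hs hrs
  simpa using hcop.dvd_of_dvd_mul_left (hrj.trans hdvd)

/-- `ordProj` is at least `s` when a noncentral `s`-element exists. -/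
theorem h8_delta_gt (h : ∀ x : G, (h8C x).index = 1 ∨ (h8C x).index = n)
    (hab : ∀ x : G, x ∉ Subgroup.center G → ∀ a ∈ h8C x, ∀ b ∈ h8C x, a * b = b * a)
    {δ : ℕ} (hδ : ∀ x : G, x ∉ Subgroup.center G → Nat.card (h8C x) = δ * Nat.card (Subgroup.center G))
    {x₀ : G} (hx₀ : x₀ ∉ Subgroup.center G)
    {s : ℕ} (hs : s.Prime) {w : G} (hw : w ∉ Subgroup.center G) (hwp : ∃ k, w ^ (s ^ k) = 1) :
    1 < s ^ δ.factorization s := by
  classical
  haveI : Fact s.Prime := ⟨hs⟩
  obtain ⟨u, hu, huZ, k, huk⟩ := h8_L3 h hs hw hwp hx₀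
  have hDab := hab x₀ hx₀
  obtain ⟨TD, hTD, hTDc⟩ := h8_count s (h8C x₀) hDab
  obtain ⟨TZ, hTZ, hTZc⟩ := h8_count s (Subgroup.center G) (fun a ha b _ => Subgroup.mem_center_iff.1 ha b |>.symm)
  have hTle : TZ ≤ TD := by
    intro v hv
    obtain ⟨h1, h2⟩ := (hTZ v).1 hv
    exact (hTD v).2 ⟨h8_center_le _ h1, h2⟩
  have huD : u ∈ TD := (hTD u).2 ⟨hu, k, huk⟩
  have huT : u ∉ TZ := fun h1 => huZ ((hTZ u).1 h1).1
  have hδ0 : δ ≠ 0 := by
    rintro rfl
    have := hδ x₀ hx₀
    rw [zero_mul] at this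
    exact (Nat.card_pos (α := h8C x₀)).ne' this
  have hz0 : Nat.card (Subgroup.center G) ≠ 0 := Nat.card_pos.ne'
  by_contra hcon
  have h1 : s ^ δ.factorization s = 1 := by
    have : 0 < s ^ δ.factorization s := pow_pos hs.pos _
    omega
  have h2 : Nat.card TD = Nat.card TZ := by
    rw [hTDc, hTZc, hδ x₀ hx₀, Nat.factorization_mul hδ0 hz0]
    simp only [Finsupp.coe_add, Pi.add_apply, pow_add]
    rw [h1, one_mul]
  have h3 : TZ = TD := Subgroup.eq_of_le_of_card_ge hTle h2.le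
  rw [← h3] at huD
  exact huT huD

/-- Two primes are impossible. -/
theorem h8_caseA (hn : 1 < n) (h : ∀ x : G, (h8C x).index = 1 ∨ (h8C x).index = n) {s t : ℕ}
    (hs : s.Prime) (ht : t.Prime) (hst : s ≠ t) {ws wt : G} (hws : ws ∉ Subgroup.center G)
    (hwsp : ∃ k, ws ^ (s ^ k) = 1) (hwt : wt ∉ Subgroup.center G) (hwtp : ∃ k, wt ^ (t ^ k) = 1) :
    False := by
  have hab := fun (x : G) (hx : x ∉ Subgroup.center G) => h8_L4 h hs ht hst hws hwsp hwt hwtp hx
  have hn0 : n ≠ 0 := by omega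
  -- the number `δ`
  have hdv : Nat.card (Subgroup.center G) ∣ Nat.card (h8C ws) :=
    Subgroup.card_dvd_of_le (h8_center_le ws)
  obtain ⟨δ, hδ0⟩ := hdv
  have hδ : ∀ x : G, x ∉ Subgroup.center G → Nat.card (h8C x) = δ * Nat.card (Subgroup.center G) := by
    intro x hx
    rw [h8_card_C h hx hws, hδ0, mul_comm]
  have hδle := h8_L6 hn h hab hδ hws
  have hδne : δ ≠ 0 := by
    rintro rfl
    have := hδ ws hws
    rw [zero_mul] at this
    exact (Nat.card_pos (α := h8C ws)).ne' this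
  have hBs := h8_delta_gt h hab hδ hws hs hws hwsp
  have hBt := h8_delta_gt h hab hδ hws ht hwt hwtp
  -- `ordCompl`
  have hkey : ∀ {q : ℕ}, q.Prime → 1 < q ^ δ.factorization q → n / q ^ n.factorization q < q ^ δ.factorization q := by
    intro q hq hB
    have h1 : n / q ^ n.factorization q ∣ q ^ δ.factorization q - 1 := by
      rw [Nat.dvd_iff_prime_pow_dvd_dvd]
      intro r k hr hk
      rcases Nat.eq_zero_or_pos k with rfl | hk0
      · simp
      have hr1 : r ∣ n / q ^ n.factorization q := (dvd_pow_self r hk0.ne').trans hk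
      have hrq : r ≠ q := by
        rintro rfl
        exact Nat.not_dvd_ordCompl hr hn0 hr1
      apply h8_L7 hn0 h hab hδ hws hr hq hrq
      exact hk.trans (Nat.ordCompl_dvd _ _)
    have h2 := Nat.le_of_dvd (by omega) h1
    omega
  have hAs := hkey hs hBs
  have hAt := hkey ht hBt
  -- arithmetic
  have h1 : s ^ n.factorization s ∣ n / t ^ n.factorization t := by
    have h2 : s ^ n.factorization s ∣ t ^ n.factorization t * (n / t ^ n.factorization t) := by
      rw [Nat.ordProj_mul_ordCompl_eq_self]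
      exact Nat.ordProj_dvd _ _
    exact (Nat.coprime_pow_primes _ _ hs ht hst).dvd_of_dvd_mul_left h2
  have hAt0 : 0 < n / t ^ n.factorization t := Nat.ordCompl_pos _ hn0
  have hAs0 : 0 < n / s ^ n.factorization s := Nat.ordCompl_pos _ hn0
  have h2 := Nat.le_of_dvd hAt0 h1
  have h3 : n ≤ (n / t ^ n.factorization t) * (n / s ^ n.factorization s) := by
    calc n = s ^ n.factorization s * (n / s ^ n.factorization s) := (Nat.ordProj_mul_ordCompl_eq_self n s).symm
      _ ≤ _ := Nat.mul_le_mul_right _ h2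
  have h4 : (n / t ^ n.factorization t) * (n / s ^ n.factorization s) < t ^ δ.factorization t * s ^ δ.factorization s :=
    Nat.mul_lt_mul'' hAt hAs
  have h5 : t ^ δ.factorization t * s ^ δ.factorization s ∣ δ :=
    Nat.Coprime.mul_dvd_of_dvd_of_dvd (Nat.coprime_pow_primes _ _ ht hs hst.symm)
      (Nat.ordProj_dvd _ _) (Nat.ordProj_dvd _ _)
  have h6 := Nat.le_of_dvd (Nat.pos_of_ne_zero hδne) h5
  omega


theorem h8_relIndex_eq (C P N : Subgroup G) [N.Normal] (hNC : N ≤ C) (hsup : P ⊔ N = ⊤) :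
    C.relIndex P = C.index := by
  have hsurj : Function.Surjective ((QuotientGroup.mk' N).comp P.subtype) := by
    intro q
    obtain ⟨g, rfl⟩ := QuotientGroup.mk_surjective q
    have hg : g ∈ P ⊔ N := by rw [hsup]; trivial
    obtain ⟨y, hy, z, hz, rfl⟩ := Subgroup.mem_sup_of_normal_right.1 hg
    refine ⟨⟨y, hy⟩, ?_⟩
    show (y : G ⧸ N) = ((y * z : G) : G ⧸ N)
    rw [QuotientGroup.mk_mul, (QuotientGroup.eq_one_iff z).2 hz, mul_one]
  have hC : (C.map (QuotientGroup.mk' N)).comap (QuotientGroup.mk' N) = C :=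
    Subgroup.comap_map_eq_self (by rw [QuotientGroup.ker_mk']; exact hNC)
  have h1 : (C.map (QuotientGroup.mk' N)).index = C.index := by
    rw [← Subgroup.index_comap_of_surjective _ (QuotientGroup.mk'_surjective N), hC]
  rw [← h1, ← Subgroup.index_comap_of_surjective _ hsurj]
  show (C.subgroupOf P).index = _
  congr 1
  rw [← Subgroup.comap_comap, hC]
  rfl

/-- The case of one prime. -/
theorem h8_caseB {n : ℕ} (hn : 1 < n) (h : ∀ x : G, (h8C x).index = 1 ∨ (h8C x).index = n) {x₀ : G}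
    (hx₀ : x₀ ∉ Subgroup.center G) (p : ℕ) [Fact p.Prime]
    (hpr : ∀ r : ℕ, r.Prime → r ≠ p → ∀ u : G, (∃ k, u ^ (r ^ k) = 1) → u ∈ Subgroup.center G) :
    ∃ a : ℕ, n = p ^ a ∧ ∀ P : Sylow p G, (P : Subgroup G).Normal ∧
      (∃ N : Subgroup G, N.Normal ∧ N.IsComplement' (P : Subgroup G) ∧ IsMulCommutative N ∧
        ∀ x ∈ N, ∀ y ∈ (P : Subgroup G), x * y = y * x) ∧
      ∃ A : Subgroup (P : Subgroup G), A.Normal ∧ IsMulCommutative A ∧ ∀ y : (P : Subgroup G), y ^ p ∈ A := by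
  classical
  have hp : p.Prime := Fact.out
  have hcen : ∀ g : G, Nat.Coprime (orderOf g) p → g ∈ Subgroup.center G := by
    intro g hg
    by_contra hgZ
    obtain ⟨l, k, m, hl, h1, h2⟩ := h8_primary (Subgroup.center G) _ g rfl hgZ
    by_cases hlp : l = p
    · subst hlp
      have h3 : orderOf (g ^ m) ∣ l ^ k := orderOf_dvd_of_pow_eq_one h1
      have h4 : orderOf (g ^ m) ∣ orderOf g := orderOf_pow_dvd m
      have h5 : Nat.Coprime (orderOf g) (l ^ k) := Nat.Coprime.pow_right k hg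
      have h6 : orderOf (g ^ m) = 1 := Nat.eq_one_of_dvd_coprimes h5 h4 h3
      apply h2
      rw [orderOf_eq_one_iff.1 h6]
      exact Subgroup.one_mem _
    · exact h2 (hpr l hl hlp _ ⟨k, h1⟩)
  obtain ⟨N, hN⟩ : ∃ N : Subgroup G, ∀ x, x ∈ N ↔ Nat.Coprime (orderOf x) p :=
    ⟨{ carrier := {x | Nat.Coprime (orderOf x) p}
       mul_mem' := by
        intro a b ha hb
        have hc : Commute a b := (Subgroup.mem_center_iff.1 (hcen a ha) b).symm
        exact Nat.Coprime.coprime_dvd_left hc.orderOf_mul_dvd_mul_orderOf (Nat.Coprime.mul_left ha hb)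
       one_mem' := by
        show Nat.Coprime (orderOf (1 : G)) p
        rw [orderOf_one]; exact Nat.coprime_one_left p
       inv_mem' := by
        intro a ha
        show Nat.Coprime (orderOf a⁻¹) p
        rw [orderOf_inv]; exact ha }, fun _ => Iff.rfl⟩
  have hNZ : N ≤ Subgroup.center G := fun x hx => hcen x ((hN x).1 hx)
  haveI hNn : N.Normal := by
    constructor
    intro a ha g
    have := Subgroup.mem_center_iff.1 (hNZ ha) g
    rw [this]
    simpa using ha
  have hQ : IsPGroup p (G ⧸ N) := by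
    intro q
    obtain ⟨g, rfl⟩ := QuotientGroup.mk_surjective q
    refine ⟨(orderOf g).factorization p, ?_⟩
    rw [← QuotientGroup.mk_pow]
    apply (QuotientGroup.eq_one_iff _).2
    apply (hN _).2
    have hg0 : orderOf g ≠ 0 := (orderOf_pos g).ne'
    rw [orderOf_pow_of_dvd (pow_pos hp.pos _).ne' (Nat.ordProj_dvd _ _)]
    exact (Nat.coprime_ordCompl hp hg0).symm
  have hNcop : ¬ p ∣ Nat.card N := by
    intro hd
    obtain ⟨x, hx⟩ := exists_prime_orderOf_dvd_card' p hd
    have h1 := (hN _).1 x.2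
    rw [Subgroup.orderOf_coe, hx] at h1
    exact hp.one_lt.ne' ((Nat.coprime_self p).1 h1)
  obtain ⟨c, hc⟩ := (IsPGroup.iff_card).1 hQ
  have hNidx : N.index = p ^ c := by rw [Subgroup.index_eq_card]; exact hc
  have hnp : ∃ a, n = p ^ a := by
    have h1 := Subgroup.index_dvd_of_le (hNZ.trans (h8_center_le x₀))
    rw [h8_idx h hx₀, hNidx] at h1
    obtain ⟨a, _, ha⟩ := (Nat.dvd_prime_pow hp).1 h1
    exact ⟨a, ha⟩
  obtain ⟨a, ha⟩ := hnp
  refine ⟨a, ha, fun P => ?_⟩
  have hcardP : Nat.card P = p ^ c := by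
    have h1 := Subgroup.card_mul_index N
    rw [hNidx] at h1
    have h2 : p ^ c ∣ Nat.card P := P.pow_dvd_card_of_pow_dvd_card (Dvd.intro_left _ h1)
    obtain ⟨s, hs⟩ := (IsPGroup.iff_card).1 P.2
    have h3 : Nat.card P ∣ Nat.card N * p ^ c := by
      rw [h1]; exact Subgroup.card_subgroup_dvd_card _
    have h4 : Nat.card P ∣ p ^ c := by
      refine Nat.Coprime.dvd_of_dvd_mul_left ?_ h3
      rw [hs]
      exact Nat.Coprime.pow_left s ((Nat.Prime.coprime_iff_not_dvd hp).2 hNcop)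
    exact Nat.dvd_antisymm h4 h2
  have hcompl : N.IsComplement' (P : Subgroup G) := by
    apply Subgroup.isComplement'_of_coprime
    · rw [hcardP, ← hNidx]; exact Subgroup.card_mul_index N
    · rw [hcardP]
      exact Nat.Coprime.pow_right c ((Nat.Prime.coprime_iff_not_dvd hp).2 hNcop).symm
  have hsup : (P : Subgroup G) ⊔ N = ⊤ := by
    rw [sup_comm]; exact hcompl.sup_eq_top
  have hPn : (P : Subgroup G).Normal := by
    constructor
    intro u hu g
    have hg : g ∈ (P : Subgroup G) ⊔ N := by rw [hsup]; trivial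
    obtain ⟨y, hy, z, hz, rfl⟩ := Subgroup.mem_sup_of_normal_right.1 hg
    have hzc : u * z = z * u := Subgroup.mem_center_iff.1 (hNZ hz) u
    have h1 : y * z * u * (y * z)⁻¹ = y * u * y⁻¹ := by
      calc y * z * u * (y * z)⁻¹ = y * (z * u) * z⁻¹ * y⁻¹ := by group
        _ = y * (u * z) * z⁻¹ * y⁻¹ := by rw [hzc]
        _ = _ := by group
    rw [h1]
    exact (P : Subgroup G).mul_mem ((P : Subgroup G).mul_mem hy hu) ((P : Subgroup G).inv_mem hy)
  refine ⟨hPn, ⟨N, hNn, hcompl, ?_, ?_⟩, ?_⟩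
  · refine ⟨⟨fun u v => Subtype.ext ?_⟩⟩
    exact Subgroup.mem_center_iff.1 (hNZ v.2) (u : G)
  · intro u hu v _
    exact (Subgroup.mem_center_iff.1 (hNZ hu) v).symm
  -- the last part
  have hidxP : ∀ y : (P : Subgroup G), (Subgroup.centralizer ({y} : Set (P : Subgroup G))).index = (h8C (y : G)).index := by
    intro y
    have h1 : Subgroup.centralizer ({y} : Set (P : Subgroup G)) = (h8C (y : G)).subgroupOf (P : Subgroup G) := by
      ext a
      rw [Subgroup.mem_centralizer_singleton_iff, Subgroup.mem_subgroupOf, h8_mem_C]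
      constructor
      · intro h2
        exact congrArg Subtype.val h2
      · intro h2
        exact Subtype.ext h2
    rw [h1]
    exact h8_relIndex_eq _ _ N (hNZ.trans (h8_center_le _)) hsup
  have ha0 : 1 ≤ a := by
    rcases Nat.eq_zero_or_pos a with rfl | h1
    · rw [pow_zero] at ha; omega
    · exact h1
  have hcs : {k : ℕ | ∃ x : (P : Subgroup G), (Subgroup.centralizer ({x} : Set (P : Subgroup G))).index = k} = {1, p ^ a} := by
    ext k
    constructor
    · rintro ⟨y, rfl⟩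
      rw [hidxP y]
      rcases h (y : G) with h1 | h1
      · exact Or.inl h1
      · right; rw [h1, ha]; rfl
    · rintro (rfl | h1)
      · refine ⟨1, ?_⟩
        rw [Subgroup.index_eq_one]
        ext u
        simp [Subgroup.mem_centralizer_singleton_iff]
      · have h2 : k = p ^ a := h1
        -- noncentral element of `P`
        have hx : x₀ ∈ (P : Subgroup G) ⊔ N := by rw [hsup]; trivial
        obtain ⟨y, hy, z, hz, hyz⟩ := Subgroup.mem_sup_of_normal_right.1 hx
        have hyZ : y ∉ Subgroup.center G := by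
          intro hyZ
          apply hx₀
          rw [← hyz]
          exact Subgroup.mul_mem _ hyZ (hNZ hz)
        refine ⟨⟨y, hy⟩, ?_⟩
        rw [hidxP, h2, ← ha]
        exact h8_idx h hyZ
  refine ⟨Subgroup.center (P : Subgroup G), inferInstance, ?_, ?_⟩
  · refine ⟨⟨fun u v => Subtype.ext ?_⟩⟩
    exact Subgroup.mem_center_iff.1 v.2 (u : (P : Subgroup G))
  · intro y
    exact Cfsg.Agent.S4365.result p P.2 a ha0 hcs y

end basics


/-- Let G be a finite group whose conjugacy classes have exactly two sizes, 1 and n > 1. Then n is a power of a prime p and G is the direct product of a p-group and an abelian group of order prime to p: its Sylow p-subgroup P is normal with an abelian normal complement centralizing it; moreover P has an abelian normal subgroup A with P/A of exponent dividing p. -/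
theorem result {G : Type*} [Group G] [Finite G] (n : ℕ) (hn : 1 < n)
    (h : ∀ x : G, (Subgroup.centralizer ({x} : Set G)).index = 1 ∨ (Subgroup.centralizer ({x} : Set G)).index = n) (hex : ∃ x : G, (Subgroup.centralizer ({x} : Set G)).index = n) :
    ∃ (p : ℕ) (_ : Fact p.Prime) (a : ℕ), n = p ^ a ∧ ∀ P : Sylow p G, (P : Subgroup G).Normal ∧
      (∃ N : Subgroup G, N.Normal ∧ N.IsComplement' (P : Subgroup G) ∧ IsMulCommutative N ∧
        ∀ x ∈ N, ∀ y ∈ (P : Subgroup G), x * y = y * x) ∧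
      ∃ A : Subgroup (P : Subgroup G), A.Normal ∧ IsMulCommutative A ∧ ∀ y : (P : Subgroup G), y ^ p ∈ A := by
  classical
  obtain ⟨x₀, hx₀⟩ := hex
  have hx₀Z : x₀ ∉ Subgroup.center G := by
    intro hz
    have h1 : Subgroup.centralizer ({x₀} : Set G) = ⊤ := by
      rw [eq_top_iff]
      intro u _
      exact Subgroup.mem_centralizer_singleton_iff.2 (Subgroup.mem_center_iff.1 hz u)
    rw [h1, Subgroup.index_top] at hx₀
    omega
  obtain ⟨p, k, m, hp, h1, h2⟩ := h8_primary (Subgroup.center G) _ x₀ rfl hx₀Z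
  haveI : Fact p.Prime := ⟨hp⟩
  have hpr : ∀ r : ℕ, r.Prime → r ≠ p → ∀ u : G, (∃ k, u ^ (r ^ k) = 1) → u ∈ Subgroup.center G := by
    intro r hr hrp u hu
    by_contra huZ
    exact h8_caseA hn h hr hp hrp huZ hu h2 ⟨k, h1⟩
  obtain ⟨a, ha, hP⟩ := h8_caseB hn h hx₀Z p hpr
  exact ⟨p, inferInstance, a, ha, hP⟩

end Cfsg.Agent.S4134
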