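import Cfsg.Statements.S4198
import Cfsg.Agent.Lib.FGS.Basic

set_option autoImplicit false
open Cfsg
open scoped commutatorElement
open scoped Pointwise

namespace Cfsg.Agent.S4198

def h8S : Finset (Multiset ℕ) := {↑[5], ↑[4, 1], ↑[3, 2], ↑[3, 1, 1], ↑[2, 2, 1], ↑[2, 1, 1, 1], ↑[1, 1, 1, 1, 1]}

theorem h8_card_partition_five : Fintype.card (Nat.Partition 5) ≤ 8 := by
  classical
  have hS : h8S.card ≤ 8 := by decide
  refine le_trans ?_ hS
  rw [← Finset.card_univ]
  apply Finset.card_le_card_of_injOn (fun p : Nat.Partition 5 => p.parts)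
  · intro p _
    have hpos : ∀ i, i ∈ p.parts → 0 < i := fun i hi => p.parts_pos hi
    have hsum := p.parts_sum
    obtain ⟨l, hl⟩ := Quot.exists_rep p.parts
    have hl' : p.parts = (l : Multiset ℕ) := hl.symm
    show p.parts ∈ h8S
    rw [hl'] at hpos hsum ⊢
    simp only [Multiset.sum_coe, Multiset.mem_coe] at hpos hsum
    have hall : ∀ i ∈ l, 1 ≤ i := fun i hi => hpos i hi
    rcases l with _ | ⟨a, _ | ⟨b, _ | ⟨c, _ | ⟨d, _ | ⟨e, _ | ⟨f, t⟩⟩⟩⟩⟩⟩
    · simp at hsum
    · simp at hsum
      subst hsum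
      decide
    · simp at hsum hall
      obtain ⟨h1, h2⟩ := hall
      have h3 : a ≤ 4 := by omega
      have h4 : b ≤ 4 := by omega
      interval_cases a <;> interval_cases b <;> first | omega | decide
    · simp at hsum hall
      obtain ⟨h1, h2, h5⟩ := hall
      have h3 : a ≤ 3 := by omega
      have h4 : b ≤ 3 := by omega
      have h6 : c ≤ 3 := by omega
      interval_cases a <;> interval_cases b <;> interval_cases c <;> first | omega | decide
    · simp at hsum hall
      obtain ⟨h1, h2, h5, h7⟩ := hall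
      have h3 : a ≤ 2 := by omega
      have h4 : b ≤ 2 := by omega
      have h6 : c ≤ 2 := by omega
      have h8 : d ≤ 2 := by omega
      interval_cases a <;> interval_cases b <;> interval_cases c <;> interval_cases d <;> first | omega | decide
    · simp at hsum hall
      obtain ⟨h1, h2, h5, h7, h9⟩ := hall
      obtain rfl : a = 1 := by omega
      obtain rfl : b = 1 := by omega
      obtain rfl : c = 1 := by omega
      obtain rfl : d = 1 := by omega
      obtain rfl : e = 1 := by omega
      decide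
    · simp at hsum hall
      obtain ⟨h1, h2, h5, h7, h9, h10, -⟩ := hall
      omega
  · intro p _ q _ h
    exact Nat.Partition.ext h

theorem h8_exists_min (s : Multiset ℕ) (hs : s ≠ 0) : ∃ m ∈ s, ∀ a ∈ s, m ≤ a := by
  classical
  obtain ⟨x, hx⟩ := Multiset.exists_mem_of_ne_zero hs
  obtain ⟨m, hm, hmin⟩ := Finset.exists_min_image s.toFinset id ⟨x, by simpa using hx⟩
  refine ⟨m, by simpa using hm, fun a ha => ?_⟩
  exact hmin a (by simpa using ha)

theorem h8_partition_step (n : ℕ) (hn : 1 ≤ n) : Fintype.card (Nat.Partition n) ≤ 2 * Fintype.card (Nat.Partition (n - 1)) := by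
  classical
  have h1 : Fintype.card {p : Nat.Partition n // 1 ∈ p.parts} = Fintype.card (Nat.Partition (n - 1)) :=
    Fintype.card_congr (Nat.Partition.partitionWithPartEquiv (le_refl 1) hn)
  have hne : ∀ p : Nat.Partition n, p.parts ≠ 0 := by
    intro p h0
    have := p.parts_sum
    rw [h0] at this
    simp at this
    omega
  choose mn hmn hmin using fun p : Nat.Partition n => h8_exists_min p.parts (hne p)
  have hmn2 : ∀ p : {p : Nat.Partition n // ¬ 1 ∈ p.parts}, 2 ≤ mn p.1 := by
    intro p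
    have h2 := p.1.parts_pos (hmn p.1)
    by_contra hlt
    have h3 : mn p.1 = 1 := by omega
    apply p.2
    have h4 := hmn p.1
    rwa [h3] at h4
  have hsum : ∀ p : Nat.Partition n, mn p + (p.parts.erase (mn p)).sum = n := by
    intro p
    have h2 := congrArg Multiset.sum (Multiset.cons_erase (hmn p))
    rw [Multiset.sum_cons, p.parts_sum] at h2
    exact h2
  let g : {p : Nat.Partition n // ¬ 1 ∈ p.parts} → Nat.Partition (n - 1) := fun p =>
    ⟨(mn p.1 - 1) ::ₘ p.1.parts.erase (mn p.1), by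
      intro i hi
      rw [Multiset.mem_cons] at hi
      rcases hi with hi | hi
      · have := hmn2 p
        omega
      · exact p.1.parts_pos (Multiset.mem_of_mem_erase hi), by
      rw [Multiset.sum_cons]
      have := hsum p.1
      have := hmn2 p
      omega⟩
  have hg : Function.Injective g := by
    intro p q hpq
    have h2 : (mn p.1 - 1) ::ₘ p.1.parts.erase (mn p.1) = (mn q.1 - 1) ::ₘ q.1.parts.erase (mn q.1) :=
      congrArg Nat.Partition.parts hpq
    have hp2 := hmn2 p
    have hq2 := hmn2 q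
    have h3 : mn p.1 = mn q.1 := by
      have h4 : mn p.1 - 1 ∈ (mn q.1 - 1) ::ₘ q.1.parts.erase (mn q.1) := by
        rw [← h2]; exact Multiset.mem_cons_self _ _
      have h5 : mn q.1 - 1 ∈ (mn p.1 - 1) ::ₘ p.1.parts.erase (mn p.1) := by
        rw [h2]; exact Multiset.mem_cons_self _ _
      rw [Multiset.mem_cons] at h4 h5
      rcases h4 with h4 | h4
      · omega
      · rcases h5 with h5 | h5
        · omega
        · have h6 := hmin q.1 _ (Multiset.mem_of_mem_erase h4)
          have h7 := hmin p.1 _ (Multiset.mem_of_mem_erase h5)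
          omega
    apply Subtype.ext
    apply Nat.Partition.ext
    rw [h3] at h2
    have h4 := (Multiset.cons_inj_right _).1 h2
    have h5 := Multiset.cons_erase (hmn p.1)
    have h6 := Multiset.cons_erase (hmn q.1)
    rw [← h5, ← h6, h3, h4]
  have h2 : Fintype.card {p : Nat.Partition n // ¬ 1 ∈ p.parts} ≤ Fintype.card (Nat.Partition (n - 1)) :=
    Fintype.card_le_of_injective g hg
  have h3 := Fintype.card_subtype_compl (fun p : Nat.Partition n => 1 ∈ p.parts)
  have h4 : Fintype.card {p : Nat.Partition n // 1 ∈ p.parts} ≤ Fintype.card (Nat.Partition n) := Fintype.card_subtype_le _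
  omega

theorem h8_partition_bound (n : ℕ) (hn : 5 ≤ n) : Fintype.card (Nat.Partition n) ≤ 2 ^ (n - 2) := by
  induction n, hn using Nat.le_induction with
  | base => exact h8_card_partition_five
  | succ k hk ih =>
    have h1 := h8_partition_step (k + 1) (by omega)
    rw [Nat.add_sub_cancel] at h1
    have e : k + 1 - 2 = (k - 2) + 1 := by omega
    rw [e, pow_succ]
    omega

theorem h8_card_conj_le (n : ℕ) : Nat.card (ConjClasses (Equiv.Perm (Fin n))) ≤ Fintype.card (Nat.Partition n) := by
  classical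
  have h1 : Function.Injective (fun c : ConjClasses (Equiv.Perm (Fin n)) => Equiv.Perm.partition (Quotient.out c)) := by
    intro c d hcd
    have h3 : IsConj (Quotient.out c) (Quotient.out d) := Equiv.Perm.partition_eq_of_isConj.2 hcd
    have h4 : ConjClasses.mk (Quotient.out c) = ConjClasses.mk (Quotient.out d) := ConjClasses.mk_eq_mk_iff_isConj.2 h3
    have h5 : ∀ c : ConjClasses (Equiv.Perm (Fin n)), ConjClasses.mk (Quotient.out c) = c := fun c => Quotient.out_eq c
    rwa [h5, h5] at h4
  have h2 := Nat.card_le_card_of_injective _ h1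
  rw [Nat.card_eq_fintype_card (α := (Fintype.card (Fin n)).Partition), Fintype.card_fin] at h2
  exact h2

/-- Counting along fibres of size at most two. -/
theorem h8_count_fibres {X Y : Type*} [Finite X] (τ : X → Y) (D : Set Y)
    (h1 : ∀ x y, τ x = τ y → τ x ∉ D → x = y)
    (h2 : ∀ x y z, τ x = τ y → τ y = τ z → x = y ∨ y = z ∨ x = z) :
    Nat.card X ≤ (Set.range τ).ncard + (D ∩ Set.range τ).ncard := by
  classical
  choose r hr using fun y : Set.range τ => y.2
  let F : X → (Set.range τ) ⊕ ↥(D ∩ Set.range τ) := fun x =>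
    if hx : x = r ⟨τ x, x, rfl⟩ then Sum.inl ⟨τ x, x, rfl⟩ else Sum.inr ⟨τ x, by
      by_contra hD'
      have h4 : τ x = τ (r ⟨τ x, x, rfl⟩) := (hr ⟨τ x, x, rfl⟩).symm
      exact hx (h1 _ _ h4 hD'), x, rfl⟩
  have hF : Function.Injective F := by
    intro x y hxy
    simp only [F] at hxy
    by_cases hx : x = r ⟨τ x, x, rfl⟩ <;> by_cases hy : y = r ⟨τ y, y, rfl⟩
    · rw [dif_pos hx, dif_pos hy] at hxy
      have h3 : τ x = τ y := congrArg Subtype.val (Sum.inl.inj hxy)
      have h4 : (⟨τ x, x, rfl⟩ : Set.range τ) = ⟨τ y, y, rfl⟩ := Subtype.ext h3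
      rw [hx, hy, h4]
    · rw [dif_pos hx, dif_neg hy] at hxy
      exact absurd hxy (by simp)
    · rw [dif_neg hx, dif_pos hy] at hxy
      exact absurd hxy (by simp)
    · rw [dif_neg hx, dif_neg hy] at hxy
      have h3 : τ x = τ y := congrArg Subtype.val (Sum.inr.inj hxy)
      have h4 : (⟨τ x, x, rfl⟩ : Set.range τ) = ⟨τ y, y, rfl⟩ := Subtype.ext h3
      have h5 : τ x = τ (r ⟨τ x, x, rfl⟩) := (hr ⟨τ x, x, rfl⟩).symm
      have h6 : τ (r ⟨τ x, x, rfl⟩) = τ y := by rw [← h5, h3]
      rcases h2 x (r ⟨τ x, x, rfl⟩) y h5 h6 with h7 | h7 | h7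
      · exact absurd h7 hx
      · rw [h4] at h7
        exact absurd h7.symm hy
      · exact h7
  have h3 := Nat.card_le_card_of_injective F hF
  rw [Nat.card_sum, Nat.card_coe_set_eq, Nat.card_coe_set_eq] at h3
  exact h3

theorem h8_odd_even (m : Multiset ℕ) (h : ∀ a ∈ m, Odd a) : Even (m.sum + Multiset.card m) := by
  induction m using Multiset.induction_on with
  | empty => simp
  | cons a s ih =>
    have h1 := ih (fun x hx => h x (Multiset.mem_cons_of_mem hx))
    have h2 := h a (Multiset.mem_cons_self a s)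
    rw [Multiset.sum_cons, Multiset.card_cons]
    have e : a + s.sum + (Multiset.card s + 1) = (s.sum + Multiset.card s) + (a + 1) := by ring
    rw [e]
    exact h1.add h2.add_one

section
variable {α : Type*} [Fintype α] [DecidableEq α]

theorem h8_sign_one_iff (g : Equiv.Perm α) : Equiv.Perm.sign g = 1 ↔ Even (g.cycleType.sum + Multiset.card g.cycleType) := by
  rw [Equiv.Perm.sign_of_cycleType]
  exact neg_one_pow_eq_one_iff_even (by decide)

theorem h8_isConj_alt (g h : alternatingGroup α) (hgh : (g : Equiv.Perm α).cycleType = (h : Equiv.Perm α).cycleType)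
    (hD : ¬ Subgroup.centralizer {(g : Equiv.Perm α)} ≤ alternatingGroup α) : IsConj g h := by
  obtain ⟨a, ha⟩ := isConj_iff.1 (Equiv.Perm.isConj_iff_cycleType_eq.2 hgh)
  rw [SetLike.not_le_iff_exists] at hD
  obtain ⟨c, hc, hc2⟩ := hD
  rw [Subgroup.mem_centralizer_singleton_iff] at hc
  rw [Equiv.Perm.mem_alternatingGroup] at hc2
  have hc3 : Equiv.Perm.sign c = -1 := (Int.units_eq_one_or _).resolve_left hc2
  by_cases hs : Equiv.Perm.sign a = 1
  · rw [isConj_iff]
    refine ⟨⟨a, Equiv.Perm.mem_alternatingGroup.2 hs⟩, ?_⟩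
    apply Subtype.ext
    exact ha
  · have hs2 : Equiv.Perm.sign a = -1 := (Int.units_eq_one_or _).resolve_left hs
    rw [isConj_iff]
    refine ⟨⟨a * c, Equiv.Perm.mem_alternatingGroup.2 (by rw [map_mul, hs2, hc3]; rfl)⟩, ?_⟩
    apply Subtype.ext
    show a * c * (g : Equiv.Perm α) * (a * c)⁻¹ = h
    rw [← ha]
    calc a * c * (g : Equiv.Perm α) * (a * c)⁻¹ = a * (c * (g : Equiv.Perm α)) * c⁻¹ * a⁻¹ := by group
      _ = a * ((g : Equiv.Perm α) * c) * c⁻¹ * a⁻¹ := by rw [hc]
      _ = _ := by group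

theorem h8_isConj_alt3 (g h k : alternatingGroup α) (hgh : (g : Equiv.Perm α).cycleType = (h : Equiv.Perm α).cycleType)
    (hhk : (h : Equiv.Perm α).cycleType = (k : Equiv.Perm α).cycleType) : IsConj g h ∨ IsConj h k ∨ IsConj g k := by
  obtain ⟨a, ha⟩ := isConj_iff.1 (Equiv.Perm.isConj_iff_cycleType_eq.2 hgh)
  obtain ⟨b, hb⟩ := isConj_iff.1 (Equiv.Perm.isConj_iff_cycleType_eq.2 (hgh.trans hhk))
  by_cases hs : Equiv.Perm.sign a = 1
  · left
    rw [isConj_iff]
    exact ⟨⟨a, Equiv.Perm.mem_alternatingGroup.2 hs⟩, Subtype.ext ha⟩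
  by_cases hs' : Equiv.Perm.sign b = 1
  · right; right
    rw [isConj_iff]
    exact ⟨⟨b, Equiv.Perm.mem_alternatingGroup.2 hs'⟩, Subtype.ext hb⟩
  have h1 : Equiv.Perm.sign a = -1 := (Int.units_eq_one_or _).resolve_left hs
  have h2 : Equiv.Perm.sign b = -1 := (Int.units_eq_one_or _).resolve_left hs'
  right; left
  rw [isConj_iff]
  refine ⟨⟨b * a⁻¹, Equiv.Perm.mem_alternatingGroup.2 (by rw [map_mul, map_inv, h1, h2]; rfl)⟩, ?_⟩
  apply Subtype.ext
  show b * a⁻¹ * (h : Equiv.Perm α) * (b * a⁻¹)⁻¹ = k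
  rw [← hb, ← ha]
  group

end
theorem h8_main_lt (n : ℕ) (hn : 5 ≤ n) :
    Nat.card (ConjClasses (alternatingGroup (Fin n))) < Nat.card (ConjClasses (Equiv.Perm (Fin n))) := by
  classical
  obtain ⟨T, hT⟩ : ∃ T : Set (Multiset ℕ), T = Set.range (fun g : Equiv.Perm (Fin n) => g.cycleType) := ⟨_, rfl⟩
  have hTfin : T.Finite := by rw [hT]; exact Set.finite_range _
  have hTmem : ∀ m : Multiset ℕ, m ∈ T ↔ m.sum ≤ n ∧ ∀ a ∈ m, 2 ≤ a := by
    intro m
    rw [hT]
    have := Equiv.Perm.exists_with_cycleType_iff (α := Fin n) (m := m)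
    rw [Fintype.card_fin] at this
    exact this
  -- symmetric classes
  have hcardS : Nat.card (ConjClasses (Equiv.Perm (Fin n))) = T.ncard := by
    have h1 : Function.Injective (fun c : ConjClasses (Equiv.Perm (Fin n)) => (Quotient.out c).cycleType) := by
      intro c d hcd
      have h3 : IsConj (Quotient.out c) (Quotient.out d) := Equiv.Perm.isConj_iff_cycleType_eq.2 hcd
      have h4 : ConjClasses.mk (Quotient.out c) = ConjClasses.mk (Quotient.out d) := ConjClasses.mk_eq_mk_iff_isConj.2 h3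
      have h5 : ∀ c : ConjClasses (Equiv.Perm (Fin n)), ConjClasses.mk (Quotient.out c) = c := fun c => Quotient.out_eq c
      rwa [h5, h5] at h4
    have h2 : Set.range (fun c : ConjClasses (Equiv.Perm (Fin n)) => (Quotient.out c).cycleType) = T := by
      rw [hT]
      ext m
      constructor
      · rintro ⟨c, rfl⟩
        exact ⟨_, rfl⟩
      · rintro ⟨g, rfl⟩
        refine ⟨ConjClasses.mk g, ?_⟩
        have h3 : IsConj (Quotient.out (ConjClasses.mk g)) g :=
          ConjClasses.mk_eq_mk_iff_isConj.1 (Quotient.out_eq (ConjClasses.mk g))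
        exact Equiv.Perm.isConj_iff_cycleType_eq.1 h3
    rw [← h2, ← Nat.card_coe_set_eq]
    exact (Nat.card_range_of_injective h1).symm
  obtain ⟨E, hE⟩ : ∃ E : Set (Multiset ℕ), E = {m | m ∈ T ∧ Even (m.sum + Multiset.card m)} := ⟨_, rfl⟩
  obtain ⟨O, hO⟩ : ∃ O : Set (Multiset ℕ), O = {m | m ∈ T ∧ ¬ Even (m.sum + Multiset.card m)} := ⟨_, rfl⟩
  obtain ⟨D, hD⟩ : ∃ D : Set (Multiset ℕ), D = {m | m ∈ T ∧ (∀ c ∈ m, Odd c) ∧ n ≤ m.sum + 1 ∧ ∀ i, m.count i ≤ 1} := ⟨_, rfl⟩
  have hEfin : E.Finite := hTfin.subset (by rw [hE]; exact fun m hm => hm.1)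
  have hOfin : O.Finite := hTfin.subset (by rw [hO]; exact fun m hm => hm.1)
  have hDfin : D.Finite := hTfin.subset (by rw [hD]; exact fun m hm => hm.1)
  have hEO : E.ncard + O.ncard = T.ncard := by
    have h1 : E ∪ O = T := by
      rw [hE, hO]
      ext m
      constructor
      · rintro (h | h) <;> exact h.1
      · intro h
        by_cases h2 : Even (m.sum + Multiset.card m)
        · exact Or.inl ⟨h, h2⟩
        · exact Or.inr ⟨h, h2⟩
    have h2 : Disjoint E O := by
      rw [hE, hO, Set.disjoint_left]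
      rintro m ⟨_, h3⟩ ⟨_, h4⟩
      exact h4 h3
    rw [← h1, Set.ncard_union_eq h2 hEfin hOfin]
  -- the alternating classes
  let τ : ConjClasses (alternatingGroup (Fin n)) → Multiset ℕ := fun c => ((Quotient.out c : alternatingGroup (Fin n)) : Equiv.Perm (Fin n)).cycleType
  have hmkout : ∀ c : ConjClasses (alternatingGroup (Fin n)), ConjClasses.mk (Quotient.out c) = c := fun c => Quotient.out_eq c
  have hτ1 : ∀ x y, τ x = τ y → τ x ∉ D → x = y := by
    intro x y hxy hxD
    have h1 : ¬ Subgroup.centralizer {((Quotient.out x : alternatingGroup (Fin n)) : Equiv.Perm (Fin n))} ≤ alternatingGroup (Fin n) := by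
      intro h2
      apply hxD
      have h3 := Equiv.Perm.centralizer_le_alternating_iff.1 h2
      rw [Fintype.card_fin] at h3
      rw [hD]
      refine ⟨?_, h3.1, h3.2.1, h3.2.2⟩
      rw [hT]
      exact ⟨_, rfl⟩
    have h2 := h8_isConj_alt _ _ hxy h1
    have h3 := ConjClasses.mk_eq_mk_iff_isConj.2 h2
    rwa [hmkout, hmkout] at h3
  have hτ2 : ∀ x y z, τ x = τ y → τ y = τ z → x = y ∨ y = z ∨ x = z := by
    intro x y z hxy hyz
    rcases h8_isConj_alt3 _ _ _ hxy hyz with h2 | h2 | h2
    · left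
      have h3 := ConjClasses.mk_eq_mk_iff_isConj.2 h2
      rwa [hmkout, hmkout] at h3
    · right; left
      have h3 := ConjClasses.mk_eq_mk_iff_isConj.2 h2
      rwa [hmkout, hmkout] at h3
    · right; right
      have h3 := ConjClasses.mk_eq_mk_iff_isConj.2 h2
      rwa [hmkout, hmkout] at h3
  have hcount := h8_count_fibres τ D hτ1 hτ2
  have hrangeE : Set.range τ ⊆ E := by
    rintro m ⟨c, rfl⟩
    rw [hE]
    refine ⟨?_, ?_⟩
    · rw [hT]
      exact ⟨_, rfl⟩
    · have h1 := (Quotient.out c : alternatingGroup (Fin n)).2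
      rw [Equiv.Perm.mem_alternatingGroup] at h1
      exact (h8_sign_one_iff _).1 h1
  have h1 : (Set.range τ).ncard ≤ E.ncard := Set.ncard_le_ncard hrangeE hEfin
  have h2 : (D ∩ Set.range τ).ncard ≤ D.ncard := Set.ncard_le_ncard Set.inter_subset_left hDfin
  -- the injection
  have hL : ∀ m ∈ D, ∃ L, L ∈ m ∧ 3 ≤ L := by
    intro m hm
    rw [hD] at hm
    obtain ⟨hm1, hm2, hm3, -⟩ := hm
    have hne : m ≠ 0 := by
      rintro rfl
      simp at hm3
      omega
    obtain ⟨x, hx⟩ := Multiset.exists_mem_of_ne_zero hne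
    refine ⟨x, hx, ?_⟩
    have h3 := ((hTmem m).1 hm1).2 x hx
    obtain ⟨k, rfl⟩ := hm2 x hx
    omega
  choose! Lf hLm hL3 using hL
  have hsumL : ∀ m ∈ D, Lf m + (m.erase (Lf m)).sum = m.sum := by
    intro m hm
    have h3 := congrArg Multiset.sum (Multiset.cons_erase (hLm m hm))
    rwa [Multiset.sum_cons] at h3
  have hcardL : ∀ m ∈ D, Multiset.card (m.erase (Lf m)) + 1 = Multiset.card m := by
    intro m hm
    have h3 := congrArg Multiset.card (Multiset.cons_erase (hLm m hm))
    rwa [Multiset.card_cons] at h3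
  have hoddL : ∀ m ∈ D, ∀ c ∈ m, Odd c := by
    intro m hm
    rw [hD] at hm
    exact hm.2.1
  have hfilter : ∀ m ∈ D, ((Lf m - 1) ::ₘ m.erase (Lf m)).filter Even = {Lf m - 1} := by
    intro m hm
    have h3 : Even (Lf m - 1) := by
      obtain ⟨k, hk⟩ := hoddL m hm _ (hLm m hm)
      have := hL3 m hm
      exact ⟨k, by omega⟩
    rw [Multiset.filter_cons_of_pos _ h3, Multiset.filter_eq_nil.2]
    · rfl
    · intro a ha h4
      have h5 := hoddL m hm a (Multiset.mem_of_mem_erase ha)
      exact (Nat.not_even_iff_odd.2 h5) h4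
  have hinj : Set.InjOn (fun m => (Lf m - 1) ::ₘ m.erase (Lf m)) D := by
    intro m hm m' hm' hmm
    have hmm' : (Lf m - 1) ::ₘ m.erase (Lf m) = (Lf m' - 1) ::ₘ m'.erase (Lf m') := hmm
    have h3 := congrArg (Multiset.filter Even) hmm'
    rw [hfilter m hm, hfilter m' hm'] at h3
    have h4 : Lf m - 1 = Lf m' - 1 := Multiset.singleton_inj.1 h3
    have h5 : Lf m = Lf m' := by
      have := hL3 m hm
      have := hL3 m' hm'
      omega
    rw [h4, h5] at hmm'
    have h6 := (Multiset.cons_inj_right _).1 hmm'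
    rw [← Multiset.cons_erase (hLm m hm), ← Multiset.cons_erase (hLm m' hm'), h5, h6]
  have hmaps : ∀ m ∈ D, (Lf m - 1) ::ₘ m.erase (Lf m) ∈ O \ {({2} : Multiset ℕ)} := by
    intro m hm
    have hm1 : m ∈ T := by
      rw [hD] at hm
      exact hm.1
    have hmT := (hTmem m).1 hm1
    have h3 := hL3 m hm
    have h4 := hsumL m hm
    have h5 := hcardL m hm
    refine ⟨?_, ?_⟩
    · rw [hO]
      refine ⟨?_, ?_⟩
      · rw [hTmem, Multiset.sum_cons]
        refine ⟨by have := hmT.1; omega, ?_⟩
        intro a ha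
        rw [Multiset.mem_cons] at ha
        rcases ha with rfl | ha
        · omega
        · exact hmT.2 a (Multiset.mem_of_mem_erase ha)
      · have h6 := h8_odd_even m (hoddL m hm)
        rw [Multiset.sum_cons, Multiset.card_cons]
        rw [Nat.even_iff] at h6 ⊢
        omega
    · intro h6
      rw [Set.mem_singleton_iff] at h6
      have h7 := hfilter m hm
      rw [h6] at h7
      have h8 : ({2} : Multiset ℕ).filter Even = {2} := by decide
      rw [h8] at h7
      have h9 : 2 = Lf m - 1 := Multiset.singleton_inj.1 h7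
      have h10 : (Lf m - 1) ::ₘ m.erase (Lf m) = (Lf m - 1) ::ₘ 0 := by
        rw [h6, ← h9]; rfl
      have h11 := (Multiset.cons_inj_right _).1 h10
      rw [h11] at h4
      have h12 : n ≤ m.sum + 1 := by
        rw [hD] at hm
        exact hm.2.2.1
      simp at h4
      omega
  have h2mem : ({2} : Multiset ℕ) ∈ O := by
    rw [hO]
    refine ⟨?_, by decide⟩
    rw [hTmem]
    refine ⟨by simp; omega, by simp⟩
  have hDO : D.ncard < O.ncard := by
    have h3 := Set.ncard_le_ncard_of_injOn _ hmaps hinj (hOfin.subset Set.sdiff_subset)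
    have h4 := Set.ncard_sdiff_singleton_lt_of_mem h2mem hOfin
    omega
  rw [hcardS]
  omega

/-- For n ≥ 5 the alternating group of degree n has strictly fewer conjugacy classes than the symmetric group of degree n, and the symmetric group of degree n (whose classes correspond to the partitions of n) has at most 2^(n−2) conjugacy classes. -/
theorem result (n : ℕ) (hn : 5 ≤ n) : Nat.card (ConjClasses (alternatingGroup (Fin n))) < Nat.card (ConjClasses (Equiv.Perm (Fin n))) ∧ Nat.card (ConjClasses (Equiv.Perm (Fin n))) ≤ 2 ^ (n - 2) := by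
  exact ⟨h8_main_lt n hn, (h8_card_conj_le n).trans (h8_partition_bound n hn)⟩

end Cfsg.Agent.S4198
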