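import Cfsg.Statements.S4231
import Cfsg.Agent.Lib.FGS.Basic
import Cfsg.Agent.Lib.FGS.AutAlt6
import Cfsg.Agent.S3835

set_option autoImplicit false
open Cfsg
open scoped commutatorElement
open scoped Pointwise

namespace Cfsg.Agent.S4231

set_option maxRecDepth 100000 in
theorem h8_cnt_c : (Finset.univ.filter (fun σ : Equiv.Perm (Fin 6) => σ^3=1 ∧ σ≠1 ∧ ∃a, σ a=a)).card = 40 := by decide +kernel
set_option maxRecDepth 100000 in
theorem h8_cnt_d : (Finset.univ.filter (fun σ : Equiv.Perm (Fin 6) => σ^3=1 ∧ σ≠1 ∧ ∀a, σ a≠a)).card = 40 := by decide +kernel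

theorem h8_three_iff (y : Equiv.Perm (Fin 6)) (ho : orderOf y = 3) :
    Equiv.Perm.IsThreeCycle y ↔ ∃ a, y a = a := by
  classical
  constructor
  · intro h
    have h1 := h.card_support
    by_contra hcon
    push Not at hcon
    have h2 : y.support = Finset.univ := by
      ext a
      simp [Equiv.Perm.mem_support, hcon a]
    rw [h2] at h1
    simp at h1
  · rintro ⟨a, ha⟩
    have hc : ∀ c ∈ y.cycleType, c = 3 := by
      intro c hcm
      have h1 : c ∣ 3 := by
        rw [← ho]
        exact Equiv.Perm.dvd_of_mem_cycleType hcm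
      have h2 : 2 ≤ c := Equiv.Perm.two_le_of_mem_cycleType hcm
      have h3 := Nat.le_of_dvd (by norm_num) h1
      interval_cases c
      · omega
      · rfl
    obtain ⟨k, hk⟩ : ∃ k, y.cycleType = Multiset.replicate k 3 :=
      ⟨_, Multiset.eq_replicate_card.mpr hc⟩
    have hsum : y.cycleType.sum = 3 * k := by
      rw [hk]; simp [mul_comm]
    have hle : 3 * k < 6 := by
      rw [← hsum, Equiv.Perm.sum_cycleType]
      have : y.support ⊂ Finset.univ := by
        rw [Finset.ssubset_univ_iff]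
        intro h
        have : a ∈ y.support := by rw [h]; exact Finset.mem_univ _
        rw [Equiv.Perm.mem_support] at this
        exact this ha
      simpa using Finset.card_lt_card this
    have hk0 : k ≠ 0 := by
      rintro rfl
      have : y.cycleType = 0 := by rw [hk]; simp
      rw [Equiv.Perm.cycleType_eq_zero] at this
      rw [this] at ho
      simp at ho
    have hk1 : k = 1 := by omega
    subst hk1
    rw [Equiv.Perm.IsThreeCycle, hk]
    simp

theorem h8_mem_alt {σ : Equiv.Perm (Fin 6)} (h : σ ^ 3 = 1) : σ ∈ alternatingGroup (Fin 6) := by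
  rw [Equiv.Perm.mem_alternatingGroup]
  have h1 : (Equiv.Perm.sign σ) ^ 3 = 1 := by rw [← map_pow, h, map_one]
  rcases Int.units_eq_one_or (Equiv.Perm.sign σ) with h2 | h2
  · exact h2
  · rw [h2] at h1
    exact absurd h1 (by decide)

theorem h8_bridge (Q : Equiv.Perm (Fin 6) → Prop) [DecidablePred Q] (h : ∀ σ, Q σ → σ ^ 3 = 1) :
    Nat.card {x : alternatingGroup (Fin 6) // Q x} = (Finset.univ.filter Q).card := by
  rw [← Fintype.card_coe, ← Nat.card_eq_fintype_card]
  refine Nat.card_congr ⟨fun x => ⟨x.1.1, by simpa using x.2⟩,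
    fun σ => ⟨⟨σ.1, h8_mem_alt (h _ (Finset.mem_filter.1 σ.2).2)⟩, (Finset.mem_filter.1 σ.2).2⟩, ?_, ?_⟩
  · intro x
    rfl
  · intro x
    rfl

theorem h8_three_of_odd (φ : MulAut (alternatingGroup (Fin 6))) (hφ : Odd (orderOf φ))
    (x : alternatingGroup (Fin 6)) (hx : Equiv.Perm.IsThreeCycle (x : Equiv.Perm (Fin 6))) :
    Equiv.Perm.IsThreeCycle ((φ x : alternatingGroup (Fin 6)) : Equiv.Perm (Fin 6)) := by
  classical
  by_contra hn
  have hord : ∀ z : alternatingGroup (Fin 6), orderOf (φ z) = orderOf z := by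
    intro z
    exact MulEquiv.orderOf_eq φ z
  have hcoe : ∀ z : alternatingGroup (Fin 6), orderOf (z : Equiv.Perm (Fin 6)) = orderOf z := fun z =>
    (Subgroup.orderOf_coe z)
  have h1 : ∀ z : alternatingGroup (Fin 6), Equiv.Perm.IsThreeCycle (z : Equiv.Perm (Fin 6)) →
      ¬ Equiv.Perm.IsThreeCycle ((φ z : alternatingGroup (Fin 6)) : Equiv.Perm (Fin 6)) := by
    intro z hz hz'
    have c : IsConj z x := alternatingGroup.isThreeCycle_isConj (by simp) hz hx
    obtain ⟨g, rfl⟩ := isConj_iff.1 c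
    apply hn
    have h2 : φ (g * z * g⁻¹) = φ g * φ z * (φ g)⁻¹ := by rw [map_mul, map_mul, map_inv]
    rw [h2]
    have h3 : IsConj (((φ z : alternatingGroup (Fin 6))) : Equiv.Perm (Fin 6)) ((φ g * φ z * (φ g)⁻¹ : alternatingGroup (Fin 6)) : Equiv.Perm (Fin 6)) :=
      isConj_iff.2 ⟨(φ g : Equiv.Perm (Fin 6)), rfl⟩
    rw [Equiv.Perm.IsThreeCycle, ← Equiv.Perm.isConj_iff_cycleType_eq.1 h3]
    exact hz'
  -- the counting
  have hC : Nat.card {z : alternatingGroup (Fin 6) // Equiv.Perm.IsThreeCycle (z : Equiv.Perm (Fin 6))} = 40 := by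
    rw [← h8_cnt_c, ← h8_bridge _ (fun σ h => h.1)]
    refine Nat.card_congr (Equiv.subtypeEquivRight ?_)
    intro z
    constructor
    · intro h
      have ho := h.orderOf
      have := (h8_three_iff _ ho).1 h
      refine ⟨by rw [← ho]; exact pow_orderOf_eq_one _, ?_, this⟩
      intro h1
      rw [h1, orderOf_one] at ho
      omega
    · rintro ⟨h3, hne, hfix⟩
      have ho : orderOf (z : Equiv.Perm (Fin 6)) = 3 := orderOf_eq_prime h3 hne
      exact (h8_three_iff _ ho).2 hfix
  have hD : Nat.card {z : alternatingGroup (Fin 6) // orderOf (z : Equiv.Perm (Fin 6)) = 3 ∧ ¬ Equiv.Perm.IsThreeCycle (z : Equiv.Perm (Fin 6))} = 40 := by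
    rw [← h8_cnt_d, ← h8_bridge _ (fun σ h => h.1)]
    refine Nat.card_congr (Equiv.subtypeEquivRight ?_)
    intro z
    constructor
    · rintro ⟨ho, hn3⟩
      refine ⟨by rw [← ho]; exact pow_orderOf_eq_one _, ?_, ?_⟩
      · intro h1
        rw [h1, orderOf_one] at ho
        omega
      · intro a ha
        exact hn3 ((h8_three_iff _ ho).2 ⟨a, ha⟩)
    · rintro ⟨h3, hne, hfix⟩
      have ho : orderOf (z : Equiv.Perm (Fin 6)) = 3 := orderOf_eq_prime h3 hne
      refine ⟨ho, fun h => ?_⟩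
      obtain ⟨a, ha⟩ := (h8_three_iff _ ho).1 h
      exact hfix a ha
  let C : Finset (alternatingGroup (Fin 6)) := Finset.univ.filter (fun z => Equiv.Perm.IsThreeCycle (z : Equiv.Perm (Fin 6)))
  let D : Finset (alternatingGroup (Fin 6)) := Finset.univ.filter (fun z => orderOf (z : Equiv.Perm (Fin 6)) = 3 ∧ ¬ Equiv.Perm.IsThreeCycle (z : Equiv.Perm (Fin 6)))
  have hCc : C.card = 40 := by
    rw [← hC, ← Fintype.card_subtype, Nat.card_eq_fintype_card]
  have hDc : D.card = 40 := by
    rw [← hD, ← Fintype.card_subtype, Nat.card_eq_fintype_card]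
  have hmemC : ∀ z, z ∈ C ↔ Equiv.Perm.IsThreeCycle (z : Equiv.Perm (Fin 6)) := by
    intro z
    simp [C]
  have hmemD : ∀ z, z ∈ D ↔ (orderOf (z : Equiv.Perm (Fin 6)) = 3 ∧ ¬ Equiv.Perm.IsThreeCycle (z : Equiv.Perm (Fin 6))) := by
    intro z
    simp [D]
  have himg : C.image φ = D := by
    refine Finset.eq_of_subset_of_card_le ?_ ?_
    · intro y hy
      obtain ⟨z, hz, rfl⟩ := Finset.mem_image.1 hy
      rw [hmemC] at hz
      rw [hmemD]
      refine ⟨?_, h1 z hz⟩
      rw [hcoe, hord, ← hcoe]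
      exact hz.orderOf
    · rw [Finset.card_image_of_injective _ φ.injective, hCc, hDc]
  have hDC : ∀ z, z ∈ D → φ z ∈ C := by
    intro z hz
    rw [hmemC]
    by_contra hn3
    have hz2 := (hmemD z).1 hz
    have h2 : φ z ∈ D := by
      rw [hmemD]
      refine ⟨?_, hn3⟩
      rw [hcoe, hord, ← hcoe]
      exact hz2.1
    rw [← himg] at h2
    obtain ⟨w, hw, hwz⟩ := Finset.mem_image.1 h2
    have := φ.injective hwz
    rw [this, hmemC] at hw
    exact hz2.2 hw
  have hCD : ∀ z, z ∈ C → φ z ∈ D := by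
    intro z hz
    rw [← himg]
    exact Finset.mem_image_of_mem _ hz
  have hind : ∀ k : ℕ, (φ ^ (2 * k)) x ∈ C := by
    intro k
    induction k with
    | zero => simpa [hmemC] using hx
    | succ k ih =>
      have : φ ^ (2 * (k + 1)) = φ * (φ * φ ^ (2 * k)) := by
        rw [← mul_assoc, ← pow_two, ← pow_add]
        congr 1
        ring
      rw [this]
      exact hDC _ (hCD _ ih)
  obtain ⟨k, hk⟩ := hφ
  have h5 : (φ ^ (2 * k + 1)) x ∈ D := by
    have : φ ^ (2 * k + 1) = φ * φ ^ (2 * k) := by rw [pow_succ']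
    rw [this]
    exact hCD _ (hind k)
  rw [← hk, pow_orderOf_eq_one] at h5
  exact ((hmemD x).1 h5).2 hx

theorem h8_exists_sigma (n : ℕ) (hn : 5 ≤ n) (y : MulAut (alternatingGroup (Fin n))) (hy : Odd (orderOf y)) :
    ∃ σ : Equiv.Perm (Fin n), MulAut.conjNormal σ = y := by
  by_cases h6 : n = 6
  · subst h6
    exact CfsgLib.H9.AutAlt.surj_of_three' 6 (by norm_num) y (fun x hx => h8_three_of_odd y hy x hx)
  · exact (CfsgLib.H9.AutAlt.main n (by omega) h6).2 y

theorem h8_t_order (m : ℕ) [hm : Fact m.Prime] : orderOf (Equiv.addRight (1 : ZMod m) : Equiv.Perm (ZMod m)) = m := by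
  have hk : ∀ (k : ℕ) (a : ZMod m), ((Equiv.addRight (1 : ZMod m) : Equiv.Perm (ZMod m)) ^ k) a = a + k := by
    intro k
    induction k with
    | zero => intro a; simp
    | succ k ih =>
      intro a
      rw [pow_succ', Equiv.Perm.mul_apply, ih]
      simp [add_assoc]
  refine orderOf_eq_prime ?_ ?_
  · ext a
    rw [hk]
    simp
  · intro h
    have := congrArg (fun f : Equiv.Perm (ZMod m) => f 0) h
    simp at this

theorem h8_elt (n p q : ℕ) [hp : Fact p.Prime] [hq : Fact q.Prime] (hlt : p < q) (hn : q ^ 2 ≤ n) :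
    ∃ x : alternatingGroup (Fin n), orderOf x = p * q := by
  classical
  have hp2 := hp.out.two_le
  have hq3 : 3 ≤ q := by omega
  have hcard : Fintype.card (ZMod q ⊕ (ZMod p ⊕ ZMod p)) ≤ Fintype.card (Fin n) := by
    simp only [Fintype.card_sum, ZMod.card, Fintype.card_fin]
    have h1 : 3 * q ≤ q * q := Nat.mul_le_mul_right q hq3
    rw [pow_two] at hn
    omega
  obtain ⟨ι⟩ := Function.Embedding.nonempty_of_card_le hcard
  let f : (Equiv.Perm (ZMod q) × Equiv.Perm (ZMod p ⊕ ZMod p)) →* Equiv.Perm (Fin n) :=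
    (Equiv.Perm.viaEmbeddingHom ι).comp (Equiv.Perm.sumCongrHom (ZMod q) (ZMod p ⊕ ZMod p))
  have hf : Function.Injective f :=
    (Equiv.Perm.viaEmbeddingHom_injective ι).comp (Equiv.Perm.sumCongrHom_injective)
  let tq : Equiv.Perm (ZMod q) := Equiv.addRight 1
  let tp : Equiv.Perm (ZMod p) := Equiv.addRight 1
  have htq : tq ^ q = 1 := by
    have := pow_orderOf_eq_one tq
    rwa [show orderOf tq = q from h8_t_order q] at this
  have htp : tp ^ p = 1 := by
    have := pow_orderOf_eq_one tp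
    rwa [show orderOf tp = p from h8_t_order p] at this
  have htq1 : tq ≠ 1 := by
    intro h
    have : orderOf tq = q := h8_t_order q
    rw [h, orderOf_one] at this
    omega
  have htp1 : tp ≠ 1 := by
    intro h
    have : orderOf tp = p := h8_t_order p
    rw [h, orderOf_one] at this
    omega
  let e : Equiv.Perm (ZMod p ⊕ ZMod p) := Equiv.Perm.sumCongr tp tp
  have he : e ^ p = 1 := by
    have : e = Equiv.Perm.sumCongrHom _ _ (tp, tp) := rfl
    rw [this, ← map_pow, Prod.pow_mk, htp, map_eq_one_iff _ Equiv.Perm.sumCongrHom_injective]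
    rfl
  have he1 : e ≠ 1 := by
    intro h
    have h1 : Equiv.Perm.sumCongrHom _ _ (tp, tp) = 1 := h
    rw [map_eq_one_iff _ Equiv.Perm.sumCongrHom_injective] at h1
    exact htp1 (congrArg Prod.fst h1)
  obtain ⟨Y, hY⟩ : ∃ Y, Y = f (tq, 1) := ⟨_, rfl⟩
  obtain ⟨Z, hZ⟩ : ∃ Z, Z = f (1, e) := ⟨_, rfl⟩
  have hYo : orderOf Y = q := by
    refine orderOf_eq_prime ?_ ?_
    · rw [hY, ← map_pow, Prod.pow_mk, htq, one_pow]
      exact map_one f
    · rw [hY, Ne, map_eq_one_iff f hf]
      intro h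
      exact htq1 (congrArg Prod.fst h)
  have hZo : orderOf Z = p := by
    refine orderOf_eq_prime ?_ ?_
    · rw [hZ, ← map_pow, Prod.pow_mk, he, one_pow]
      exact map_one f
    · rw [hZ, Ne, map_eq_one_iff f hf]
      intro h
      exact he1 (congrArg Prod.snd h)
  have hcomm : Commute Y Z := by
    rw [hY, hZ]
    apply Commute.map
    show (tq, (1 : Equiv.Perm (ZMod p ⊕ ZMod p))) * (1, e) = (1, e) * (tq, 1)
    simp [Prod.mk_mul_mk]
  have hcop : Nat.Coprime (orderOf Y) (orderOf Z) := by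
    rw [hYo, hZo]
    exact (Nat.coprime_primes hq.out hp.out).2 (by omega)
  have hordx : orderOf (Y * Z) = p * q := by
    rw [hcomm.orderOf_mul_eq_mul_orderOf_of_coprime hcop, hYo, hZo, mul_comm]
  have hqodd : Odd q := hq.out.odd_of_ne_two (by omega)
  have hsY : Equiv.Perm.sign Y = 1 := by
    have h1 : (Equiv.Perm.sign Y) ^ q = 1 := by
      rw [← map_pow, ← hYo, pow_orderOf_eq_one, map_one]
    rcases Int.units_eq_one_or (Equiv.Perm.sign Y) with h2 | h2
    · exact h2
    · rw [h2, hqodd.neg_one_pow] at h1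
      exact absurd h1 (by decide)
  have hsZ : Equiv.Perm.sign Z = 1 := by
    have h1 : Z = Equiv.Perm.viaEmbedding (Equiv.Perm.sumCongr 1 e) ι := by
      rw [hZ]
      rfl
    rw [h1, Equiv.Perm.viaEmbedding, Equiv.Perm.sign_extendDomain, Equiv.Perm.sign_sumCongr,
      Equiv.Perm.sign_sumCongr, map_one, one_mul, Int.units_mul_self]
  have hmem : Y * Z ∈ alternatingGroup (Fin n) := by
    rw [Equiv.Perm.mem_alternatingGroup, map_mul, hsY, hsZ, one_mul]
  exact ⟨⟨Y * Z, hmem⟩, by rw [Subgroup.orderOf_mk]; exact hordx⟩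

theorem h8_main (n : ℕ) (hn : 5 ≤ n) (G : Subgroup (MulAut (alternatingGroup (Fin n))))
    (hG : (MulAut.conj : alternatingGroup (Fin n) →* MulAut (alternatingGroup (Fin n))).range ≤ G)
    (p q : ℕ) [hp : Fact p.Prime] [hq : Fact q.Prime] (hlt : p < q) (h : ∀ g : G, orderOf g ≠ p * q) :
    ∀ Q : Sylow q G, IsMulCommutative (Q : Subgroup G) := by
  classical
  intro Q
  have hp2 := hp.out.two_le
  have hqodd : Odd q := hq.out.odd_of_ne_two (by omega)
  have hcN : ∀ x : alternatingGroup (Fin n), (MulAut.conj x : MulAut (alternatingGroup (Fin n))) = MulAut.conjNormal (x : Equiv.Perm (Fin n)) := by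
    intro x
    ext g
    simp [MulAut.conjNormal_apply, MulAut.conj_apply]
  have hinjN := CfsgLib.H9.AutAlt.conjNormal_inj' n (by omega)
  by_cases hq2 : q ^ 2 ≤ n
  · exfalso
    obtain ⟨x, hx⟩ := h8_elt n p q hlt hq2
    have hinj : Function.Injective (MulAut.conj : alternatingGroup (Fin n) →* MulAut (alternatingGroup (Fin n))) := by
      intro a b hab
      rw [hcN, hcN] at hab
      exact Subtype.ext (hinjN hab)
    apply h ⟨MulAut.conj x, hG ⟨x, rfl⟩⟩
    rw [Subgroup.orderOf_mk, orderOf_injective _ hinj, hx]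
  · have hpab := Cfsg.Agent.S3835.h8_pab (α := Fin n) q (by simpa using not_le.1 hq2)
    obtain ⟨S, hSd⟩ : ∃ S, S = ((Q : Subgroup G).map G.subtype).comap (MulAut.conjNormal : Equiv.Perm (Fin n) →* MulAut (alternatingGroup (Fin n))) := ⟨_, rfl⟩
    have hSp : IsPGroup q S := by
      rintro ⟨σ, hσ⟩
      rw [hSd] at hσ
      obtain ⟨g, hg, hgσ⟩ := hσ
      obtain ⟨k, hk⟩ := Q.isPGroup' ⟨g, hg⟩
      refine ⟨k, Subtype.ext ?_⟩
      apply hinjN
      have h1 := congrArg (fun z : (Q : Subgroup G) => ((z : G) : MulAut (alternatingGroup (Fin n)))) hk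
      simp only [Subgroup.coe_pow, Subgroup.coe_one] at h1
      show MulAut.conjNormal (σ ^ q ^ k) = MulAut.conjNormal 1
      rw [map_pow, map_one, ← hgσ]
      exact h1
    have hodd : ∀ g : (Q : Subgroup G), ∃ σ : Equiv.Perm (Fin n), σ ∈ S ∧ MulAut.conjNormal σ = ((g : G) : MulAut (alternatingGroup (Fin n))) := by
      intro g
      obtain ⟨k, hk⟩ := Q.isPGroup' g
      have h1 := congrArg (fun z : (Q : Subgroup G) => ((z : G) : MulAut (alternatingGroup (Fin n)))) hk
      simp only [Subgroup.coe_pow, Subgroup.coe_one] at h1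
      have h2 : Odd (orderOf ((g : G) : MulAut (alternatingGroup (Fin n)))) :=
        Odd.of_dvd_nat (hqodd.pow) (orderOf_dvd_of_pow_eq_one h1)
      obtain ⟨σ, hσ⟩ := h8_exists_sigma n hn _ h2
      refine ⟨σ, ?_, hσ⟩
      rw [hSd]
      exact ⟨g, g.2, hσ.symm⟩
    refine ⟨⟨fun a b => ?_⟩⟩
    obtain ⟨σa, ha, hae⟩ := hodd a
    obtain ⟨σb, hb, hbe⟩ := hodd b
    have h3 := hpab S hSp σa ha σb hb
    apply Subtype.ext
    apply Subtype.ext
    show ((a : G) : MulAut (alternatingGroup (Fin n))) * ((b : G) : MulAut (alternatingGroup (Fin n))) = ((b : G) : MulAut (alternatingGroup (Fin n))) * ((a : G) : MulAut (alternatingGroup (Fin n)))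
    rw [← hae, ← hbe, ← map_mul, ← map_mul, h3]


/-- Let n ≥ 5 and let G be a group of automorphisms of the alternating group of degree n containing all inner automorphisms. If p ≠ q are primes and G has no element of order pq, then every Sylow p-subgroup of G is abelian or every Sylow q-subgroup of G is abelian. -/
theorem result (n : ℕ) (hn : 5 ≤ n) (G : Subgroup (MulAut (alternatingGroup (Fin n))))
    (hG : (MulAut.conj : alternatingGroup (Fin n) →* MulAut (alternatingGroup (Fin n))).range ≤ G)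
    (p q : ℕ) [Fact p.Prime] [Fact q.Prime] (hpq : p ≠ q) (h : ∀ g : G, orderOf g ≠ p * q) :
    (∀ P : Sylow p G, IsMulCommutative (P : Subgroup G)) ∨ (∀ Q : Sylow q G, IsMulCommutative (Q : Subgroup G)) := by
  rcases lt_or_gt_of_ne hpq with hlt | hlt
  · right
    exact h8_main n hn G hG p q hlt h
  · left
    exact h8_main n hn G hG q p hlt (fun g => by rw [mul_comm]; exact h g)

end Cfsg.Agent.S4231
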