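import Cfsg.Statements.S4347
import Cfsg.Agent.Lib.FGS.Elem

set_option autoImplicit false
open Cfsg

namespace Cfsg.Agent.S4347

/-- Let G be a finite group and p a prime. Say a Sylow p-subgroup Q is redundant when every element of p-power order lies in some Sylow p-subgroup other than Q. Then G has no redundant Sylow p-subgroup if and only if some element of p-power order lies in exactly one Sylow p-subgroup. -/
theorem result {G : Type*} [Group G] [Finite G]
    (p : ℕ) [Fact p.Prime] :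
    (¬ ∃ Q : Sylow p G, ∀ x : G, (∃ k : ℕ, orderOf x = p ^ k) → ∃ P : Sylow p G, P ≠ Q ∧ x ∈ P) ↔
      ∃ x : G, (∃ k : ℕ, orderOf x = p ^ k) ∧ ∃! P : Sylow p G, x ∈ P := by
  constructor
  · intro h
    obtain ⟨Q⟩ : Nonempty (Sylow p G) := inferInstance
    have h1 : ¬ ∀ x : G, (∃ k : ℕ, orderOf x = p ^ k) → ∃ P : Sylow p G, P ≠ Q ∧ x ∈ P :=
      fun hh => h ⟨Q, hh⟩
    simp only [not_forall, not_exists, not_and] at h1
    obtain ⟨x, hx, h2⟩ := h1
    refine ⟨x, hx, Q, ?_, ?_⟩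
    · -- `x` lies in some Sylow subgroup
      obtain ⟨k, hk⟩ := hx
      have hpg : IsPGroup p (Subgroup.zpowers x) := by
        rw [IsPGroup.iff_card, Nat.card_zpowers, hk]
        exact ⟨k, rfl⟩
      obtain ⟨R, hR⟩ := hpg.exists_le_sylow
      by_cases hRQ : R = Q
      · exact hRQ ▸ hR (Subgroup.mem_zpowers x)
      · exact absurd (hR (Subgroup.mem_zpowers x)) (h2 R hRQ)
    · intro R hR
      by_contra hRQ
      exact h2 R hRQ hR
  · rintro ⟨x, hx, P, hxP, huniq⟩ ⟨Q, hQ⟩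
    obtain ⟨g, hg⟩ := MulAction.exists_smul_eq G P Q
    have hx' : ∃ k : ℕ, orderOf (g * x * g⁻¹) = p ^ k := by
      obtain ⟨k, hk⟩ := hx
      exact ⟨k, by rw [CfsgLib.FGS.orderOf_conj_eq, hk]⟩
    obtain ⟨R, hRQ, hR⟩ := hQ _ hx'
    have h1 : x ∈ g⁻¹ • R := by
      show x ∈ ((g⁻¹ • R : Sylow p G) : Subgroup G)
      rw [Sylow.coe_subgroup_smul, CfsgLib.FGS.mem_conj_smul_iff]
      have h0 : g⁻¹⁻¹ * x * g⁻¹ = g * x * g⁻¹ := by group
      rw [h0]
      exact hR
    have h2 := huniq _ h1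
    apply hRQ
    rw [← hg, ← h2]
    simp

end Cfsg.Agent.S4347
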