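import Cfsg.Statements.S4348
import Cfsg.Agent.Lib.FGS.Elem
import Cfsg.Agent.Lib.Solv.Core

set_option autoImplicit false
open Cfsg

namespace Cfsg.Agent.S4348

/-- Let G be a finite group, p a prime and P a Sylow p-subgroup of G, and let O_p(G) be the largest normal p-subgroup of G. If P/O_p(G) is cyclic, then some element of p-power order of G lies in exactly one Sylow p-subgroup. -/
theorem result {G : Type*} [Group G] [Finite G]
    (p : ℕ) [Fact p.Prime] (P : Sylow p G)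
    [hn : ((Cfsg.pCore p G).subgroupOf (P : Subgroup G)).Normal]
    (hc : IsCyclic ((P : Subgroup G) ⧸ (Cfsg.pCore p G).subgroupOf (P : Subgroup G))) :
    ∃ x : G, (∃ k : ℕ, orderOf x = p ^ k) ∧ ∃! Q : Sylow p G, x ∈ Q := by
  classical
  have hOQ : ∀ Q : Sylow p G, Cfsg.pCore p G ≤ (Q : Subgroup G) := fun Q => CfsgLib.Solv.pCore_le_of_isPGroup_normal Q
  obtain ⟨c, hc⟩ := hc
  obtain ⟨y, rfl⟩ := QuotientGroup.mk_surjective c
  refine ⟨(y : G), ?_, P, y.2, ?_⟩
  · have hpg := P.isPGroup'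
    obtain ⟨k, hk⟩ := IsPGroup.iff_orderOf.mp hpg y
    exact ⟨k, by rw [← hk, Subgroup.orderOf_coe]⟩
  · intro Q hQ
    have hle : (P : Subgroup G) ≤ Q := by
      intro z hz
      obtain ⟨n, hn⟩ := hc (QuotientGroup.mk ⟨z, hz⟩)
      have h1 : (QuotientGroup.mk (y ^ n) : (P : Subgroup G) ⧸ (Cfsg.pCore p G).subgroupOf (P : Subgroup G)) = QuotientGroup.mk ⟨z, hz⟩ := by
        rw [QuotientGroup.mk_zpow]
        exact hn
      rw [QuotientGroup.eq] at h1
      have h2 : ((y ^ n)⁻¹ * ⟨z, hz⟩ : (P : Subgroup G)).1 ∈ Cfsg.pCore p G := h1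
      have h3 := hOQ Q h2
      have h4 : (y.1 ^ n) ∈ (Q : Subgroup G) := Subgroup.zpow_mem _ hQ n
      have h5 : z = (y.1 ^ n) * ((y ^ n)⁻¹ * ⟨z, hz⟩ : (P : Subgroup G)).1 := by
        simp
      rw [h5]
      exact Subgroup.mul_mem _ h4 h3
    exact Sylow.ext ((P.3 Q.2 hle)).symm ▸ rfl

end Cfsg.Agent.S4348
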