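import Cfsg.Statements.S4419
import Cfsg.Agent.Lib.FGS.Cover
import Cfsg.Agent.Lib.Trans.Frob
import Cfsg.Agent.Lib.Solv.PGroup
import Cfsg.Agent.Lib.Solv.Act

set_option autoImplicit false
open Cfsg
open scoped commutatorElement
open scoped Pointwise

namespace Cfsg.Agent.S4419

theorem h8_meta_sub {D R : Type*} [Group D] [Group R] (f : D →* R) (hf : Function.Injective f)
    (h : Cfsg.IsMetacyclic R) : Cfsg.IsMetacyclic D := by
  obtain ⟨N, hN, hc, hq⟩ := h
  let g : D →* R ⧸ N := (QuotientGroup.mk' N).comp f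
  refine ⟨g.ker, inferInstance, ?_, ?_⟩
  · let ι : g.ker →* N :=
      { toFun := fun x => ⟨f x, by
          have h1 : g x = 1 := x.2
          exact (QuotientGroup.eq_one_iff _).1 h1⟩
        map_one' := by
          apply Subtype.ext
          simp
        map_mul' := by
          intro a b
          apply Subtype.ext
          simp }
    have hι : Function.Injective ι := by
      intro a b hab
      have h1 : f a = f b := congrArg Subtype.val hab
      exact Subtype.ext (hf h1)
    exact isCyclic_of_injective ι hι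
  · let e := QuotientGroup.quotientKerEquivRange g
    exact isCyclic_of_surjective e.symm.toMonoidHom e.symm.surjective

theorem h8_meta_card {R : Type*} [Group R] [Finite R] (p : ℕ) [Fact p.Prime] (hR : IsPGroup p R)
    (h : Cfsg.IsMetacyclic R) : Nat.card (R ⧸ frattini R) ≤ p ^ 2 := by
  classical
  obtain ⟨N, hN, hc, hq⟩ := h
  obtain ⟨a, ha⟩ := IsCyclic.exists_generator (α := N)
  obtain ⟨b', hb'⟩ := IsCyclic.exists_generator (α := R ⧸ N)
  obtain ⟨b, rfl⟩ := QuotientGroup.mk_surjective b'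
  have hdec : ∀ x : R, ∃ j i : ℕ, x = b ^ j * (a : R) ^ i := by
    intro x
    obtain ⟨j, hj⟩ := mem_powers_iff_mem_zpowers.2 (hb' (x : R ⧸ N))
    replace hj : ((b : R ⧸ N)) ^ j = x := hj
    have h1 : (b ^ j)⁻¹ * x ∈ N := by
      apply QuotientGroup.eq.1
      rw [QuotientGroup.mk_pow, hj]
    obtain ⟨i, hi⟩ := mem_powers_iff_mem_zpowers.2 (ha ⟨_, h1⟩)
    replace hi : a ^ i = ⟨_, h1⟩ := hi
    refine ⟨j, i, ?_⟩
    have h2 : ((a ^ i : N) : R) = (b ^ j)⁻¹ * x := by rw [hi]
    rw [Subgroup.coe_pow] at h2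
    rw [h2]
    group
  have hexp : ∀ e : R ⧸ frattini R, e ^ p = 1 := by
    intro e
    obtain ⟨x, rfl⟩ := QuotientGroup.mk_surjective e
    rw [← QuotientGroup.mk_pow, QuotientGroup.eq_one_iff]
    exact (CfsgLib.Solv.pgroup_commutator_pow_le_frattini hR).2 x
  have hp : 0 < p := (Fact.out : p.Prime).pos
  let F : Fin p × Fin p → R ⧸ frattini R :=
    fun t => (b : R ⧸ frattini R) ^ (t.1 : ℕ) * (((a : R)) : R ⧸ frattini R) ^ (t.2 : ℕ)
  have hF : Function.Surjective F := by
    intro e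
    obtain ⟨x, rfl⟩ := QuotientGroup.mk_surjective e
    obtain ⟨j, i, rfl⟩ := hdec x
    refine ⟨(⟨j % p, Nat.mod_lt _ hp⟩, ⟨i % p, Nat.mod_lt _ hp⟩), ?_⟩
    show (b : R ⧸ frattini R) ^ (j % p) * (((a : R)) : R ⧸ frattini R) ^ (i % p) = _
    rw [← pow_eq_pow_mod _ (hexp _), ← pow_eq_pow_mod _ (hexp _)]
    rfl
  have h1 := Nat.card_le_card_of_surjective F hF
  rw [Nat.card_prod, Nat.card_fin, sq] at *
  exact h1

theorem h8_prime_dvd {Q : Type*} [Group Q] [Finite Q] (p l k : ℕ) [Fact p.Prime] [Fact l.Prime] (hlp : l ≠ p)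
    (hQ : IsPGroup p Q) (σ : MulAut Q) (hσ : σ ^ (l ^ k) = 1)
    (hcard : Nat.card (Q ⧸ frattini Q) ≤ p ^ 2) (x : Q) (hx : σ x * x⁻¹ ∉ frattini Q) :
    l ∣ p ^ 2 - 1 := by
  classical
  have hpp : p.Prime := Fact.out
  have hlp' : l.Prime := Fact.out
  haveI : Fintype (Q ⧸ frattini Q) := Fintype.ofFinite _
  have hmap : (frattini Q).map σ.toMonoidHom = frattini Q :=
    (Subgroup.characteristic_iff_map_eq.1 inferInstance) σ
  let α : (Q ⧸ frattini Q) ≃* (Q ⧸ frattini Q) := QuotientGroup.congr _ _ σ hmap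
  have hα : ∀ y : Q, α (y : Q ⧸ frattini Q) = ((σ y : Q) : Q ⧸ frattini Q) := fun y => rfl
  let f : Function.End (Q ⧸ frattini Q) := fun e => α e
  have hfp : ∀ (n : ℕ) (y : Q), (f ^ n) (y : Q ⧸ frattini Q) = (((σ ^ n) y : Q) : Q ⧸ frattini Q) := by
    intro n
    induction n with
    | zero => intro y; simp; rfl
    | succ n ih =>
      intro y
      rw [pow_succ, Function.End.mul_def]
      show (f ^ n) (f (y : Q ⧸ frattini Q)) = _
      have h1 : f (y : Q ⧸ frattini Q) = ((σ y : Q) : Q ⧸ frattini Q) := hα y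
      rw [h1, ih, pow_succ]
      rfl
  have hf : f ^ l ^ k = 1 := by
    funext e
    obtain ⟨y, rfl⟩ := QuotientGroup.mk_surjective e
    rw [hfp, hσ]
    rfl
  have hmod := Equiv.Perm.card_fixedPoints_modEq hf
  -- the fixed points form a proper subgroup
  obtain ⟨Fx, hFx⟩ : ∃ Fx : Subgroup (Q ⧸ frattini Q), ∀ e, e ∈ Fx ↔ α e = e :=
    ⟨{ carrier := {e | α e = e}
       mul_mem' := by
        intro a b ha hb
        show α (a * b) = a * b
        rw [map_mul, show α a = a from ha, show α b = b from hb]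
       one_mem' := by
        show α 1 = 1
        exact map_one α
       inv_mem' := by
        intro a ha
        show α a⁻¹ = a⁻¹
        rw [map_inv, show α a = a from ha] }, fun _ => Iff.rfl⟩
  have hcFx : Fintype.card (Function.fixedPoints f) = Nat.card Fx := by
    rw [← Nat.card_eq_fintype_card]
    apply Nat.card_congr
    exact Equiv.subtypeEquivRight (fun e => (hFx e).symm)
  have hFxne : Fx ≠ ⊤ := by
    intro htop
    have h1 : ((x : Q) : Q ⧸ frattini Q) ∈ Fx := by rw [htop]; trivial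
    have h2 := (hFx _).1 h1
    rw [hα] at h2
    apply hx
    have h3 : (σ x)⁻¹ * x ∈ frattini Q := QuotientGroup.eq.1 h2
    have h4 : x⁻¹ * σ x ∈ frattini Q := by
      have := (frattini Q).inv_mem h3
      simpa using this
    have h5 : (frattini Q).Normal := inferInstance
    have h6 := h5.conj_mem _ h4 x
    have h7 : x * (x⁻¹ * σ x) * x⁻¹ = σ x * x⁻¹ := by group
    rwa [h7] at h6
  obtain ⟨e, he⟩ := (IsPGroup.iff_card).1 (hQ.to_quotient (frattini Q))
  obtain ⟨t, ht⟩ := (IsPGroup.iff_card).1 ((hQ.to_quotient (frattini Q)).to_subgroup Fx)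
  have hlt : Nat.card Fx < Nat.card (Q ⧸ frattini Q) := by
    refine lt_of_le_of_ne (Subgroup.card_le_card_group Fx) (fun h => hFxne ?_)
    exact Subgroup.eq_top_of_card_eq Fx h
  rw [ht, he] at hlt
  have hte : t < e := (Nat.pow_lt_pow_iff_right hpp.one_lt).1 hlt
  have he2 : e ≤ 2 := by
    rw [he] at hcard
    exact (Nat.pow_le_pow_iff_right hpp.one_lt).1 hcard
  rw [hcFx, ht, ← Nat.card_eq_fintype_card, he] at hmod
  have hcop : Nat.gcd l p = 1 := (Nat.coprime_primes hlp' hpp).2 hlp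
  have hfinal : p ^ 2 ≡ 1 [MOD l] := by
    have hcases : (e = 1 ∧ t = 0) ∨ (e = 2 ∧ t = 0) ∨ (e = 2 ∧ t = 1) := by omega
    rcases hcases with ⟨rfl, rfl⟩ | ⟨rfl, rfl⟩ | ⟨rfl, rfl⟩
    · have h1 : p ≡ 1 [MOD l] := by simpa using hmod
      simpa using h1.pow 2
    · simpa using hmod
    · have h1 : p * p ≡ p * 1 [MOD l] := by simpa [sq] using hmod
      have h2 : p ≡ 1 [MOD l] := Nat.ModEq.cancel_left_of_coprime hcop h1
      simpa using h2.pow 2
  exact (Nat.modEq_iff_dvd' (Nat.one_le_pow _ _ hpp.pos)).1 hfinal.symm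

theorem h8_primary {G : Type*} [Group G] [Finite G] (C : Subgroup G) :
    ∀ (n : ℕ) (g : G), orderOf g = n → g ∉ C → ∃ l k m : ℕ, l.Prime ∧ (g ^ m) ^ (l ^ k) = 1 ∧ g ^ m ∉ C := by
  intro n
  induction n using Nat.strong_induction_on with
  | _ n ih =>
    intro g hg hgC
    have hg1 : n ≠ 1 := by
      rintro rfl
      apply hgC
      rw [orderOf_eq_one_iff.1 hg]
      exact C.one_mem
    have hn0 : n ≠ 0 := by
      rw [← hg]; exact (orderOf_pos g).ne'
    obtain ⟨l, hl, hld⟩ := Nat.exists_prime_and_dvd hg1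
    obtain ⟨a, m, hm, hnm⟩ := Nat.exists_eq_pow_mul_and_not_dvd hn0 l hl.ne_one
    by_cases hu : g ^ m ∈ C
    · by_cases hv : g ^ (l ^ a) ∈ C
      · exfalso
        apply hgC
        have hcop : Nat.Coprime (l ^ a) m := Nat.Coprime.pow_left a ((Nat.Prime.coprime_iff_not_dvd hl).2 hm)
        have h1 := Nat.gcd_eq_gcd_ab (l ^ a) m
        rw [hcop] at h1
        have h2 : g = (g ^ (l ^ a)) ^ (Nat.gcdA (l ^ a) m) * (g ^ m) ^ (Nat.gcdB (l ^ a) m) := by
          rw [← zpow_natCast, ← zpow_natCast, ← zpow_mul, ← zpow_mul, ← zpow_add]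
          rw [← h1]
          simp
        rw [h2]
        exact C.mul_mem (C.zpow_mem hv _) (C.zpow_mem hu _)
      · have hlt : orderOf (g ^ (l ^ a)) < n := by
          have hpos : 0 < l ^ a := pow_pos hl.pos a
          have h3 : orderOf (g ^ (l ^ a)) = orderOf g / Nat.gcd (orderOf g) (l ^ a) := orderOf_pow' g hpos.ne'
          rw [h3, hg]
          have h4 : Nat.gcd n (l ^ a) = l ^ a := Nat.gcd_eq_right (hnm ▸ Dvd.intro _ rfl)
          rw [h4, hnm, Nat.mul_div_cancel_left _ hpos]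
          have ha : a ≠ 0 := by
            rintro rfl
            apply hm
            rw [hnm] at hld
            simpa using hld
          have hm0 : 0 < m := by
            rcases Nat.eq_zero_or_pos m with h | h
            · rw [h] at hm
              exact absurd (dvd_zero l) hm
            · exact h
          have h5 : 1 < l ^ a := Nat.one_lt_pow ha hl.one_lt
          nlinarith
        obtain ⟨l', k', m', hl', h1, h2⟩ := ih _ hlt (g ^ (l ^ a)) rfl hv
        refine ⟨l', k', l ^ a * m', hl', ?_, ?_⟩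
        · rw [pow_mul]; exact h1
        · rw [pow_mul]; exact h2
    · refine ⟨l, a, m, hl, ?_, hu⟩
      rw [← pow_mul, mul_comm, ← hnm, ← hg, pow_orderOf_eq_one]


/-- Let p be a prime and G a finite group whose Sylow p-subgroups are metacyclic (a cyclic normal subgroup with cyclic quotient). Then G has a normal p-complement if and only if the order of G/O_{p′,p}(G) is coprime to p² − 1. -/
theorem result {G : Type*} [Group G] [Finite G] (p : ℕ) [Fact p.Prime] (S : Sylow p G) (hS : Cfsg.IsMetacyclic ↥(S : Subgroup G)) : Cfsg.HasNormalPComplement p G ↔ Nat.Coprime (Nat.card (G ⧸ Cfsg.pPrimePCore p G)) (p ^ 2 - 1) := by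
  classical
  have hpp : p.Prime := Fact.out
  haveI hMn : (Cfsg.pPrimeCore p G).Normal := CfsgLib.Solv.pPrimeCore_normal' p
  haveI hKn : (Cfsg.pPrimePCore p G).Normal := by
    unfold Cfsg.pPrimePCore
    haveI : (Cfsg.pCore p (G ⧸ Cfsg.pPrimeCore p G)).Normal := CfsgLib.Solv.pCore_normal' p
    exact Subgroup.Normal.comap inferInstance _
  constructor
  · rintro ⟨P, N, hn, hc⟩
    haveI := hn
    have hNcop : (Nat.card N).Coprime p := by
      have h1 := hc.card_mul_card
      obtain ⟨k, hk⟩ := (IsPGroup.iff_card).1 P.2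
      have h2 : ¬ p ∣ Nat.card N := by
        intro h3
        have h4 := P.not_dvd_index
        apply h4
        rw [hc.index_eq_card]
        exact h3
      exact (Nat.Prime.coprime_iff_not_dvd hpp).2 h2 |>.symm
    have hNM : N ≤ Cfsg.pPrimeCore p G := CfsgLib.Solv.le_pPrimeCore' N hNcop
    have hquot : IsPGroup p (G ⧸ Cfsg.pPrimeCore p G) := by
      obtain ⟨k, hk⟩ := (IsPGroup.iff_card).1 P.2
      have h1 : (Cfsg.pPrimeCore p G).index ∣ N.index := Subgroup.index_dvd_of_le hNM
      rw [hc.symm.index_eq_card, hk] at h1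
      obtain ⟨t, -, ht⟩ := (Nat.dvd_prime_pow hpp).1 h1
      exact IsPGroup.of_card ht
    have htop : Cfsg.pPrimePCore p G = ⊤ := by
      unfold Cfsg.pPrimePCore
      have h1 : Cfsg.pCore p (G ⧸ Cfsg.pPrimeCore p G) = ⊤ := by
        apply top_le_iff.1
        exact CfsgLib.Solv.le_pCore' ⊤ (hquot.to_subgroup ⊤)
      rw [h1, Subgroup.comap_top]
    have h2 : Nat.card (G ⧸ Cfsg.pPrimePCore p G) = 1 := by
      rw [htop]
      exact Subgroup.index_top
    rw [h2]
    exact Nat.coprime_one_left _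
  · intro hcop
    suffices hmain : ∀ Q : Subgroup G, Q ≤ (S : Subgroup G) → ∀ g ∈ Subgroup.normalizer (Q : Set G), Nat.Coprime (orderOf g) p →
        g ∈ Subgroup.centralizer (Q : Set G) by
      obtain ⟨N, hn, hc⟩ := (CfsgLib.Trans.frobenius_criterion S).2 hmain
      exact ⟨S, N, hn, hc⟩
    intro Q hQ g hg hgcop
    by_contra hgC
    obtain ⟨l, k, m, hl, hy1, hyC⟩ := h8_primary _ _ g rfl hgC
    obtain ⟨y, hy⟩ : ∃ y, y = g ^ m := ⟨_, rfl⟩
    rw [← hy] at hy1 hyC
    haveI : Fact l.Prime := ⟨hl⟩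
    have hyN : y ∈ Subgroup.normalizer (Q : Set G) := by rw [hy]; exact Subgroup.pow_mem _ hg m
    have hy0 : orderOf y ≠ 1 := by
      intro h
      apply hyC
      rw [orderOf_eq_one_iff.1 h]
      exact Subgroup.one_mem _
    obtain ⟨t, -, ht⟩ := (Nat.dvd_prime_pow hl).1 (orderOf_dvd_of_pow_eq_one hy1)
    have hlord : l ∣ orderOf y := by
      rw [ht]
      refine dvd_pow_self l ?_
      rintro rfl
      exact hy0 (by simpa using ht)
    have hlp : l ≠ p := by
      rintro rfl
      have h1 : l ∣ orderOf g := hlord.trans (by rw [hy]; exact orderOf_pow_dvd m)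
      have h2 := Nat.Coprime.eq_one_of_dvd (Nat.Coprime.coprime_dvd_left h1 hgcop) (dvd_refl _)
      exact hl.one_lt.ne' h2
    have hQp : IsPGroup p Q := S.2.to_le hQ
    -- the automorphism
    have hconj : ∀ x ∈ Q, y * x * y⁻¹ ∈ Q := fun x hx => (Subgroup.mem_normalizer_iff.1 hyN x).1 hx
    have hconj' : ∀ x ∈ Q, y⁻¹ * x * y ∈ Q := by
      intro x hx
      have := (Subgroup.mem_normalizer_iff.1 (Subgroup.inv_mem _ hyN) x).1 hx
      simpa using this
    let σ : MulAut Q :=
      { toFun := fun x => ⟨y * x * y⁻¹, hconj x x.2⟩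
        invFun := fun x => ⟨y⁻¹ * x * y, hconj' x x.2⟩
        left_inv := fun x => by
          apply Subtype.ext
          show y⁻¹ * (y * x * y⁻¹) * y = x
          group
        right_inv := fun x => by
          apply Subtype.ext
          show y * (y⁻¹ * x * y) * y⁻¹ = x
          group
        map_mul' := fun a b => by
          apply Subtype.ext
          show y * (a * b) * y⁻¹ = (y * a * y⁻¹) * (y * b * y⁻¹)
          group }
    have hσv : ∀ x : Q, ((σ x : Q) : G) = y * x * y⁻¹ := fun x => rfl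
    have hσp : ∀ (n : ℕ) (x : Q), (((σ ^ n) x : Q) : G) = y ^ n * x * (y ^ n)⁻¹ := by
      intro n
      induction n with
      | zero => intro x; simp
      | succ n ih =>
        intro x
        rw [pow_succ]
        show (((σ ^ n) (σ x) : Q) : G) = _
        rw [ih, hσv, pow_succ]
        group
    have hσ1 : σ ^ (l ^ k) = 1 := by
      ext x
      rw [hσp, hy1]
      simp
    have hQcard : Nat.card (↥Q ⧸ frattini ↥Q) ≤ p ^ 2 := by
      apply h8_meta_card p hQp
      exact h8_meta_sub (Subgroup.inclusion hQ) (Subgroup.inclusion_injective hQ) hS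
    obtain ⟨x, hx⟩ : ∃ x : Q, σ x * x⁻¹ ∉ frattini ↥Q := by
      by_contra hcon
      push Not at hcon
      apply hyC
      have h1 : Subgroup.zpowers y ≤ Subgroup.centralizer (Q : Set G) := by
        apply CfsgLib.Solv.frattini_coprime_trivial (Subgroup.zpowers y) Q
        · rw [Subgroup.zpowers_le]; exact hyN
        · rw [Nat.card_zpowers, ht]
          obtain ⟨e, he⟩ := (IsPGroup.iff_card).1 (hQp.to_subgroup (frattini ↥Q))
          rw [he]
          exact Nat.Coprime.pow _ _ ((Nat.coprime_primes hl hpp).2 hlp)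
        · intro a ha z hz
          obtain ⟨i, hi⟩ := mem_powers_iff_mem_zpowers.2 ha
          replace hi : y ^ i = a := hi
          subst hi
          induction i generalizing z with
          | zero =>
            simp
          | succ i ih =>
            have h2 := ih _ (hconj z hz) (Subgroup.pow_mem _ (Subgroup.mem_zpowers y) i)
            have h3 := Subgroup.mem_map_of_mem Q.subtype (hcon ⟨z, hz⟩)
            have h4 : y ^ (i + 1) * z * (y ^ (i + 1))⁻¹ * z⁻¹ =
                (y ^ i * (y * z * y⁻¹) * (y ^ i)⁻¹ * (y * z * y⁻¹)⁻¹) * ((Q.subtype (σ ⟨z, hz⟩ * (⟨z, hz⟩ : Q)⁻¹))) := by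
              simp only [map_mul, map_inv, Subgroup.coe_subtype, hσv]
              rw [pow_succ]
              group
            rw [h4]
            exact Subgroup.mul_mem _ h2 h3
      exact h1 (Subgroup.mem_zpowers y)
    have hldvd := h8_prime_dvd p l k hlp hQp σ hσ1 hQcard x hx
    -- `y` lies in the core
    have hyK : y ∈ Cfsg.pPrimePCore p G := by
      have h1 : (y : G ⧸ Cfsg.pPrimePCore p G) ^ (l ^ k) = 1 := by
        rw [← QuotientGroup.mk_pow, hy1]; rfl
      have h2 : orderOf (y : G ⧸ Cfsg.pPrimePCore p G) ∣ l ^ k := orderOf_dvd_of_pow_eq_one h1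
      have h3 : orderOf (y : G ⧸ Cfsg.pPrimePCore p G) ∣ Nat.card (G ⧸ Cfsg.pPrimePCore p G) :=
        orderOf_dvd_natCard _
      have h4 : Nat.Coprime (l ^ k) (Nat.card (G ⧸ Cfsg.pPrimePCore p G)) := by
        apply Nat.Coprime.pow_left
        apply Nat.Coprime.coprime_dvd_left hldvd
        exact hcop.symm
      have h5 : orderOf (y : G ⧸ Cfsg.pPrimePCore p G) = 1 := Nat.eq_one_of_dvd_coprimes h4 h2 h3
      exact (QuotientGroup.eq_one_iff y).1 (orderOf_eq_one_iff.1 h5)
    have hyM : y ∈ Cfsg.pPrimeCore p G := by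
      have h1 : (y : G ⧸ Cfsg.pPrimeCore p G) ∈ Cfsg.pCore p (G ⧸ Cfsg.pPrimeCore p G) := hyK
      obtain ⟨e, he⟩ := (IsPGroup.iff_orderOf).1 (CfsgLib.Solv.pCore_isPGroup (G := G ⧸ Cfsg.pPrimeCore p G) p) ⟨_, h1⟩
      rw [Subgroup.orderOf_mk] at he
      have h2 : (y : G ⧸ Cfsg.pPrimeCore p G) ^ (l ^ k) = 1 := by
        rw [← QuotientGroup.mk_pow, hy1]; rfl
      have h3 : orderOf (y : G ⧸ Cfsg.pPrimeCore p G) ∣ l ^ k := orderOf_dvd_of_pow_eq_one h2
      have h4 : Nat.Coprime (l ^ k) (p ^ e) := Nat.Coprime.pow _ _ ((Nat.coprime_primes hl hpp).2 hlp)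
      have h5 : orderOf (y : G ⧸ Cfsg.pPrimeCore p G) = 1 := Nat.eq_one_of_dvd_coprimes h4 h3 (by rw [he])
      exact (QuotientGroup.eq_one_iff y).1 (orderOf_eq_one_iff.1 h5)
    -- hence `y` centralizes `Q`
    apply hyC
    rw [Subgroup.mem_centralizer_iff]
    intro z hz
    have hz1 : y * z * y⁻¹ * z⁻¹ ∈ Q := Q.mul_mem (hconj z hz) (Q.inv_mem hz)
    have hz2 : y * z * y⁻¹ * z⁻¹ ∈ Cfsg.pPrimeCore p G := by
      have h1 : y * z * y⁻¹ * z⁻¹ = y * (z * y⁻¹ * z⁻¹) := by group
      rw [h1]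
      exact Subgroup.mul_mem _ hyM (hMn.conj_mem _ (Subgroup.inv_mem _ hyM) z)
    have hdisj : Disjoint Q (Cfsg.pPrimeCore p G) := by
      apply Subgroup.disjoint_of_coprime_natCard
      obtain ⟨e, he⟩ := (IsPGroup.iff_card).1 hQp
      rw [he]
      exact Nat.Coprime.pow_left e (CfsgLib.Solv.pPrimeCore_coprime p).symm
    have h3 : y * z * y⁻¹ * z⁻¹ = 1 := by
      have := Subgroup.disjoint_def.1 hdisj hz1 hz2
      exact this
    have h4 : y * z * y⁻¹ = z := mul_inv_eq_one.1 h3
    have h5 : y * z = z * y := mul_inv_eq_iff_eq_mul.1 h4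
    exact h5.symm

end Cfsg.Agent.S4419
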