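import Cfsg.Statements.S4444
import Cfsg.Agent.Lib.Char.GlaubP3

set_option autoImplicit false
open Cfsg

namespace Cfsg.Agent.S4444

/-- The Glauberman correspondence for a p-group of operators. Inside a finite group Γ let S normalise G with the orders of G and S coprime, S a p-group, and let C = G ⊓ C(S) be the fixed points. Call an irreducible character χ of G S-invariant when χ(s g s⁻¹) = χ(g) for s ∈ S, g ∈ G. Then: (i) for every S-invariant χ there is exactly one irreducible character β of C whose multiplicity [χ_C, β] in the restriction of χ is not divisible by p; (ii) that multiplicity is ≡ 1 or ≡ −1 (mod p); (iii) distinct S-invariant χ give distinct β; (iv) every irreducible character of C arises in this way. So χ ↦ β is a bijection from the S-invariant irreducible characters of G onto the irreducible characters of C. -/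
theorem result {Γ : Type*} [Group Γ] [Fintype Γ] (G S : Subgroup Γ) [Fintype G] (hnorm : ∀ s ∈ S, ∀ g ∈ G, s * g * s⁻¹ ∈ G) (hcop : (Nat.card G).Coprime (Nat.card S)) (p : ℕ) (hp : p.Prime) (hS : IsPGroup p S) (C : Subgroup Γ) [Fintype C] (hC : C = G ⊓ Subgroup.centralizer (S : Set Γ)) (hCG : C ≤ G) : (∀ χ : Cfsg.IrrCharacter G, (∀ s ∈ S, ∀ g g' : G, (g' : Γ) = s * g * s⁻¹ → (χ : G → ℂ) g' = (χ : G → ℂ) g) → ∃! β : Cfsg.IrrCharacter C, ∃ m : ℕ, Cfsg.classInner (fun c : C => (χ : G → ℂ) ⟨c, hCG c.2⟩) (β : C → ℂ) = (m : ℂ) ∧ ¬ p ∣ m) ∧ (∀ χ : Cfsg.IrrCharacter G, (∀ s ∈ S, ∀ g g' : G, (g' : Γ) = s * g * s⁻¹ → (χ : G → ℂ) g' = (χ : G → ℂ) g) → ∀ β : Cfsg.IrrCharacter C, ∀ m : ℕ, Cfsg.classInner (fun c : C => (χ : G → ℂ) ⟨c, hCG c.2⟩) (β : C → ℂ) = (m : ℂ) → ¬ p ∣ m → ((m : ℤ) ≡ 1 [ZMOD p] ∨ (m : ℤ) ≡ -1 [ZMOD p])) ∧ (∀ χ χ' : Cfsg.IrrCharacter G, (∀ s ∈ S, ∀ g g' : G,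 (g' : Γ) = s * g * s⁻¹ → (χ : G → ℂ) g' = (χ : G → ℂ) g) → (∀ s ∈ S, ∀ g g' : G, (g' : Γ) = s * g * s⁻¹ → (χ' : G → ℂ) g' = (χ' : G → ℂ) g) → ∀ β : Cfsg.IrrCharacter C, ∀ m m' : ℕ, Cfsg.classInner (fun c : C => (χ : G → ℂ) ⟨c, hCG c.2⟩) (β : C → ℂ) = (m : ℂ) → ¬ p ∣ m → Cfsg.classInner (fun c : C => (χ' : G → ℂ) ⟨c, hCG c.2⟩) (β : C → ℂ) = (m' : ℂ) → ¬ p ∣ m' → χ = χ') ∧ (∀ β : Cfsg.IrrCharacter C, ∃ χ : Cfsg.IrrCharacter G, (∀ s ∈ S, ∀ g g' : G, (g' : Γ) = s * g * s⁻¹ → (χ : G → ℂ) g' = (χ : G → ℂ) g) ∧ ∃ m : ℕ, Cfsg.classInner (fun c : C => (χ : G → ℂ) ⟨c, hCG c.2⟩) (β : C → ℂ) = (m : ℂ) ∧ ¬ p ∣ m) := by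
  classical
  obtain rfl : ‹Fintype G› = CfsgLib.Char.GP.subFin G := Subsingleton.elim _ _
  obtain rfl : ‹Fintype C› = CfsgLib.Char.GP.subFin C := Subsingleton.elim _ _
  have hA : CfsgLib.Char.GP.PHyp S G p := by
    refine ⟨?_, hcop, ?_⟩
    · intro s hs
      rw [Subgroup.mem_normalizer_iff]
      intro g
      refine ⟨hnorm s hs g, fun hg => ?_⟩
      have := hnorm s⁻¹ (S.inv_mem hs) _ hg
      simpa [mul_assoc] using this
    · intro s hs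
      obtain ⟨k, hk⟩ := hS ⟨s, hs⟩
      refine ⟨k, fun g _ => ?_⟩
      have h1 : s ^ (p ^ k) = 1 := congrArg Subtype.val hk
      rw [h1]
      simp
  obtain ⟨h1, h2, h3, -⟩ := CfsgLib.Char.GP.pgroup_main hp _ G rfl hA C hC hCG
  have hinv : ∀ χ : Cfsg.IrrCharacter G, (∀ s ∈ S, ∀ g g' : G, (g' : Γ) = s * g * s⁻¹ → (χ : G → ℂ) g' = (χ : G → ℂ) g) ↔ CfsgLib.Char.GP.Inv S G χ := fun χ => Iff.rfl
  refine ⟨?_, ?_, ?_, ?_⟩
  · intro χ hχ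
    obtain ⟨β, ε, hε, hc⟩ := h1 χ hχ
    refine ⟨β, hc.multRel hp hε, ?_⟩
    intro β' hβ'
    exact hc.eq_of_multRel hβ'
  · intro χ hχ β m hm hnd
    obtain ⟨β₀, ε, hε, hc⟩ := h1 χ hχ
    have e := hc.eq_of_multRel ⟨m, hm, hnd⟩
    subst e
    obtain ⟨N, hN, hd⟩ := hc β
    have h4 : N = m := by
      have : (N : ℂ) = m := by rw [← hN, hm]
      exact_mod_cast this
    subst h4
    rw [if_pos rfl, mul_one] at hd
    rcases hε with rfl | rfl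
    · left
      apply Int.modEq_iff_dvd.mpr
      obtain ⟨c, hc⟩ := hd
      refine ⟨-c, ?_⟩
      rw [mul_neg, ← hc]
      ring
    · right
      apply Int.modEq_iff_dvd.mpr
      obtain ⟨c, hc⟩ := hd
      refine ⟨-c, ?_⟩
      rw [mul_neg, ← hc]
      ring
  · intro χ χ' hχ hχ' β m m' hm hnd hm' hnd'
    exact h2 χ χ' hχ hχ' β ⟨m, hm, hnd⟩ ⟨m', hm', hnd'⟩
  · intro β
    obtain ⟨χ, hχ, m, hm, hnd⟩ := h3 β
    exact ⟨χ, hχ, m, hm, hnd⟩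

end Cfsg.Agent.S4444
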