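import Cfsg.Statements.S4513
import Cfsg.Agent.Lib.Block.Col
import Cfsg.Agent.Lib.Block.Defic

set_option autoImplicit false
open Cfsg

namespace Cfsg.Agent.S4513

/-- Blocks of defect one for p = 2. Let M be a maximal ideal of the algebraic integers containing 2, B a 2-block of the finite group G whose defect group is the subgroup generated by an involution x, C = C_G(x), b a block of C inducing B and θ a member of b taking the same value at x as at 1 (there is exactly one). Then B consists of exactly two irreducible characters, which agree on every element of odd order, and they can be labelled χ₁, χ₂ with signs ε₁, ε₂ = ±1, ε₁ε₂ = −1, such that χᵢ(x y) = εᵢ θ(y) for every element y of C of odd order. -/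
theorem result {G : Type*} [Group G] [Finite G] (M : Ideal Cfsg.AlgInt) (hM : Cfsg.IsPModular 2 M) (x : G) (hx : orderOf x = 2)
    (B : Set (Cfsg.IrrCharacter G)) (hB : Cfsg.IsPBlock M B) (hBD : Cfsg.IsDefectGroup 2 M B (Subgroup.zpowers x))
    (b : Set (Cfsg.IrrCharacter ↥(Subgroup.centralizer ({x} : Set G)))) (hb : Cfsg.IsInducedBlock M (Subgroup.centralizer ({x} : Set G)) b B)
    (θ : Cfsg.IrrCharacter ↥(Subgroup.centralizer ({x} : Set G))) (hθ : θ ∈ b)
    (hθx : ∀ z : ↥(Subgroup.centralizer ({x} : Set G)), (z : G) = x → (θ : ↥(Subgroup.centralizer ({x} : Set G)) → ℂ) z = (θ : ↥(Subgroup.centralizer ({x} : Set G)) → ℂ) 1) :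
    Nat.card B = 2 ∧ (∀ χ ∈ B, ∀ ψ ∈ B, ∀ g : G, ¬ 2 ∣ orderOf g → (χ : G → ℂ) g = (ψ : G → ℂ) g) ∧
      ∃ χ₁ ∈ B, ∃ χ₂ ∈ B, χ₁ ≠ χ₂ ∧ ∃ ε₁ ε₂ : ℤ, (ε₁ = 1 ∨ ε₁ = -1) ∧ (ε₂ = 1 ∨ ε₂ = -1) ∧ ε₁ * ε₂ = -1 ∧
        ∀ y : ↥(Subgroup.centralizer ({x} : Set G)), ¬ 2 ∣ orderOf y →
          (χ₁ : G → ℂ) (x * y) = (ε₁ : ℂ) * (θ : ↥(Subgroup.centralizer ({x} : Set G)) → ℂ) y ∧ (χ₂ : G → ℂ) (x * y) = (ε₂ : ℂ) * (θ : ↥(Subgroup.centralizer ({x} : Set G)) → ℂ) y := by
  classical
  letI : Fintype G := Fintype.ofFinite G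
  letI F : Fintype (Subgroup.centralizer ({x} : Set G)) := Fintype.ofFinite _
  have hP := hM.isPrime
  have hx2 : x * x = 1 := by
    have := pow_orderOf_eq_one x
    rw [hx, pow_two] at this
    exact this
  have hk : orderOf x = 2 ^ 1 := by rw [hx]; rfl
  have hzp : IsPGroup 2 (Subgroup.zpowers x) := by
    rw [IsPGroup.iff_card]
    exact ⟨1, by rw [Nat.card_zpowers, hx]; rfl⟩
  have hzmem : ∀ z ∈ Subgroup.zpowers x, z = 1 ∨ z = x := by
    rintro _ ⟨i, rfl⟩
    rcases Int.even_or_odd' i with ⟨m, rfl | rfl⟩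
    · left
      simp only
      rw [zpow_mul, zpow_two, hx2, one_zpow]
    · right
      simp only
      rw [zpow_add, zpow_mul, zpow_two, hx2, one_zpow, one_mul, zpow_one]
  -- the defect group of `b`
  obtain ⟨D₀, hD₀⟩ := CfsgLib.Block.exists_defectGroup hM hb.1
  have hD₀eq := CfsgLib.Block.isDefect_of_induced_of_le hM hzp (CfsgLib.Block.zpowers_le_centralizer_singleton x)
    (CfsgLib.Block.centralizer_singleton_le_normalizer_zpowers x) hB hb hBD hD₀
  subst hD₀eq
  set D' : Subgroup (Subgroup.centralizer ({x} : Set G)) := (Subgroup.zpowers x).subgroupOf (Subgroup.centralizer ({x} : Set G)) with hD'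
  have hD'mem : ∀ d ∈ D', ∀ c : Subgroup.centralizer ({x} : Set G), c * d = d * c := by
    intro d hd c
    apply Subtype.ext
    rcases hzmem _ (Subgroup.mem_subgroupOf.1 hd) with h | h
    · show (c : G) * (d : G) = (d : G) * (c : G)
      rw [h, mul_one, one_mul]
    · show (c : G) * (d : G) = (d : G) * (c : G)
      rw [h]
      exact Subgroup.mem_centralizer_singleton_iff.1 c.2
  have hCD : CfsgLib.Block.CD 2 D' := by
    refine ⟨hzp.comap_subtype, ?_⟩
    rw [eq_top_iff]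
    intro c _
    refine Subgroup.mem_sup_right ?_
    rw [Subgroup.mem_centralizer_iff]
    intro d hd
    exact (hD'mem d hd c).symm
  have hker : ∀ y ∈ D', (θ : Subgroup.centralizer ({x} : Set G) → ℂ) y = (θ : Subgroup.centralizer ({x} : Set G) → ℂ) 1 := by
    intro y hy
    rcases hzmem _ (Subgroup.mem_subgroupOf.1 hy) with h | h
    · have : y = 1 := Subtype.ext h
      rw [this]
    · exact hθx y h
  obtain ⟨-, hdeg, hcardb⟩ := CfsgLib.Block.s0968 hM hCD hb.1 hD₀
  have hdegθ := hdeg θ hθ hker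
  have hbeq : b = Cfsg.blockOf M (θ : Subgroup.centralizer ({x} : Set G) → ℂ) := CfsgLib.Block.blockOf_eq_of_mem hP hb.1 hθ
  have hrange := CfsgLib.Block.block_eq_range hM hCD θ hker hdegθ
  letI : Fintype D' := Fintype.ofFinite _
  have hD'comm : ∀ a b : D', a * b = b * a := by
    intro a b
    apply Subtype.ext
    exact hD'mem _ a.2 ⟨b, b.1.2⟩ |>.symm
  have hn : ∀ ψ ∈ b, ∀ y : Subgroup.centralizer ({x} : Set G), ¬ 2 ∣ orderOf y →
      (ψ : Subgroup.centralizer ({x} : Set G) → ℂ) y = (fun _ => (1 : ℂ)) ψ * (θ : Subgroup.centralizer ({x} : Set G) → ℂ) y := by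
    intro ψ hψ y hy
    rw [hbeq, hrange] at hψ
    obtain ⟨ζ, rfl⟩ := hψ
    rw [CfsgLib.Block.twI_coe, CfsgLib.Block.twD_of_regular _ _ hy]
    congr 1
    exact CfsgLib.Char.isIrr_degree_one_of_comm hD'comm ζ.2
  set n : Cfsg.IrrCharacter (Subgroup.centralizer ({x} : Set G)) → ℂ := fun _ => 1 with hndef
  have hφ : (θ : Subgroup.centralizer ({x} : Set G) → ℂ) 1 ≠ 0 := θ.2.map_one_ne_zero
  have hnorm := CfsgLib.Block.col_norm hM hk hb.1 hφ hn
  have hint : ∀ χ : Cfsg.IrrCharacter G, ∃ z : ℤ, CfsgLib.Block.colF b n χ = z := by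
    intro χ
    choose z hz using CfsgLib.Block.classInner_secF_int hx2 χ
    refine ⟨∑ ψ, if ψ ∈ b then z ψ else 0, ?_⟩
    rw [CfsgLib.Block.colF]
    push_cast
    refine Finset.sum_congr rfl fun ψ _ => ?_
    split_ifs
    · rw [hz]; simp [hndef]
    · simp
  choose d hd using hint
  have hcardD' : Nat.card D' = 2 := by
    have h1 : Nat.card D' = Nat.card (Subgroup.zpowers x) :=
      Nat.card_congr (Subgroup.subgroupOfEquivOfLe (CfsgLib.Block.zpowers_le_centralizer_singleton x)).toEquiv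
    rw [h1, Nat.card_zpowers, hx]
  have hcard2 : Nat.card b = 2 := by
    rw [hcardb, ← hcardD']
    refine (Nat.card_congr (Equiv.ofBijective (ConjClasses.mk : D' → ConjClasses D') ⟨?_, ?_⟩)).symm
    · intro a c hac
      have h1 := ConjClasses.mk_eq_mk_iff_isConj.1 hac
      obtain ⟨e, he⟩ := isConj_iff.1 h1
      rw [← he, hD'comm e a]
      group
    · intro E
      exact ⟨E.out, Quotient.out_eq' E⟩
  have hsum : ∑ χ : Cfsg.IrrCharacter G, (d χ) ^ 2 = 2 := by
    have h1 : ∑ ψ : Cfsg.IrrCharacter (Subgroup.centralizer ({x} : Set G)), (if ψ ∈ b then n ψ * (starRingEnd ℂ) (n ψ) else 0) = 2 := by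
      have h2 : ∀ ψ : Cfsg.IrrCharacter (Subgroup.centralizer ({x} : Set G)), (if ψ ∈ b then n ψ * (starRingEnd ℂ) (n ψ) else 0) = if ψ ∈ b then (1 : ℂ) else 0 := by
        intro ψ
        simp [hndef]
      simp only [h2]
      rw [Finset.sum_ite, Finset.sum_const_zero, add_zero, Finset.sum_const, nsmul_eq_mul, mul_one]
      have h3 : Nat.card b = (Finset.univ.filter (fun ψ => ψ ∈ b)).card := Nat.subtype_card _ (by simp)
      rw [← h3, hcard2]
      norm_num
    rw [h1] at hnorm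
    have h2 : ∀ χ : Cfsg.IrrCharacter G, CfsgLib.Block.colF b n χ * (starRingEnd ℂ) (CfsgLib.Block.colF b n χ) = (((d χ) ^ 2 : ℤ) : ℂ) := by
      intro χ
      rw [hd, map_intCast]
      push_cast
      ring
    simp only [h2] at hnorm
    exact_mod_cast hnorm
  have hzero : ∀ χ : Cfsg.IrrCharacter G, χ ∉ B → d χ = 0 := by
    intro χ hχ
    have h1 := CfsgLib.Block.col_eq_zero_of_not_mem hM hk hb.1 hφ hn hb hχ
    rw [hd] at h1
    exact_mod_cast h1
  have hCN : Subgroup.centralizer ({x} : Set G) = Subgroup.normalizer ((Subgroup.zpowers x : Subgroup G) : Set G) := by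
    apply le_antisymm (CfsgLib.Block.centralizer_singleton_le_normalizer_zpowers x)
    intro g hg
    rw [Subgroup.mem_normalizer_iff] at hg
    have h1 : g * x * g⁻¹ ∈ Subgroup.zpowers x := (hg x).1 (Subgroup.mem_zpowers x)
    rcases hzmem _ h1 with h | h
    · exfalso
      have h2 : x = 1 := by
        have : g⁻¹ * (g * x * g⁻¹) * g = g⁻¹ * 1 * g := by rw [h]
        simpa [mul_assoc] using this
      rw [h2] at hx
      simp at hx
    · rw [Subgroup.mem_centralizer_singleton_iff]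
      calc g * x = g * x * g⁻¹ * g := by group
        _ = x * g := by rw [h]
  have key : ∀ (H : Subgroup G) (hH : H = Subgroup.normalizer ((Subgroup.zpowers x : Subgroup G) : Set G)) (_ : Fintype H)
      (b₁ b₂ : Set (Cfsg.IrrCharacter H)), Cfsg.IsInducedBlock M H b₁ B → Cfsg.IsInducedBlock M H b₂ B →
      Cfsg.IsDefectGroup 2 M b₁ ((Subgroup.zpowers x).subgroupOf H) → b₂ = b₁ := by
    intro H hH _ b₁ b₂ h1 h2 h3
    subst hH
    exact CfsgLib.Block.first_main_unique hM hzp h1 h2 h3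
  have huniq : ∀ b' : Set (Cfsg.IrrCharacter (Subgroup.centralizer ({x} : Set G))), Cfsg.IsPBlock M b' →
      Cfsg.IsInducedBlock M (Subgroup.centralizer ({x} : Set G)) b' B → b' = b := by
    intro b' _ h
    exact key _ hCN F b b' hb h hD₀
  have hsec : ∀ χ ∈ B, ∀ y : Subgroup.centralizer ({x} : Set G), ¬ 2 ∣ orderOf y →
      (χ : G → ℂ) (x * (y : G)) = (d χ : ℂ) * (θ : Subgroup.centralizer ({x} : Set G) → ℂ) y := by
    intro χ hχ y hy
    rw [← hd]
    exact CfsgLib.Block.sec_eq_col hM hk hb.1 hn hb huniq hχ y hy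
  have hdef : Cfsg.blockDefect 2 B = 1 := by
    have h1 := CfsgLib.Block.card_defectGroup hM hB hBD
    rw [Nat.card_zpowers, hx] at h1
    have h2 : 2 ^ 1 = 2 ^ Cfsg.blockDefect 2 B := by simpa using h1
    exact (Nat.pow_right_injective (le_refl 2) h2).symm
  have hne : ∀ χ ∈ B, d χ ≠ 0 := by
    intro χ hχ h0
    have hv : ∀ g : G, 2 ∣ orderOf g → (χ : G → ℂ) g = 0 := by
      intro g hg
      by_cases hall : ∀ D₁ : Subgroup G, Cfsg.IsDefectGroup 2 M (Cfsg.blockOf M (χ : G → ℂ)) D₁ → CfsgLib.Block.pPart 2 g ∉ D₁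
      · exact CfsgLib.Block.char_eq_zero_of_pPart hM (CfsgLib.Block.isPPart_pPart g) hall
      · push Not at hall
        obtain ⟨D₁, hD₁, hmem⟩ := hall
        have hBeq : Cfsg.blockOf M (χ : G → ℂ) = B := (CfsgLib.Block.blockOf_eq_of_mem hP hB hχ).symm
        rw [hBeq] at hD₁
        obtain ⟨c, hc⟩ := CfsgLib.Block.isDefectGroup_conj_le hM hB hBD hD₁
        have h1 := hc _ hmem
        have hmul := CfsgLib.Block.pPart_mul_pReg (p := 2) g
        have hcomm := CfsgLib.Block.commute_pPart_pReg (p := 2) g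
        have hreg := CfsgLib.Block.not_dvd_orderOf_pReg (p := 2) g
        have ht1 : CfsgLib.Block.pPart 2 g ≠ 1 := by
          intro h
          rw [h, one_mul] at hmul
          rw [hmul] at hreg
          exact hreg hg
        rcases hzmem _ h1 with h | h
        · exfalso
          apply ht1
          have : c * (c⁻¹ * CfsgLib.Block.pPart 2 g * c) * c⁻¹ = c * 1 * c⁻¹ := by rw [h]
          simpa [mul_assoc] using this
        · set y : G := c⁻¹ * CfsgLib.Block.pReg 2 g * c with hy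
          have hyC : y ∈ Subgroup.centralizer ({x} : Set G) := by
            rw [Subgroup.mem_centralizer_singleton_iff, ← h, hy]
            calc c⁻¹ * CfsgLib.Block.pReg 2 g * c * (c⁻¹ * CfsgLib.Block.pPart 2 g * c)
                = c⁻¹ * (CfsgLib.Block.pReg 2 g * CfsgLib.Block.pPart 2 g) * c := by group
              _ = c⁻¹ * (CfsgLib.Block.pPart 2 g * CfsgLib.Block.pReg 2 g) * c := by rw [hcomm.eq]
              _ = c⁻¹ * CfsgLib.Block.pPart 2 g * c * (c⁻¹ * CfsgLib.Block.pReg 2 g * c) := by group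
          have hyreg : ¬ 2 ∣ orderOf (⟨y, hyC⟩ : Subgroup.centralizer ({x} : Set G)) := by
            rw [Subgroup.orderOf_mk, hy]
            have := CfsgLib.Block.orderOf_conj' (CfsgLib.Block.pReg 2 g) c⁻¹
            rw [inv_inv] at this
            rw [this]
            exact hreg
          have hg' : c⁻¹ * g * c = x * y := by
            rw [← h, hy]
            conv_lhs => rw [← hmul]
            group
          have h2 := χ.2.isClassFunction g c⁻¹
          rw [inv_inv, hg'] at h2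
          rw [← h2]
          have h3 := hsec χ hχ ⟨y, hyC⟩ hyreg
          rw [h0] at h3
          simpa using h3
    have h1 := CfsgLib.Block.pow_dvd_degree_of_vanish χ.2.isCharacter hv
    have h2 : (Nat.card G).factorization 2 ≤ (Cfsg.charDegree (χ : G → ℂ)).factorization 2 :=
      (Nat.prime_two.pow_dvd_iff_le_factorization (CfsgLib.Block.charDegree_ne_zero χ.2)).1 h1
    have h3 := (CfsgLib.Block.height_bound hM hB hχ).1 (by omega)
    have h4 := (CfsgLib.Block.blockHeight_eq_zero_iff hχ).1 h3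
    have h5 := CfsgLib.Block.blockDefect_eq 2 B
    omega
  set T : Finset (Cfsg.IrrCharacter G) := Finset.univ.filter (· ∈ B) with hT
  have hTmem : ∀ χ, χ ∈ T ↔ χ ∈ B := by simp [hT]
  have hcardB : Nat.card B = T.card := Nat.subtype_card T hTmem
  have hsumT : ∑ χ ∈ T, (d χ) ^ 2 = 2 := by
    rw [← hsum]
    refine Finset.sum_subset (Finset.subset_univ _) fun χ _ hχ => ?_
    rw [hzero χ (fun h => hχ ((hTmem χ).2 h))]
    simp
  have hge : ∀ χ ∈ T, 1 ≤ (d χ) ^ 2 := by
    intro χ hχ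
    have := hne χ ((hTmem χ).1 hχ)
    have h1 := Int.one_le_abs this
    nlinarith [abs_nonneg (d χ), sq_abs (d χ)]
  have hTle : T.card ≤ 2 := by
    have h1 : ((T.card : ℕ) : ℤ) ≤ ∑ χ ∈ T, (d χ) ^ 2 := by
      have := Finset.card_nsmul_le_sum T (fun χ => (d χ) ^ 2) 1 hge
      simpa using this
    rw [hsumT] at h1
    exact_mod_cast h1
  have hTne : T.Nonempty := by
    obtain ⟨χ, hχ⟩ := CfsgLib.Block.IsPBlock.nonempty hP hB
    exact ⟨χ, (hTmem χ).2 hχ⟩
  have hTne1 : T.card ≠ 1 := by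
    intro h1
    obtain ⟨a, ha⟩ := Finset.card_eq_one.1 h1
    rw [ha, Finset.sum_singleton] at hsumT
    have h2 : (d a) ^ 2 = 2 := hsumT
    have h3 : |d a| < 2 := by
      by_contra hc
      push Not at hc
      nlinarith [sq_abs (d a)]
    have h4 := Int.one_le_abs (hne a ((hTmem a).1 (by rw [ha]; simp)))
    have h5 : |d a| = 1 := by omega
    nlinarith [sq_abs (d a)]
  have hTcard : T.card = 2 := by
    have := Finset.card_pos.2 hTne
    omega
  obtain ⟨χ₁, χ₂, h12, hT12⟩ := Finset.card_eq_two.1 hTcard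
  have hχ₁ : χ₁ ∈ B := (hTmem χ₁).1 (by rw [hT12]; simp)
  have hχ₂ : χ₂ ∈ B := (hTmem χ₂).1 (by rw [hT12]; simp)
  rw [hT12, Finset.sum_pair h12] at hsumT
  have hd1 : 1 ≤ (d χ₁) ^ 2 := hge χ₁ ((hTmem χ₁).2 hχ₁)
  have hd2 : 1 ≤ (d χ₂) ^ 2 := hge χ₂ ((hTmem χ₂).2 hχ₂)
  have hd1' : (d χ₁) ^ 2 = 1 := by omega
  have hd2' : (d χ₂) ^ 2 = 1 := by omega
  have hsq : ∀ z : ℤ, z ^ 2 = 1 → z = 1 ∨ z = -1 := by
    intro z hz
    have : (z - 1) * (z + 1) = 0 := by linear_combination hz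
    rcases mul_eq_zero.1 this with h | h
    · left; omega
    · right; omega
  have hε1 := hsq _ hd1'
  have hε2 := hsq _ hd2'
  have h1p : ¬ 2 ∣ orderOf (1 : Subgroup.centralizer ({x} : Set G)) := by simp
  have hatx : ∀ χ ∈ B, (χ : G → ℂ) x = (d χ : ℂ) * (θ : Subgroup.centralizer ({x} : Set G) → ℂ) 1 := by
    intro χ hχ
    have := hsec χ hχ 1 h1p
    simpa using this
  have hx1 : ¬ IsConj (1 : G) x := by
    rw [isConj_one_right]
    intro h
    rw [h] at hx
    simp at hx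
  have hθ1 : (starRingEnd ℂ) ((θ : Subgroup.centralizer ({x} : Set G) → ℂ) 1) ≠ 0 := (map_ne_zero _).2 hφ
  have horth : ∀ g : G, ¬ 2 ∣ orderOf g → (d χ₁ : ℂ) * (χ₁ : G → ℂ) g + (d χ₂ : ℂ) * (χ₂ : G → ℂ) g = 0 := by
    intro g hg
    have h := CfsgLib.Block.block_orthogonality hM hB (g := g) (h := x) (x := 1) (y := x)
      ⟨g, one_mul g, Commute.one_left g, ⟨0, by simp⟩, hg⟩ ⟨1, mul_one x, Commute.one_right x, ⟨1, hk⟩, by simp⟩ hx1
    rw [← Finset.sum_filter] at h
    have hfilter : (Finset.univ.filter (fun χ : Cfsg.IrrCharacter G => χ ∈ B)) = {χ₁, χ₂} := hT12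
    rw [hfilter, Finset.sum_pair h12, hatx χ₁ hχ₁, hatx χ₂ hχ₂, map_mul, map_mul, map_intCast, map_intCast] at h
    apply mul_right_cancel₀ hθ1
    rw [zero_mul]
    linear_combination h
  have hprod : d χ₁ * d χ₂ = -1 := by
    have h := horth 1 (by simp)
    rw [← CfsgLib.Block.coe_charDegree χ₁.2.isCharacter, ← CfsgLib.Block.coe_charDegree χ₂.2.isCharacter] at h
    have h' : d χ₁ * (Cfsg.charDegree (χ₁ : G → ℂ) : ℤ) + d χ₂ * (Cfsg.charDegree (χ₂ : G → ℂ) : ℤ) = 0 := by
      exact_mod_cast h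
    have hp1 : (0 : ℤ) < (Cfsg.charDegree (χ₁ : G → ℂ) : ℤ) := by
      exact_mod_cast Nat.pos_of_ne_zero (CfsgLib.Block.charDegree_ne_zero χ₁.2)
    have hp2 : (0 : ℤ) < (Cfsg.charDegree (χ₂ : G → ℂ) : ℤ) := by
      exact_mod_cast Nat.pos_of_ne_zero (CfsgLib.Block.charDegree_ne_zero χ₂.2)
    rcases hε1 with h1 | h1 <;> rcases hε2 with h2 | h2 <;> rw [h1, h2] at h' ⊢ <;> first | (exfalso; linarith) | norm_num
  have hag : ∀ g : G, ¬ 2 ∣ orderOf g → (χ₁ : G → ℂ) g = (χ₂ : G → ℂ) g := by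
    intro g hg
    have h := horth g hg
    have h2 : (d χ₂ : ℂ) = - (d χ₁ : ℂ) := by
      rcases hε1 with h1 | h1 <;> rcases hε2 with h2 | h2 <;> rw [h1, h2] at hprod ⊢ <;> simp at hprod ⊢
    rw [h2] at h
    have hd0 : (d χ₁ : ℂ) ≠ 0 := by
      rcases hε1 with h1 | h1 <;> rw [h1] <;> simp
    apply mul_left_cancel₀ hd0
    linear_combination h
  have hor : ∀ χ ∈ B, χ = χ₁ ∨ χ = χ₂ := by
    intro χ hχ
    have := (hTmem χ).2 hχ
    rw [hT12] at this
    simpa using this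
  refine ⟨by rw [hcardB, hTcard], ?_, χ₁, hχ₁, χ₂, hχ₂, h12, d χ₁, d χ₂, hε1, hε2, hprod, fun y hy => ⟨hsec χ₁ hχ₁ y hy, hsec χ₂ hχ₂ y hy⟩⟩
  intro χ hχ ψ hψ g hg
  rcases hor χ hχ with rfl | rfl <;> rcases hor ψ hψ with rfl | rfl
  · rfl
  · exact hag g hg
  · exact (hag g hg).symm
  · rfl

end Cfsg.Agent.S4513
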