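import Cfsg.Statements.S5206
import Cfsg.Agent.Lib.MX.Gp3

set_option autoImplicit false
universe u
open Cfsg

namespace Cfsg.Agent.S5206

/-- Let p be an odd prime, G a finite group and P a Sylow p-subgroup of G. Then the fusion system of G on P is Qd(p)-free (Qd(p), the natural semidirect product of an elementary abelian group of order p² by SL₂(p), is not involved in any model of the normalizer system of a fully normalized centric subgroup) if and only if Qd(p) is not involved in G. -/
theorem result {G : Type u} [Group G] [Finite G] {p : ℕ} [Fact p.Prime] (hp : p ≠ 2) (P : Sylow p G) : (Cfsg.groupFusionSystem (P : Subgroup G)).IsSectionFree p ↥(Cfsg.qd p) ↔ ¬ Cfsg.Involves ↥(Cfsg.qd p) G := by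
  classical
  constructor
  · intro hfree hinv
    have hsec : CfsgLib.OOL.SecX (↥(Cfsg.qd p)) G := by
      obtain ⟨K, R, hn, he⟩ := hinv
      exact CfsgLib.OOL.SecX.of_section K R hn he
    obtain ⟨U, hUp, hUmax, hUsec⟩ := CfsgLib.MX.exists_local_qd hp hsec
    obtain ⟨x, hx⟩ := CfsgLib.Fusion.exists_conj_le_sylow P hUp
    -- all the conjugates of `U` have the maximality property
    have hmaxc : ∀ h : G, ∀ g ∈ Subgroup.centralizer ((U.map (MulAut.conj h).toMonoidHom : Subgroup G) : Set G),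
        (∃ k : ℕ, g ^ (p ^ k) = 1) → g ∈ U.map (MulAut.conj h).toMonoidHom := by
      intro h g hg hgp
      have hc : ∀ y, (MulAut.conj h).toMonoidHom y = h * y * h⁻¹ := fun y => rfl
      have h1 : h⁻¹ * g * h ∈ Subgroup.centralizer (U : Set G) := by
        refine Subgroup.mem_centralizer_iff.mpr fun u hu => ?_
        have h2 := Subgroup.mem_centralizer_iff.mp hg (h * u * h⁻¹) ⟨u, hu, hc u⟩
        calc u * (h⁻¹ * g * h) = h⁻¹ * ((h * u * h⁻¹) * g) * h := by group
          _ = h⁻¹ * (g * (h * u * h⁻¹)) * h := by rw [h2]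
          _ = _ := by group
      have h3 : ∃ k : ℕ, (h⁻¹ * g * h) ^ (p ^ k) = 1 := by
        obtain ⟨k, hk⟩ := hgp
        refine ⟨k, ?_⟩
        have e : h⁻¹ * g * h = h⁻¹ * g * h⁻¹⁻¹ := by group
        rw [e, conj_pow, hk]
        group
      have h4 := hUmax _ h1 h3
      exact ⟨_, h4, by rw [hc]; group⟩
    obtain ⟨Q, hQ₁, hQn⟩ := CfsgLib.Fusion.exists_fullyNormalized_conj (Cfsg.groupFusionSystem (P : Subgroup G)) hx
    obtain ⟨-, hQP, c, hQe⟩ := CfsgLib.Fusion.groupSys_isConj.mp hQ₁
    have hmapmap : ∀ a b : G, (U.map (MulAut.conj b).toMonoidHom).map (MulAut.conj a).toMonoidHom = U.map (MulAut.conj (a * b)).toMonoidHom := by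
      intro a b
      rw [Subgroup.map_map]
      congr 1
      ext y
      simp [MulAut.conj_apply, mul_assoc]
    have hQU : Q = U.map (MulAut.conj (c * x)).toMonoidHom := by
      rw [← hQe, hmapmap]
    have hQc : (Cfsg.groupFusionSystem (P : Subgroup G)).IsCentric Q := by
      refine ⟨hQP, fun Q' hQ' => ?_⟩
      obtain ⟨-, hQ'P, d, hQ'e⟩ := CfsgLib.Fusion.groupSys_isConj.mp hQ'
      have hQ'U : Q' = U.map (MulAut.conj (d * (c * x))).toMonoidHom := by
        rw [← hQ'e, hQU, hmapmap]
      intro y hy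
      rw [hQ'U]
      refine hmaxc _ y ?_ ?_
      · rw [← hQ'U]
        exact hy.2
      · obtain ⟨k, hk⟩ := P.isPGroup' ⟨y, hy.1⟩
        exact ⟨k, by simpa using congrArg (fun z : (P : Subgroup G) => (z : G)) hk⟩
    have hsecQ : CfsgLib.OOL.SecX (↥(Cfsg.qd p)) (Subgroup.normalizer (Q : Set G)) := by
      rw [hQU]
      exact CfsgLib.OOL.secX_normalizer_map _ (MulAut.conj (c * x)).injective U hUsec
    obtain ⟨Y, _, π, ιY, hπs, hπ₂, hY⟩ := CfsgLib.MX.exists_group_model P hQn hQc
    have hnot := hfree Q hQn hQc _ (fun _ => rfl) Y ιY hY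
    apply hnot
    obtain ⟨K', L', hL', he⟩ := CfsgLib.OOL.SecX.top (CfsgLib.MX.secX_of_quot π hπs hπ₂ hsecQ)
    exact ⟨K', L', hL', he⟩
  · exact CfsgLib.MX.sectionFree_group P

end Cfsg.Agent.S5206
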