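import Cfsg.Statements.S5249
import Cfsg.Agent.Lib.MX.Gp2

set_option autoImplicit false
open Cfsg

namespace Cfsg.Agent.S5249

/-- Let p be an odd prime, G a finite group in which Qd(p) (the natural semidirect product of an elementary abelian group of order p² by SL₂(p)) is not involved, and P a Sylow p-subgroup of G. Then the fusion system of G on P is a solvable fusion system. -/
theorem result {G : Type*} [Group G] [Finite G] {p : ℕ} [Fact p.Prime] (hp : p ≠ 2) (hqd : ¬ Cfsg.Involves ↥(Cfsg.qd p) G) (P : Sylow p G) : (Cfsg.groupFusionSystem (P : Subgroup G)).IsSolvableSystem := by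
  intro R hRsc hRne _ E hE
  have hS : IsPGroup p ↥(P : Subgroup G) := P.isPGroup'
  have hF := CfsgLib.Fusion.groupSys_isSaturated P
  have hfree := CfsgLib.MX.sectionFree_group P hqd
  have hEf := CfsgLib.MX.sectionFree_factor_sc hS _ hF hRsc hfree hE
  have hsurj := CfsgLib.Fusion.factor_surjective hS _ hF hRsc _ E hE
  have hEs := CfsgLib.Fusion.isSaturated_of_surjective hS _ hF E _ hsurj
  have hq : IsPGroup p (↥(P : Subgroup G) ⧸ R.subgroupOf (P : Subgroup G)) :=
    hS.of_surjective (QuotientGroup.mk' _) (QuotientGroup.mk'_surjective _)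
  have hSb : IsPGroup p ↥(⊤ : Subgroup (↥(P : Subgroup G) ⧸ R.subgroupOf (P : Subgroup G))) := hq.to_subgroup ⊤
  have hn := CfsgLib.MX.isNormal_zj hp hSb E hEs hEf
  have hle : Cfsg.centerThompsonAOf (⊤ : Subgroup (↥(P : Subgroup G) ⧸ R.subgroupOf (P : Subgroup G))) ≤ E.core :=
    le_sSup hn
  intro hbot
  rw [hbot] at hle
  have hne : (⊤ : Subgroup (↥(P : Subgroup G) ⧸ R.subgroupOf (P : Subgroup G))) ≠ ⊥ := by
    intro htop
    apply hRne
    apply le_antisymm hRsc.1
    intro x hx
    have h1 : (QuotientGroup.mk' (R.subgroupOf (P : Subgroup G))) ⟨x, hx⟩ ∈ (⊤ : Subgroup (↥(P : Subgroup G) ⧸ R.subgroupOf (P : Subgroup G))) := Subgroup.mem_top _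
    rw [htop] at h1
    have h2 := (QuotientGroup.eq_one_iff _).mp (Subgroup.mem_bot.mp h1)
    exact Subgroup.mem_subgroupOf.mp h2
  exact CfsgLib.OOL.F_ne_bot hSb hne (le_bot_iff.mp hle)

end Cfsg.Agent.S5249
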