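import Cfsg.Statements.S5272
import Cfsg.Agent.Lib.MX.GT6

set_option autoImplicit false
open Cfsg

namespace Cfsg.Agent.S5272

/-- An axiomatic Glauberman–Thompson nilpotency criterion for fusion systems. Let p be an odd prime, F a saturated fusion system over a finite p-group S, and 𝒜 a nonempty family of abelian subgroups of S. For Q ≤ S write I(Q) for the intersection of the members of 𝒜 contained in Q. Assume (invariance) that for every Q ≤ S containing a member of 𝒜, every F-automorphism of Q maps I(Q) into itself, and (replacement) that for every subgroup B of S of nilpotency class at most 2, if some member of 𝒜 contains [B,B] but not B, then B normalizes some member of 𝒜 that contains [B,B] but not B. Then F is the inner fusion system of S if and only if the normalizer fusion system of I(S) in F is the inner fusion system of N_S(I(S)). -/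
theorem result {Ω : Type*} [Group Ω] {S : Subgroup Ω} [Finite S] (p : ℕ) [Fact p.Prime] (hS : IsPGroup p ↥S) (F : Cfsg.FusionSystem S) (hF : F.IsSaturated p) (hp : p ≠ 2) (𝒜 : Set (Subgroup Ω)) (h𝒜 : ∀ A ∈ 𝒜, A ≤ S ∧ IsMulCommutative ↥A) (hne : 𝒜.Nonempty) (hinv : ∀ Q : Subgroup Ω, Q ≤ S → (∃ A ∈ 𝒜, A ≤ Q) → ∀ α ∈ F.autGroup Q, ∀ x : ↥Q, (x : Ω) ∈ (⨅ A ∈ {A : Subgroup Ω | A ∈ 𝒜 ∧ A ≤ Q}, A) → (((α : MulAut ↥Q) x : ↥Q) : Ω) ∈ (⨅ A ∈ {A : Subgroup Ω | A ∈ 𝒜 ∧ A ≤ Q}, A)) (hrep : ∀ B : Subgroup Ω, B ≤ S → ⁅⁅B, B⁆, B⁆ = ⊥ → (∃ A ∈ 𝒜, ⁅B, B⁆ ≤ A ∧ ¬ B ≤ A) → ∃ A ∈ 𝒜, ⁅B, B⁆ ≤ A ∧ ¬ B ≤ A ∧ B ≤ Subgroup.normalizer (A : Set Ω)) : (∀ P : Subgroup Ω, F.Hom P = (Cfsg.innerFusionSystem S).Hom P) ↔ ∀ N : Cfsg.FusionSystem (Cfsg.FusionSystem.normalizerIn S (⨅ A ∈ 𝒜, A)), F.IsNormalizerSystem (⨅ A ∈ 𝒜, A) N → ∀ P : Subgroup Ω, N.Hom P = (Cfsg.innerFusionSystem (Cfsg.FusionSystem.normalizerIn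 S (⨅ A ∈ 𝒜, A))).Hom P := by
  have hmemI : ∀ (Q : Subgroup Ω) (x : Ω), x ∈ (⨅ A ∈ {A : Subgroup Ω | A ∈ 𝒜 ∧ A ≤ Q}, A) ↔ ∀ A ∈ 𝒜, A ≤ Q → x ∈ A := by
    intro Q x
    rw [CfsgLib.MX.mem_iInf_fam]
    exact ⟨fun h A h1 h2 => h A ⟨h1, h2⟩, fun h A h1 => h A h1.1 h1.2⟩
  have hfam : CfsgLib.MX.IFam F 𝒜 := by
    refine ⟨fun A hA => (h𝒜 A hA).1, ?_, hne, ?_, hrep⟩
    · intro A hA x hx y hy
      have h1 := (h𝒜 A hA).2.is_comm.comm ⟨x, hx⟩ ⟨y, hy⟩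
      exact congrArg Subtype.val h1
    · intro Q hQ hex α hα x hx A hA hAQ
      exact (hmemI Q _).mp (hinv Q hQ hex α hα x ((hmemI Q _).mpr hx)) A hA hAQ
  obtain ⟨A₀, hA₀⟩ := hne
  obtain ⟨E, hEd⟩ : ∃ E, E = ⨅ A ∈ 𝒜, A := ⟨_, rfl⟩
  have hEm : ∀ x, x ∈ E ↔ ∀ A ∈ 𝒜, x ∈ A := fun x => by
    rw [hEd]
    exact CfsgLib.MX.mem_iInf_fam
  have hX : E ≤ S := fun x hx => (h𝒜 A₀ hA₀).1 ((hEm x).mp hx A₀ hA₀)
  have hSX : S ≤ Subgroup.normalizer (E : Set Ω) := by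
    intro g hg
    have hfE : Finite E := Finite.of_injective (fun x : E => (⟨x, hX x.2⟩ : ↥S)) (fun a b h => Subtype.ext (congrArg (fun z : ↥S => (z : Ω)) h))
    refine CfsgLib.Fusion.mem_normalizer_of_conj_mem fun x hx => ?_
    have hxS := hX hx
    have hgN : g ∈ Subgroup.normalizer (S : Set Ω) := Subgroup.le_normalizer hg
    have hα := CfsgLib.Fusion.autInducedBy_le_autGroup F le_rfl (CfsgLib.Fusion.conjAut_mem_autInducedBy hgN hg)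
    have h1 := hfam.inv S le_rfl ⟨A₀, hA₀, (h𝒜 A₀ hA₀).1⟩ _ hα ⟨x, hxS⟩ (fun A hA _ => (hEm x).mp hx A hA)
    exact (hEm _).mpr fun A hA => h1 A hA (h𝒜 A hA).1
  rw [← hEd]
  constructor
  · intro hinner N hN P
    ext φ
    rw [hN P]
    constructor
    · intro hφ
      obtain ⟨hφ₁, hPN, -, -⟩ := hφ
      rw [hinner P] at hφ₁
      obtain ⟨hPS, g, hg, he⟩ := hφ₁
      exact ⟨hPN, g, ⟨hg, hSX hg⟩, he⟩
    · intro hφ
      obtain ⟨hPT, g, hg, he⟩ := hφ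
      have h1 := N.conj_mem hPT hg
      rw [hN P] at h1
      have h2 : φ = Cfsg.conjHom P g := by
        ext x
        exact he x
      rw [h2]
      exact h1
  · intro h P
    have h2 := h (CfsgLib.Fusion.normalizerSystem F _ hX) (fun _ => rfl)
    have e : F = Cfsg.innerFusionSystem S := by
      refine CfsgLib.MX.fam_inner hp _ S F 𝒜 hS hF rfl hfam fun Q φ hφ => ?_
      rw [← hEd] at hφ
      have h3 : φ ∈ (Cfsg.innerFusionSystem (Cfsg.FusionSystem.normalizerIn S E)).Hom Q := by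
        rw [← h2 Q]
        exact hφ
      obtain ⟨-, g, hg, he⟩ := h3
      exact ⟨g, hg.1, he⟩
    rw [e]

end Cfsg.Agent.S5272
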