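import Cfsg.Statements.S5295
import Cfsg.Agent.Lib.MX.Cen5
import Cfsg.Agent.Lib.H3.FusZ

set_option autoImplicit false
universe u
open Cfsg

namespace Cfsg.Agent.S5295

/-- Let F be a saturated fusion system over a finite p-group S with p odd. Then the centre Z(F) of F is a direct factor of Z(S): there is a subgroup K of Z(S) with Z(F) ∩ K = 1 and Z(F)K = Z(S). (At the prime 2 this can fail.) -/
theorem result {Ω : Type u} [Group Ω] {S : Subgroup Ω} [Finite S] (p : ℕ) [Fact p.Prime] (hp : p ≠ 2) (hS : IsPGroup p S)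
    (F : Cfsg.FusionSystem S) (hF : F.IsSaturated p) :
    ∃ K : Subgroup Ω, K ≤ (S ⊓ Subgroup.centralizer (S : Set Ω)) ∧ F.center ⊓ K = ⊥ ∧ F.center ⊔ K = (S ⊓ Subgroup.centralizer (S : Set Ω)) := by
  have hG : CfsgLib.MX.GFun p CfsgLib.MX.jF := CfsgLib.MX.jF_gfun
  have hNS : Cfsg.FusionSystem.normalizerIn S (thompsonSubgroupAOf S) = S := CfsgLib.MX.normalizerIn_WS hG hS
  have hJS : thompsonSubgroupAOf S ≤ S := CfsgLib.MX.WS_le CfsgLib.MX.jF S
  obtain ⟨N, hNd⟩ : ∃ N, N = CfsgLib.Fusion.normalizerSystem F (thompsonSubgroupAOf S) hJS := ⟨_, rfl⟩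
  have hNN : F.IsNormalizerSystem (thompsonSubgroupAOf S) N := by
    intro P
    rw [hNd]
    rfl
  have hc := CfsgLib.MX.center_normalizer_thompson hp hS F hF N hNN
  have hNs : N.IsSaturated p := CfsgLib.Fusion.normalizerSystem_saturated hS F hF _
    (CfsgLib.MX.fullyNormalized_WS hG hS F) N hNN
  have hT : IsPGroup p (Cfsg.FusionSystem.normalizerIn S (thompsonSubgroupAOf S)) := hS.to_le inf_le_left
  have hNJ : N.IsNormal (thompsonSubgroupAOf S) := by
    rw [hNd]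
    exact CfsgLib.Fusion.isNormal_normalizerSystem F hJS
  have hZ : (Cfsg.FusionSystem.normalizerIn S (thompsonSubgroupAOf S) ⊓ Subgroup.centralizer
      ((Cfsg.FusionSystem.normalizerIn S (thompsonSubgroupAOf S) : Subgroup Ω) : Set Ω)) ≤ N.core := by
    refine le_trans ?_ (le_sSup hNJ)
    rw [hNS]
    intro x hx
    obtain ⟨hx1, hx2⟩ := Subgroup.mem_inf.mp hx
    have h1 : (⟨x, hx1⟩ : ↥S) ∈ Subgroup.center ↥S := by
      rw [Subgroup.mem_center_iff]
      intro g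
      exact Subtype.ext (Subgroup.mem_centralizer_iff.mp hx2 g g.2)
    exact ⟨⟨x, hx1⟩, CfsgLib.MX.center_le_jF ↥S h1, rfl⟩
  obtain ⟨K, h1, h2, h3⟩ := CfsgLib.FusZ.main hT N hNs hZ
  rw [hc] at h2 h3
  rw [hNS] at h1 h3
  exact ⟨K, h1, h2, h3⟩

end Cfsg.Agent.S5295
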