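import Mathlib
import Cfsg.Statements.S5726
-- import your own Cfsg.Agent.* helpers here

set_option autoImplicit false
open Cfsg

namespace Cfsg.Agent.S5726

/-- If a finite group acts faithfully and transitively on a set with p^k elements, p a prime and k ≥ 1, then some element of order p fixes no point. -/
theorem result {G Ω : Type*} [Group G] [Finite G] [MulAction G Ω] [FaithfulSMul G Ω] [Fintype Ω] (htr : MulAction.IsPretransitive G Ω)
    (p k : ℕ) (hp : p.Prime) (hk : 1 ≤ k) (hΩ : Fintype.card Ω = p ^ k) :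
    ∃ g : G, orderOf g = p ∧ ∀ ω : Ω, g • ω ≠ ω := by
  classical
  have hpF : Fact p.Prime := ⟨hp⟩
  obtain ⟨ω₀⟩ : Nonempty Ω := by
    by_contra h
    rw [not_nonempty_iff] at h
    rw [Fintype.card_eq_zero] at hΩ
    exact (pow_pos hp.pos k).ne' hΩ.symm
  let P : Sylow p G := default
  have hcardP : Nat.card P = p ^ (Nat.card G).factorization p := Sylow.card_eq_multiplicity P
  have hG0 : Nat.card G ≠ 0 := Nat.card_pos.ne'
  obtain ⟨c, hc, hGc⟩ : ∃ c, ¬ p ∣ c ∧ Nat.card G = p ^ (Nat.card G).factorization p * c := by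
    refine ⟨(Nat.card G) / p ^ (Nat.card G).factorization p, Nat.not_dvd_ordCompl hp hG0, ?_⟩
    exact (Nat.ordProj_mul_ordCompl_eq_self _ _).symm
  set a := (Nat.card G).factorization p with ha
  let S := MulAction.stabilizer G ω₀
  have hidx : S.index = p ^ k := by
    rw [MulAction.index_stabilizer, MulAction.orbit_eq_univ G ω₀, Set.ncard_univ,
      Nat.card_eq_fintype_card, hΩ]
  have hG : Nat.card S * p ^ k = Nat.card G := by
    rw [← hidx]; exact S.card_mul_index
  -- the stabiliser in P
  let A : Subgroup P := MulAction.stabilizer P ω₀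
  have hAdvd : Nat.card A ∣ Nat.card P := Subgroup.card_subgroup_dvd_card A
  rw [hcardP] at hAdvd
  obtain ⟨b, hb, hAb⟩ := (Nat.dvd_prime_pow hp).1 hAdvd
  have hAS : Nat.card A ∣ Nat.card S := by
    let f : A →* S :=
      { toFun := fun x => ⟨((x : P) : G), x.2⟩
        map_one' := rfl
        map_mul' := fun _ _ => rfl }
    have hf : Function.Injective f := by
      intro x y hxy
      have : ((x : P) : G) = ((y : P) : G) := congrArg (fun z : S => (z : G)) hxy
      exact Subtype.ext (Subtype.ext this)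
    have h := Subgroup.card_dvd_of_injective f hf
    exact h
  have hbk : b + k ≤ a := by
    have h1 : p ^ (b + k) ∣ p ^ a * c := by
      rw [← hGc, ← hG, pow_add, ← hAb]
      exact Nat.mul_dvd_mul_right hAS _
    have h2 : p ^ (b + k) ∣ p ^ a :=
      (Nat.Coprime.dvd_of_dvd_mul_right
        (Nat.Coprime.pow_left _ ((Nat.Prime.coprime_iff_not_dvd hp).2 hc)) h1)
    exact (Nat.pow_dvd_pow_iff_le_right hp.one_lt).1 h2
  have hAidx : A.index = p ^ (a - b) := by
    have h := A.card_mul_index
    rw [hcardP, hAb] at h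
    have h' : p ^ b * p ^ (a - b) = p ^ a := by
      rw [← pow_add]; congr 1; omega
    exact Nat.eq_of_mul_eq_mul_left (pow_pos hp.pos b) (h.trans h'.symm)
  have htrans : ∀ ω : Ω, ∃ x : P, x • ω₀ = ω := by
    have h1 : (MulAction.orbit P ω₀).ncard = p ^ (a - b) := by
      rw [← MulAction.index_stabilizer]; exact hAidx
    have h2 : MulAction.orbit P ω₀ = Set.univ := by
      apply Set.eq_of_subset_of_ncard_le (Set.subset_univ _)
      rw [h1, Set.ncard_univ, Nat.card_eq_fintype_card, hΩ]
      exact Nat.pow_le_pow_right hp.pos (by omega)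
    intro ω
    have : ω ∈ MulAction.orbit P ω₀ := by rw [h2]; trivial
    obtain ⟨x, hx⟩ := this
    exact ⟨x, hx⟩
  -- a central element of order p
  have hPpg : IsPGroup p P := P.isPGroup'
  have hapos : 1 ≤ a := by omega
  have hnt : Nontrivial P := by
    apply Finite.one_lt_card_iff_nontrivial.1
    rw [hcardP]
    exact Nat.one_lt_pow (by omega) hp.one_lt
  have hcnt := hPpg.center_nontrivial
  have hpc : p ∣ Nat.card (Subgroup.center P) := by
    have h1 : IsPGroup p (Subgroup.center P) := hPpg.to_subgroup (Subgroup.center P)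
    obtain ⟨j, hj⟩ := IsPGroup.iff_card.1 h1
    have hj0 : j ≠ 0 := by
      rintro rfl
      rw [pow_zero] at hj
      have := Finite.one_lt_card_iff_nontrivial.2 hcnt
      omega
    rw [hj]
    exact dvd_pow_self p hj0
  obtain ⟨z, hz⟩ := exists_prime_orderOf_dvd_card' p hpc
  have hzG : orderOf (((z : Subgroup.center P) : P) : G) = p := by
    rw [Subgroup.orderOf_coe, Subgroup.orderOf_coe]; exact hz
  refine ⟨(((z : Subgroup.center P) : P) : G), hzG, ?_⟩
  intro ω hω
  have hall : ∀ ω' : Ω, (((z : Subgroup.center P) : P) : G) • ω' = ω' := by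
    intro ω'
    obtain ⟨x, hx⟩ := htrans ω
    obtain ⟨y, hy⟩ := htrans ω'
    have hω'' : ω' = ((y * x⁻¹ : P) : G) • ω := by
      have hx' : (x : G) • ω₀ = ω := hx
      have hy' : (y : G) • ω₀ = ω' := hy
      rw [Subgroup.coe_mul, Subgroup.coe_inv, mul_smul, ← hx', inv_smul_smul, hy']
    have hcomm : ((z : Subgroup.center P) : P) * (y * x⁻¹) = (y * x⁻¹) * ((z : Subgroup.center P) : P) :=
      (Subgroup.mem_center_iff.1 z.2 (y * x⁻¹)).symm
    have hcomm' : (((z : Subgroup.center P) : P) : G) * ((y * x⁻¹ : P) : G) = ((y * x⁻¹ : P) : G) * (((z : Subgroup.center P) : P) : G) := by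
      exact_mod_cast congrArg (fun w : P => (w : G)) hcomm
    rw [hω'', ← mul_smul, hcomm', mul_smul, hω]
  have h1 : (((z : Subgroup.center P) : P) : G) = 1 := by
    apply FaithfulSMul.eq_of_smul_eq_smul (α := Ω)
    intro ω'
    rw [hall, one_smul]
  rw [h1, orderOf_one] at hzG
  exact hp.one_lt.ne hzG

end Cfsg.Agent.S5726
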