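import Mathlib
import Cfsg.Statements.S5727
-- import your own Cfsg.Agent.* helpers here

set_option autoImplicit false
open Cfsg

namespace Cfsg.Agent.S5727

theorem nc {G Ω : Type*} [Group G] [Finite G] [MulAction G Ω] (x : Ω) :
    Nat.card (MulAction.orbit G x) * Nat.card (MulAction.stabilizer G x) = Nat.card G := by
  rw [← Subgroup.card_mul_index (MulAction.stabilizer G x), MulAction.index_stabilizer, Nat.card_coe_set_eq, mul_comm]

/-- If a finite group acts faithfully and transitively on a set with m·p elements, where p is a prime and 1 ≤ m ≤ p, then some element of order p fixes no point. -/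
theorem result {G Ω : Type*} [Group G] [Finite G] [MulAction G Ω] [FaithfulSMul G Ω] [Fintype Ω] (htr : MulAction.IsPretransitive G Ω)
    (p m : ℕ) (hp : p.Prime) (hm : 1 ≤ m) (hmp : m ≤ p) (hΩ : Fintype.card Ω = m * p) :
    ∃ g : G, orderOf g = p ∧ ∀ ω : Ω, g • ω ≠ ω := by
  classical
  haveI : Fact p.Prime := ⟨hp⟩
  obtain ⟨P⟩ : Nonempty (Sylow p G) := inferInstance
  haveI : Nonempty Ω := by
    rw [← Fintype.card_pos_iff, hΩ]
    exact Nat.mul_pos hm hp.pos
  have hpP : IsPGroup p (P : Subgroup G) := P.isPGroup'
  obtain ⟨n, hn⟩ := IsPGroup.iff_card.mp hpP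
  -- the orbit-size computation
  have hG : ∀ x : Ω, Nat.card G = m * p * Nat.card (MulAction.stabilizer G x) := by
    intro x
    have h1 := nc (G := G) x
    have h2 : MulAction.orbit G x = Set.univ := MulAction.orbit_eq_univ G x
    rw [h2, Nat.card_eq_fintype_card (α := (Set.univ : Set Ω)), Fintype.card_setUniv, hΩ] at h1
    exact h1.symm
  have hord : ∀ x : Ω, ∃ e, Nat.card (MulAction.orbit (P : Subgroup G) x) * P.1.index = m * p * e := by
    intro x
    have h1 := nc (G := (P : Subgroup G)) x
    have h2 : Nat.card (MulAction.stabilizer (P : Subgroup G) x) ∣ Nat.card (MulAction.stabilizer G x) := by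
      let f : MulAction.stabilizer (P : Subgroup G) x →* MulAction.stabilizer G x :=
        { toFun := fun h => ⟨(h.1 : G), h.2⟩
          map_one' := rfl
          map_mul' := fun _ _ => rfl }
      refine Subgroup.card_dvd_of_injective f ?_
      intro a b hab
      apply Subtype.ext
      apply Subtype.ext
      exact congrArg (fun z : MulAction.stabilizer G x => (z : G)) hab
    obtain ⟨e, he⟩ := h2
    refine ⟨e, ?_⟩
    have h3 := Subgroup.card_mul_index (P : Subgroup G)
    have hpos : 0 < Nat.card (MulAction.stabilizer (P : Subgroup G) x) := Nat.card_pos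
    apply Nat.eq_of_mul_eq_mul_left hpos
    calc Nat.card (MulAction.stabilizer (P : Subgroup G) x) * (Nat.card (MulAction.orbit (P : Subgroup G) x) * P.1.index)
        = (Nat.card (MulAction.orbit (P : Subgroup G) x) * Nat.card (MulAction.stabilizer (P : Subgroup G) x)) * P.1.index := by ring
      _ = Nat.card G := by rw [h1, h3]
      _ = m * p * Nat.card (MulAction.stabilizer G x) := hG x
      _ = _ := by rw [he]; ring
  have hndvd : ¬ p ∣ P.1.index := P.not_dvd_index
  have hodvd : ∀ x : Ω, Nat.card (MulAction.orbit (P : Subgroup G) x) ∣ p ^ n := by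
    intro x
    have h1 := nc (G := (P : Subgroup G)) x
    rw [← hn, ← h1]
    exact dvd_mul_right _ _
  have hopow : ∀ x : Ω, ∃ j, Nat.card (MulAction.orbit (P : Subgroup G) x) = p ^ j := by
    intro x
    obtain ⟨j, _, hj⟩ := (Nat.dvd_prime_pow hp).mp (hodvd x)
    exact ⟨j, hj⟩
  have hole : ∀ x : Ω, Nat.card (MulAction.orbit (P : Subgroup G) x) ≤ m * p := by
    intro x
    rw [← hΩ, ← Nat.card_eq_fintype_card]
    exact Nat.card_le_card_of_injective _ Subtype.val_injective
  rcases (Nat.lt_or_ge m p) with hlt | hge
  · -- `m < p`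
    have ho : ∀ x : Ω, Nat.card (MulAction.orbit (P : Subgroup G) x) = p := by
      intro x
      obtain ⟨e, he⟩ := hord x
      obtain ⟨j, hj⟩ := hopow x
      have h1 : p ∣ Nat.card (MulAction.orbit (P : Subgroup G) x) := by
        have : p ∣ Nat.card (MulAction.orbit (P : Subgroup G) x) * P.1.index := ⟨m * e, by rw [he]; ring⟩
        exact (hp.dvd_mul.mp this).resolve_right hndvd
      have h2 := hole x
      rw [hj] at h1 h2 ⊢
      have hj0 : j ≠ 0 := by
        rintro rfl
        rw [pow_zero] at h1
        exact hp.one_lt.ne' (Nat.dvd_one.mp h1)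
      have hj2 : j < 2 := by
        by_contra hc
        have h3 : p ^ 2 ≤ p ^ j := Nat.pow_le_pow_right hp.pos (by omega)
        have h4 : m * p < p ^ 2 := by
          rw [sq]
          exact Nat.mul_lt_mul_of_pos_right hlt hp.pos
        omega
      have : j = 1 := by omega
      rw [this, pow_one]
    have hHidx : ∀ x : Ω, (MulAction.stabilizer (P : Subgroup G) x).index = p := by
      intro x
      rw [MulAction.index_stabilizer]
      exact ho x
    have hn0 : n ≠ 0 := by
      rintro rfl
      obtain ⟨x⟩ := ‹Nonempty Ω›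
      have := hodvd x
      rw [ho x, pow_zero] at this
      exact hp.one_lt.ne' (Nat.dvd_one.mp this)
    have hnorm : ∀ x : Ω, (MulAction.stabilizer (P : Subgroup G) x).Normal := by
      intro x
      apply Subgroup.normal_of_index_eq_minFac_card
      rw [hHidx, hn, hp.pow_minFac hn0]
    -- counting the orbits
    let T := MulAction.orbitRel.Quotient (P : Subgroup G) Ω
    letI : Fintype T := Fintype.ofFinite T
    have hT : Nat.card T * p = m * p := by
      have h1 := Nat.card_congr (MulAction.selfEquivSigmaOrbits (P : Subgroup G) Ω)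
      rw [Nat.card_sigma] at h1
      rw [Nat.card_eq_fintype_card, hΩ] at h1
      rw [h1, Finset.sum_congr rfl (fun t _ => ho _), Finset.sum_const, Finset.card_univ, smul_eq_mul, Nat.card_eq_fintype_card]
    have hT' : Nat.card T = m := Nat.eq_of_mul_eq_mul_right hp.pos hT
    -- an element without fixed point
    have hex : ∃ g : (P : Subgroup G), ∀ x : Ω, g • x ≠ x := by
      by_contra hc
      push Not at hc
      let f : (Σ t : T, MulAction.stabilizer (P : Subgroup G) (Quotient.out t)) → (P : Subgroup G) := fun a => a.2.1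
      have hf : Function.Surjective f := by
        intro g
        obtain ⟨y, hy⟩ := hc g
        let t : T := Quotient.mk'' y
        have h1 : Quotient.out t ∈ MulAction.orbit (P : Subgroup G) y := by
          have : (MulAction.orbitRel (P : Subgroup G) Ω) (Quotient.out t) y := Quotient.exact (Quotient.out_eq t)
          exact this
        obtain ⟨h, hh⟩ := h1
        have hy' : h⁻¹ ∈ MulAction.stabilizer (P : Subgroup G) (Quotient.out t) ∨ True := Or.inr trivial
        have h2 : h * g * h⁻¹ ∈ MulAction.stabilizer (P : Subgroup G) (Quotient.out t) := by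
          rw [MulAction.mem_stabilizer_iff, ← hh]
          show (h * g * h⁻¹) • (h • y) = h • y
          rw [mul_smul, mul_smul, inv_smul_smul, hy]
        have h3 : g ∈ MulAction.stabilizer (P : Subgroup G) (Quotient.out t) := by
          have := (hnorm (Quotient.out t)).conj_mem _ h2 h⁻¹
          simpa [mul_assoc] using this
        exact ⟨⟨t, ⟨g, h3⟩⟩, rfl⟩
      have h1 := Nat.card_le_card_of_surjective f hf
      rw [Nat.card_sigma] at h1
      have h2 : ∀ t : T, Nat.card (MulAction.stabilizer (P : Subgroup G) (Quotient.out t)) * p = Nat.card (P : Subgroup G) := by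
        intro t
        have := Subgroup.card_mul_index (MulAction.stabilizer (P : Subgroup G) (Quotient.out t))
        rwa [hHidx] at this
      have h3 : (∑ t : T, Nat.card (MulAction.stabilizer (P : Subgroup G) (Quotient.out t))) * p = m * Nat.card (P : Subgroup G) := by
        rw [Finset.sum_mul, Finset.sum_congr rfl (fun t _ => h2 t), Finset.sum_const, Finset.card_univ, smul_eq_mul,
          ← Nat.card_eq_fintype_card, hT']
      have h4 : Nat.card (P : Subgroup G) * p ≤ m * Nat.card (P : Subgroup G) := by
        rw [← h3]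
        exact Nat.mul_le_mul_right _ h1
      have h5 : 0 < Nat.card (P : Subgroup G) := Nat.card_pos
      have h6 : p ≤ m := by
        rw [mul_comm] at h4
        exact Nat.le_of_mul_le_mul_right h4 h5
      omega
    obtain ⟨g, hg⟩ := hex
    refine ⟨(g : G), ?_, hg⟩
    apply orderOf_eq_prime
    · apply FaithfulSMul.eq_of_smul_eq_smul (α := Ω)
      intro x
      have h1 := Subgroup.pow_index_mem (MulAction.stabilizer (P : Subgroup G) x) g
      rw [hHidx, MulAction.mem_stabilizer_iff] at h1
      rw [one_smul]
      exact h1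
    · intro h
      obtain ⟨x⟩ := ‹Nonempty Ω›
      apply hg x
      have : (g : G) • x = x := by rw [h, one_smul]
      exact this
  · -- `m = p`
    have hmp' : m = p := le_antisymm hmp hge
    subst hmp'
    obtain ⟨x₀⟩ := ‹Nonempty Ω›
    have ho : Nat.card (MulAction.orbit (P : Subgroup G) x₀) = m * m := by
      obtain ⟨e, he⟩ := hord x₀
      have h1 : m * m ∣ Nat.card (MulAction.orbit (P : Subgroup G) x₀) * P.1.index := ⟨e, he⟩
      have h2 : Nat.Coprime (m * m) P.1.index := by
        apply Nat.Coprime.mul_left <;> exact (Nat.Prime.coprime_iff_not_dvd hp).mpr hndvd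
      have h3 := h2.dvd_of_dvd_mul_right h1
      have hpos : 0 < Nat.card (MulAction.orbit (P : Subgroup G) x₀) := by
        haveI : Nonempty (MulAction.orbit (P : Subgroup G) x₀) := ⟨⟨x₀, MulAction.mem_orbit_self x₀⟩⟩
        exact Nat.card_pos
      exact le_antisymm (hole x₀) (Nat.le_of_dvd hpos h3)
    have hnt : Nontrivial (P : Subgroup G) := by
      rw [← Finite.one_lt_card_iff_nontrivial]
      have h1 := hodvd x₀
      rw [← hn] at h1
      rw [ho] at h1
      have h2 := Nat.le_of_dvd Nat.card_pos h1
      have h3 : 1 < m * m := by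
        have := hp.one_lt
        nlinarith
      omega
    have hc := hpP.center_nontrivial
    obtain ⟨k, hk⟩ := IsPGroup.iff_card.mp (hpP.to_subgroup (Subgroup.center (P : Subgroup G)))
    have hk0 : k ≠ 0 := by
      rintro rfl
      rw [pow_zero] at hk
      have := Finite.one_lt_card_iff_nontrivial.mpr hc
      omega
    obtain ⟨z, hz⟩ := exists_prime_orderOf_dvd_card' (G := Subgroup.center (P : Subgroup G)) m (by
      rw [hk]
      exact dvd_pow_self _ hk0)
    have hzG : orderOf (((z : (P : Subgroup G)) : G)) = m := by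
      rw [Subgroup.orderOf_coe, Subgroup.orderOf_coe, hz]
    refine ⟨_, hzG, ?_⟩
    intro ω hω
    have huniv : MulAction.orbit (P : Subgroup G) x₀ = Set.univ := by
      apply Set.eq_of_subset_of_ncard_le (Set.subset_univ _)
      rw [Set.ncard_univ, Nat.card_eq_fintype_card, hΩ]
      exact ho.ge
    have huniv2 : ∀ y : Ω, ∃ h : (P : Subgroup G), h • ω = y := by
      intro y
      have h1 : ω ∈ MulAction.orbit (P : Subgroup G) x₀ := by rw [huniv]; trivial
      have h2 : y ∈ MulAction.orbit (P : Subgroup G) x₀ := by rw [huniv]; trivial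
      obtain ⟨a, ha⟩ := h1
      obtain ⟨b, hb⟩ := h2
      refine ⟨b * a⁻¹, ?_⟩
      show (b * a⁻¹) • ω = y
      rw [mul_smul, ← ha, inv_smul_smul]
      exact hb
    have hone : ((z : (P : Subgroup G)) : G) = 1 := by
      apply FaithfulSMul.eq_of_smul_eq_smul (α := Ω)
      intro y
      obtain ⟨h, rfl⟩ := huniv2 y
      rw [one_smul]
      have hcomm : (z : (P : Subgroup G)) * h = h * z := (Subgroup.mem_center_iff.mp z.2 h).symm
      have : ((z : (P : Subgroup G)) : G) • (h • ω) = (z : (P : Subgroup G)) • (h • ω) := rfl
      rw [this, smul_smul, hcomm, mul_smul]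
      congr 1
    rw [hone, orderOf_one] at hzG
    exact hp.one_lt.ne hzG

end Cfsg.Agent.S5727
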