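import Mathlib
import Cfsg.Statements.S5728
-- import your own Cfsg.Agent.* helpers here

set_option autoImplicit false
open Cfsg

namespace Cfsg.Agent.S5728

/-- An elusive transitive action. Let p = 2^s − 1 be a prime and let F be the field with p² elements. Inside the group of affine maps x ↦ a·x + b of F (a ≠ 0), consider the subgroup of maps with both coefficients in the prime field. Then every element of prime order of the affine group is conjugate, within the affine group, to an element of that subgroup; equivalently, in the transitive action of the affine group on the cosets of that subgroup (of degree p(p + 1)) every element of prime order fixes a point. -/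
theorem result (p s : ℕ) [Fact p.Prime] (hs : p = 2 ^ s - 1)
    (g : Equiv.Perm (GaloisField p 2)) (hg : g ∈ Cfsg.affineGroup (GaloisField p 2)) (hord : (orderOf g).Prime) :
    ∃ x ∈ Cfsg.affineGroup (GaloisField p 2), ∃ a b : ZMod p, a ≠ 0 ∧
      ∀ y : GaloisField p 2, (x * g * x⁻¹) y = algebraMap (ZMod p) (GaloisField p 2) a * y + algebraMap (ZMod p) (GaloisField p 2) b := by
  classical
  obtain ⟨α, β, hgf⟩ := hg
  have hcard : Nat.card (GaloisField p 2) = p ^ 2 := GaloisField.card p 2 (by norm_num)
  have hp := Fact.out (p := p.Prime)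
  have hp1 : p + 1 = 2 ^ s := by
    have h1 : 1 ≤ 2 ^ s := Nat.one_le_two_pow
    omega
  have hai : ∀ (x : Equiv.Perm (GaloisField p 2)) y, x (x⁻¹ y) = y := fun x y => by
    rw [Equiv.Perm.inv_def]; exact x.apply_symm_apply y
  by_cases hα : (α : GaloisField p 2) = 1
  · -- translation
    have hβ : β ≠ 0 := by
      rintro rfl
      have hg1 : g = 1 := by
        ext y
        rw [hgf, hα]
        simp
      rw [hg1, orderOf_one] at hord
      exact Nat.not_prime_one hord
    let x : Equiv.Perm (GaloisField p 2) := Equiv.mulLeft₀ β⁻¹ (inv_ne_zero hβ)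
    have hx : ∀ y, x y = β⁻¹ * y := fun y => rfl
    have hxi : ∀ y, x⁻¹ y = β * y := by
      intro y
      apply x.injective
      rw [hai, hx, inv_mul_cancel_left₀ hβ]
    refine ⟨x, ⟨Units.mk0 β⁻¹ (inv_ne_zero hβ), 0, fun y => by simp [hx]⟩, 1, 1, one_ne_zero, fun y => ?_⟩
    simp only [Equiv.Perm.coe_mul, Function.comp_apply, hxi, hgf, hα, hx, map_one, one_mul]
    field_simp
  · -- a fixed point
    have h1α : (1 : GaloisField p 2) - α ≠ 0 := sub_ne_zero.2 (Ne.symm hα)
    obtain ⟨y₀, hy₀⟩ : ∃ y₀ : GaloisField p 2, y₀ = β / (1 - α) := ⟨_, rfl⟩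
    have hfix : (α : GaloisField p 2) * y₀ + β = y₀ := by
      rw [hy₀]; field_simp; ring
    let x : Equiv.Perm (GaloisField p 2) := Equiv.subRight y₀
    have hx : ∀ y, x y = y - y₀ := fun y => rfl
    have hxi : ∀ y, x⁻¹ y = y + y₀ := by
      intro y
      apply x.injective
      rw [hai, hx]; ring
    have hconj : ∀ y, (x * g * x⁻¹) y = (α : GaloisField p 2) * y := by
      intro y
      simp only [Equiv.Perm.coe_mul, Function.comp_apply, hxi, hgf, hx]
      linear_combination hfix
    have hxmem : x ∈ Cfsg.affineGroup (GaloisField p 2) := ⟨1, -y₀, fun y => by simp [hx, sub_eq_add_neg]⟩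
    have hpowc : ∀ k y, ((x * g * x⁻¹) ^ k) y = (α : GaloisField p 2) ^ k * y := by
      intro k
      induction k with
      | zero => intro y; simp
      | succ k ih =>
        intro y
        rw [pow_succ, Equiv.Perm.coe_mul, Function.comp_apply, hconj, ih, pow_succ, mul_assoc]
    have hordc : orderOf (x * g * x⁻¹) = orderOf g := by
      have : x * g * x⁻¹ = (MulAut.conj x) g := rfl
      rw [this]
      exact orderOf_injective (MulAut.conj x).toMonoidHom (MulAut.conj x).injective g
    obtain ⟨ℓ, hℓ⟩ : ∃ ℓ, ℓ = orderOf g := ⟨_, rfl⟩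
    have hℓp : ℓ.Prime := hℓ ▸ hord
    have hαℓ : (α : GaloisField p 2) ^ ℓ = 1 := by
      have h1 := pow_orderOf_eq_one (x * g * x⁻¹)
      rw [hordc, ← hℓ] at h1
      have h2 := hpowc ℓ 1
      rw [h1, mul_one] at h2
      simpa using h2.symm
    have hαq : (α : GaloisField p 2) ^ (p ^ 2 - 1) = 1 := by
      haveI : Finite (GaloisField p 2) := Nat.finite_of_card_ne_zero (by rw [hcard]; exact pow_ne_zero 2 hp.ne_zero)
      letI := Fintype.ofFinite (GaloisField p 2)
      have := FiniteField.pow_card_sub_one_eq_one (K := GaloisField p 2) (α : GaloisField p 2) α.ne_zero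
      rwa [← Nat.card_eq_fintype_card, hcard] at this
    have hαfact : ∃ a : ZMod p, a ≠ 0 ∧ algebraMap (ZMod p) (GaloisField p 2) a = (α : GaloisField p 2) := by
      have hordα : orderOf (α : GaloisField p 2) = ℓ := orderOf_eq_prime (p := ℓ) (hp := ⟨hℓp⟩) hαℓ hα
      have hdvd : ℓ ∣ p ^ 2 - 1 := hordα ▸ orderOf_dvd_of_pow_eq_one hαq
      have hmem : (α : GaloisField p 2) ^ p = α := by
        by_cases hℓ2 : ℓ = 2
        · subst hℓ2
          have h3 : ((α : GaloisField p 2) - 1) * ((α : GaloisField p 2) + 1) = 0 := by
            linear_combination hαℓ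
          have h4 : (α : GaloisField p 2) = -1 := by
            rcases mul_eq_zero.1 h3 with h | h
            · exact absurd (sub_eq_zero.1 h) hα
            · exact eq_neg_of_add_eq_zero_left h
          rw [h4]
          have hodd : Odd p := by
            apply Nat.odd_iff.2
            have : 2 ≤ 2 ^ s := by
              rcases s with _ | s
              · simp at hs; exact absurd hp (by rw [hs]; exact Nat.not_prime_zero)
              · rw [pow_succ]; have := Nat.one_le_two_pow (n := s); omega
            have h5 : Even (2 ^ s) := by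
              rcases s with _ | s
              · simp at this
              · exact (Nat.even_pow.2 ⟨even_two, by omega⟩)
            rcases h5 with ⟨t, ht⟩
            omega
          exact hodd.neg_one_pow
        · have hfac : p ^ 2 - 1 = (p - 1) * 2 ^ s := by
            rw [← hp1]
            have h1 : 1 ≤ p := hp.one_le
            obtain ⟨k, rfl⟩ : ∃ k, p = k + 1 := ⟨p - 1, by omega⟩
            simp only [Nat.add_sub_cancel]
            have : (k + 1) ^ 2 = k * (k + 1 + 1) + 1 := by ring
            rw [this]; simp
          rw [hfac] at hdvd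
          have hd2 : ℓ ∣ p - 1 := by
            rcases (Nat.Prime.dvd_mul hℓp).1 hdvd with h | h
            · exact h
            · exact absurd ((Nat.prime_dvd_prime_iff_eq hℓp Nat.prime_two).1 (hℓp.dvd_of_dvd_pow h)) hℓ2
          have h6 : (α : GaloisField p 2) ^ (p - 1) = 1 := by
            obtain ⟨c, hc⟩ := hd2
            rw [hc, pow_mul, hαℓ, one_pow]
          have h1 : 1 ≤ p := hp.one_le
          calc (α : GaloisField p 2) ^ p = (α : GaloisField p 2) ^ (p - 1 + 1) := by
                congr 1; omega
            _ = α := by rw [pow_succ, h6, one_mul]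
      have hb : (α : GaloisField p 2) ∈ (⊥ : Subfield (GaloisField p 2)) :=
        (Subfield.mem_bot_iff_pow_eq_self (GaloisField p 2) p).2 hmem
      have hle : (⊥ : Subfield (GaloisField p 2)) ≤ (algebraMap (ZMod p) (GaloisField p 2)).fieldRange := bot_le
      obtain ⟨a, ha⟩ := hle hb
      refine ⟨a, ?_, ha⟩
      rintro rfl
      rw [map_zero] at ha
      exact α.ne_zero ha.symm
    obtain ⟨a, ha0, ha⟩ := hαfact
    refine ⟨x, hxmem, a, 0, ha0, fun y => ?_⟩
    rw [hconj, ha, map_zero, add_zero]

end Cfsg.Agent.S5728
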